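import Groth.Agent.Lib.Helper6.Grass.Shuffle

/-!
# Grassmannian standard monomial theory: straightening (helper6)
-/

open scoped Classical
set_option linter.unusedSectionVars false
set_option autoImplicit false

universe u

noncomputable section

namespace Groth.Agent.Lib.Helper6.Gr

open W4bk4grassmannian MvPolynomial

variable {d n : ℕ}

lemma exists_pivot (a b : Idx d n) (h : ¬ b ≤ a) : ∃ r : Fin d, IsPivot a b r := by
  have h1 : ∃ t, a.1 t < b.1 t := by
    by_contra hcon
    push Not at hcon
    exact h hcon
  set S := Finset.univ.filter (fun t : Fin d => a.1 t < b.1 t) with hS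
  have hne : S.Nonempty := by
    obtain ⟨t, ht⟩ := h1
    exact ⟨t, by simp [hS, ht]⟩
  refine ⟨S.min' hne, ?_, ?_⟩
  · intro t ht
    by_contra hcon
    push Not at hcon
    have : t ∈ S := by simp [hS, hcon]
    exact absurd (Finset.min'_le S t this) (not_le.mpr ht)
  · have := Finset.min'_mem S hne
    simp only [hS, Finset.mem_filter, Finset.mem_univ, true_and] at this
    exact this

variable (K : Type u) [CommRing K]

/-- The span of the products `X a' * X b'` with `a < a'`. -/
def upSpan (a : Idx d n) : Submodule K (PlRing K d n) :=
  Submodule.span K {f : PlRing K d n | ∃ a' b' : Idx d n, a < a' ∧ f = X a' * X b'}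

lemma neg_one_pow_mul_mem {M : Submodule K (PlRing K d n)} {y : PlRing K d n} (hy : y ∈ M)
    (k : ℕ) : (-1 : PlRing K d n) ^ k * y ∈ M := by
  rcases neg_one_pow_eq_or (PlRing K d n) k with h | h
  · rw [h, one_mul]; exact hy
  · rw [h, neg_one_mul]; exact M.neg_mem hy

lemma shuffleTerm_mem_upSpan (a b : Idx d n) (r : Fin d) (hp : a.1 r < b.1 r)
    (A : Finset (Fin (d + 1))) (hne : A ≠ A0 r) : shuffleTerm K a b r A ∈ upSpan K a := by
  unfold shuffleTerm
  by_cases hA : A.card = r.val + 1
  · rw [dif_pos hA]
    unfold coord
    by_cases hf : (Finset.univ.image (shuffleI a b r A hA)).card = d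
    · by_cases hg : (Finset.univ.image (shuffleJ a b r A hA)).card = d
      · rw [dif_pos hf, dif_pos hg]
        have hmem : X (sortIdx d n (shuffleI a b r A hA) hf) * X (sortIdx d n (shuffleJ a b r A hA) hg)
            ∈ upSpan K a := by
          apply Submodule.subset_span
          refine ⟨_, _, ?_, rfl⟩
          have hle := le_sortIdx a _ hf (le_shuffleI a b r hp A hA)
          refine lt_of_le_of_ne hle ?_
          intro heq
          have := eq_of_sortIdx_eq a _ hf (le_shuffleI a b r hp A hA) heq.symm
          exact hne (eq_A0_of_shuffleI_eq a b r hp A hA this)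
        have e : (-1 : PlRing K d n) ^ shuffleSign r A *
            ((-1) ^ invCount d n (shuffleI a b r A hA) * X (sortIdx d n (shuffleI a b r A hA) hf)) *
            ((-1) ^ invCount d n (shuffleJ a b r A hA) * X (sortIdx d n (shuffleJ a b r A hA) hg)) =
            (-1) ^ shuffleSign r A * ((-1) ^ invCount d n (shuffleI a b r A hA) *
              ((-1) ^ invCount d n (shuffleJ a b r A hA) *
              (X (sortIdx d n (shuffleI a b r A hA) hf) * X (sortIdx d n (shuffleJ a b r A hA) hg)))) := by
          ring
        rw [e]
        exact neg_one_pow_mul_mem K (neg_one_pow_mul_mem K (neg_one_pow_mul_mem K hmem _) _) _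
      · rw [dif_neg hg, mul_zero]; exact Submodule.zero_mem _
    · rw [dif_neg hf, mul_zero, zero_mul]; exact Submodule.zero_mem _
  · rw [dif_neg hA]; exact Submodule.zero_mem _

/-- The quadratic straightening step: if `a ≱ b` then `X a X b` is, modulo the shuffle relations,
a combination of `X a' X b'` with `a < a'`. -/
lemma pair_rel (a b : Idx d n) (h : ¬ b ≤ a) :
    X a * X b ∈ upSpan K a ⊔ (plIdealTop (d := d) (n := n) K).restrictScalars K := by
  obtain ⟨r, hr⟩ := exists_pivot a b h
  have hrel : shuffleRel K a b r ∈ plIdealTop (d := d) (n := n) K :=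
    Ideal.subset_span ⟨a, b, r, hr, rfl⟩
  have hsplit : shuffleRel K a b r =
      X a * X b + ∑ A ∈ Finset.univ.erase (A0 r), shuffleTerm K a b r A := by
    unfold shuffleRel
    rw [← Finset.add_sum_erase _ _ (Finset.mem_univ (A0 r)), shuffleTerm_A0]
  have hterms : ∑ A ∈ Finset.univ.erase (A0 r), shuffleTerm K a b r A ∈ upSpan K a := by
    apply Submodule.sum_mem
    intro A hA
    exact shuffleTerm_mem_upSpan K a b r hr.2 A (Finset.ne_of_mem_erase hA)
  have e : X a * X b = shuffleRel K a b r - ∑ A ∈ Finset.univ.erase (A0 r), shuffleTerm K a b r A := by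
    rw [hsplit]; ring
  rw [e]
  exact Submodule.sub_mem _ (Submodule.mem_sup_right hrel) (Submodule.mem_sup_left hterms)

/-- The quotient by the shuffle relations. -/
abbrev QTop : Type u := PlRing K d n ⧸ plIdealTop (d := d) (n := n) K

/-- Span of the standard monomials of degree `m` modulo the shuffle relations. -/
def stdSpan (m : ℕ) : Submodule K (PlRing K d n ⧸ plIdealTop (d := d) (n := n) K) :=
  Submodule.span K (Set.range fun c : {c : Fin m → Idx d n // Antitone c} =>
    Ideal.Quotient.mk (plIdealTop (d := d) (n := n) K) (chainMon K c.1))

lemma chainMon_cons {m : ℕ} (a : Idx d n) (c : Fin m → Idx d n) :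
    chainMon K (Fin.cons a c : Fin (m + 1) → Idx d n) = X a * chainMon K c := by
  unfold chainMon
  rw [Fin.prod_univ_succ]
  simp only [Fin.cons_zero, Fin.cons_succ]

lemma antitone_cons {m : ℕ} (a : Idx d n) (c : Fin (m + 1) → Idx d n) (hc : Antitone c)
    (h : c 0 ≤ a) : Antitone (Fin.cons a c : Fin (m + 2) → Idx d n) := by
  intro x y hxy
  induction x using Fin.cases with
  | zero =>
    induction y using Fin.cases with
    | zero => exact le_refl _
    | succ y =>
      rw [Fin.cons_zero, Fin.cons_succ]
      exact le_trans (hc (Fin.zero_le y)) h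
  | succ x =>
    induction y using Fin.cases with
    | zero => exact absurd hxy (by simp)
    | succ y =>
      rw [Fin.cons_succ, Fin.cons_succ]
      exact hc (Fin.succ_le_succ_iff.mp hxy)

lemma mk_chainMon_mem (m : ℕ) : ∀ c : Fin m → Idx d n,
    Ideal.Quotient.mk (plIdealTop (d := d) (n := n) K) (chainMon K c) ∈ stdSpan K (d := d) (n := n) m := by
  induction m with
  | zero =>
    intro c
    exact Submodule.subset_span ⟨⟨c, fun x => x.elim0⟩, rfl⟩
  | succ m ih =>
    -- key claim
    have Q : ∀ a : Idx d n, ∀ rest : Fin m → Idx d n,
        Ideal.Quotient.mk (plIdealTop (d := d) (n := n) K) (X a * chainMon K rest) ∈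
          stdSpan K (d := d) (n := n) (m + 1) := by
      intro a
      induction a using WellFoundedGT.induction with
      | ind a IHa =>
        intro rest
        -- multiplication by X a on the quotient
        set Lq : (PlRing K d n ⧸ plIdealTop (d := d) (n := n) K) →ₗ[K]
            (PlRing K d n ⧸ plIdealTop (d := d) (n := n) K) :=
          LinearMap.mulLeft K (Ideal.Quotient.mk (plIdealTop (d := d) (n := n) K) (X a)) with hLq
        have hle : stdSpan K (d := d) (n := n) m ≤ (stdSpan K (d := d) (n := n) (m + 1)).comap Lq := by
          unfold stdSpan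
          rw [Submodule.span_le]
          rintro _ ⟨⟨c', hc'⟩, rfl⟩
          rw [SetLike.mem_coe, Submodule.mem_comap]
          simp only [hLq, LinearMap.mulLeft_apply, ← map_mul]
          -- generator case
          cases m with
          | zero =>
            rw [← chainMon_cons]
            exact Submodule.subset_span ⟨⟨Fin.cons a c', fun x y _ => by
              have : x = y := by
                apply Fin.ext; have := x.isLt; have := y.isLt; omega
              rw [this]⟩, rfl⟩
          | succ m' =>
            by_cases hb : c' 0 ≤ a
            · rw [← chainMon_cons]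
              exact Submodule.subset_span ⟨⟨Fin.cons a c', antitone_cons a c' hc' hb⟩, rfl⟩
            · have hpr := pair_rel K a (c' 0) hb
              have hc'eq : chainMon K c' = X (c' 0) * chainMon K (Fin.tail c') := by
                rw [← chainMon_cons, Fin.cons_self_tail]
              set g := chainMon K (Fin.tail c') with hg
              set Lg : PlRing K d n →ₗ[K] (PlRing K d n ⧸ plIdealTop (d := d) (n := n) K) :=
                (Ideal.Quotient.mkₐ K (plIdealTop (d := d) (n := n) K)).toLinearMap ∘ₗ
                  LinearMap.mulRight K g with hLg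
              have hle2 : upSpan K a ⊔ (plIdealTop (d := d) (n := n) K).restrictScalars K ≤
                  (stdSpan K (d := d) (n := n) (m' + 1 + 1)).comap Lg := by
                apply sup_le
                · unfold upSpan
                  rw [Submodule.span_le]
                  rintro _ ⟨a', b', haa', rfl⟩
                  rw [SetLike.mem_coe, Submodule.mem_comap]
                  simp only [hLg, LinearMap.coe_comp, Function.comp_apply, LinearMap.mulRight_apply,
                    AlgHom.toLinearMap_apply, Ideal.Quotient.mkₐ_eq_mk]
                  have := IHa a' haa' (Fin.cons b' (Fin.tail c'))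
                  rw [chainMon_cons, ← mul_assoc] at this
                  exact this
                · intro x hx
                  rw [Submodule.mem_comap]
                  simp only [hLg, LinearMap.coe_comp, Function.comp_apply, LinearMap.mulRight_apply,
                    AlgHom.toLinearMap_apply, Ideal.Quotient.mkₐ_eq_mk]
                  have : x * g ∈ plIdealTop (d := d) (n := n) K := Ideal.mul_mem_right _ _ hx
                  rw [Ideal.Quotient.eq_zero_iff_mem.mpr this]
                  exact Submodule.zero_mem _
              have := hle2 hpr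
              rw [Submodule.mem_comap] at this
              simp only [hLg, LinearMap.coe_comp, Function.comp_apply, LinearMap.mulRight_apply,
                AlgHom.toLinearMap_apply, Ideal.Quotient.mkₐ_eq_mk] at this
              rw [hc'eq, ← mul_assoc]
              exact this
        have := hle (ih rest)
        rw [Submodule.mem_comap] at this
        simpa only [hLq, LinearMap.mulLeft_apply, ← map_mul] using this
    intro c
    have := Q (c 0) (Fin.tail c)
    rw [← chainMon_cons, Fin.cons_self_tail] at this
    exact this

/-- Full span of the standard monomials modulo the shuffle relations. -/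
def fullSpan : Submodule K (PlRing K d n ⧸ plIdealTop (d := d) (n := n) K) :=
  Submodule.span K (Set.range fun c : (Σ m : ℕ, {c : Fin m → Idx d n // Antitone c}) =>
    Ideal.Quotient.mk (plIdealTop (d := d) (n := n) K) (chainMon K c.2.1))

lemma stdSpan_le_fullSpan (m : ℕ) : stdSpan K (d := d) (n := n) m ≤ fullSpan K := by
  unfold stdSpan fullSpan
  apply Submodule.span_mono
  rintro _ ⟨c, rfl⟩
  exact ⟨⟨m, c⟩, rfl⟩

theorem fullSpan_eq_top : fullSpan K (d := d) (n := n) = ⊤ := by
  rw [eq_top_iff]
  intro x _
  obtain ⟨p, rfl⟩ := Ideal.Quotient.mk_surjective x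
  clear * -
  induction p using MvPolynomial.induction_on with
  | C a =>
    have h1 : (C a : PlRing K d n) = a • chainMon K (fun x : Fin 0 => x.elim0) := by
      unfold chainMon
      simp [MvPolynomial.smul_eq_C_mul]
    rw [h1]
    have : Ideal.Quotient.mk (plIdealTop (d := d) (n := n) K)
        (a • chainMon K (fun x : Fin 0 => x.elim0)) =
        a • Ideal.Quotient.mk (plIdealTop (d := d) (n := n) K) (chainMon K (fun x : Fin 0 => x.elim0)) := by
      rfl
    rw [this]
    apply Submodule.smul_mem
    exact stdSpan_le_fullSpan K 0 (mk_chainMon_mem K 0 _)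
  | add p q hp hq =>
    rw [map_add]
    exact Submodule.add_mem _ hp hq
  | mul_X p i hp =>
    set Lq : (PlRing K d n ⧸ plIdealTop (d := d) (n := n) K) →ₗ[K]
        (PlRing K d n ⧸ plIdealTop (d := d) (n := n) K) :=
      LinearMap.mulRight K (Ideal.Quotient.mk (plIdealTop (d := d) (n := n) K) (X i)) with hLq
    have hle : fullSpan K (d := d) (n := n) ≤ (fullSpan K (d := d) (n := n)).comap Lq := by
      unfold fullSpan
      rw [Submodule.span_le]
      rintro _ ⟨⟨m, c, hc⟩, rfl⟩
      rw [SetLike.mem_coe, Submodule.mem_comap]
      simp only [hLq, LinearMap.mulRight_apply, ← map_mul]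
      have := mk_chainMon_mem K (m + 1) (Fin.cons i c : Fin (m + 1) → Idx d n)
      rw [chainMon_cons, mul_comm] at this
      exact stdSpan_le_fullSpan K (m + 1) this
    have := hle hp
    rw [Submodule.mem_comap] at this
    simpa only [hLq, LinearMap.mulRight_apply, ← map_mul] using this

end Groth.Agent.Lib.Helper6.Gr

end
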