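import Groth.Agent.Lib.Helper6.Grass.Indep
import Groth.Agent.Lib.Helper6.Grass.Straighten

/-!
# Grassmannian: ideals of Schubert varieties (helper6)
-/

open scoped Classical
set_option linter.unusedSectionVars false
set_option autoImplicit false

universe u v

noncomputable section

namespace Groth.Agent.Lib.Helper6.Gr

open W4bk4grassmannian MvPolynomial

variable {d n : ℕ}

/-- A square matrix with a zero block of rows `≥ t0` and columns `≤ t0` has determinant zero. -/
lemma det_eq_zero_of_zero_block {R : Type*} [CommRing R] (N : Matrix (Fin d) (Fin d) R) (t0 : Fin d)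
    (h : ∀ s t, t0 ≤ s → t ≤ t0 → N s t = 0) : N.det = 0 := by
  rw [Matrix.det_apply']
  apply Finset.sum_eq_zero
  intro σ _
  have hex : ∃ t, t ≤ t0 ∧ t0 ≤ σ t := by
    by_contra hcon
    push Not at hcon
    have hmaps : ∀ t ∈ Finset.Iic t0, σ t ∈ Finset.Iio t0 := by
      intro t ht
      rw [Finset.mem_Iic] at ht
      rw [Finset.mem_Iio]
      exact hcon t ht
    have := Finset.card_le_card_of_injOn σ hmaps (fun x _ y _ hxy => σ.injective hxy)
    rw [Fin.card_Iic, Fin.card_Iio] at this
    omega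
  obtain ⟨t, ht1, ht2⟩ := hex
  rw [Finset.prod_eq_zero (f := fun i => N (σ i) i) (Finset.mem_univ t) (h _ _ ht2 ht1), mul_zero]

variable (K : Type u) [CommRing K]

/-- `K`-points of the echelon matrix. -/
def LmatAt (τ : Idx d n) (x : Var d n → K) : Matrix (Fin n) (Fin d) K :=
  Matrix.of fun s t => if s ≤ τ.1 t then x (toLex (t, s)) else 0

lemma Lmat_map (τ : Idx d n) (x : Var d n → K) :
    (Lmat K τ).map (MvPolynomial.eval x) = LmatAt K τ x := by
  ext s t
  simp only [Lmat, LmatAt, Matrix.map_apply, Matrix.of_apply]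
  by_cases h : s ≤ τ.1 t
  · rw [if_pos h, if_pos h, eval_X]
  · rw [if_neg h, if_neg h, map_zero]

lemma aeval_eq_eval' {σ : Type*} (x : σ → K) (p : MvPolynomial σ K) :
    (aeval x : MvPolynomial σ K →ₐ[K] K) p = eval x p := rfl

lemma eval_phi (τ : Idx d n) (x : Var d n → K) (f : PlRing K d n) :
    MvPolynomial.eval x (phi K τ f) = evalMinors K d n (LmatAt K τ x) f := by
  have : (MvPolynomial.aeval x : MvPolynomial (Var d n) K →ₐ[K] K).comp (phi K τ) =
      evalMinors K d n (LmatAt K τ x) := by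
    apply MvPolynomial.algHom_ext
    intro θ
    rw [AlgHom.comp_apply]
    unfold phi evalMinors
    rw [evalAt_X, aeval_X, aeval_eq_eval']
    unfold pM
    rw [RingHom.map_det, ← Lmat_map]
    rfl
  rw [← this, AlgHom.comp_apply, aeval_eq_eval']

lemma LmatAt_schubert (τ : Idx d n) (x : Var d n → K) (φ : Idx d n) (hφ : ¬ φ ≤ τ) :
    ((LmatAt K τ x).submatrix φ.1 id).det = 0 := by
  have : ∃ t0, τ.1 t0 < φ.1 t0 := by
    by_contra hcon
    push Not at hcon
    exact hφ hcon
  obtain ⟨t0, ht0⟩ := this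
  apply det_eq_zero_of_zero_block _ t0
  intro s t hs ht
  simp only [LmatAt, Matrix.submatrix_apply, Matrix.of_apply, id_eq]
  rw [if_neg]
  rw [not_le]
  calc τ.1 t ≤ τ.1 t0 := τ.2.monotone ht
    _ < φ.1 t0 := ht0
    _ ≤ φ.1 s := φ.2.monotone hs

/-- `plIdealTop ≤ plIdeal τ`. -/
lemma plIdealTop_le_plIdeal (τ : Idx d n) : plIdealTop (d := d) (n := n) K ≤ plIdeal K τ := by
  unfold plIdealTop plIdeal
  apply Ideal.span_mono
  exact Set.subset_union_left

lemma X_mem_plIdeal (τ φ : Idx d n) (h : ¬ φ ≤ τ) : (X φ : PlRing K d n) ∈ plIdeal K τ := by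
  unfold plIdeal
  exact Ideal.subset_span (Or.inr ⟨φ, h, rfl⟩)

/-- The shuffle relations and the Schubert coordinates lie in the vanishing ideal. -/
theorem plIdeal_le_schubertVanishing (τ : Idx d n) : plIdeal K τ ≤ schubertVanishing K d n τ := by
  unfold plIdeal
  rw [Ideal.span_le]
  intro f hf
  unfold schubertVanishing
  simp only [SetLike.mem_coe, Ideal.mem_iInf]
  intro A hA
  rw [RingHom.mem_ker]
  rcases hf with ⟨i, j, r, _, rfl⟩ | ⟨φ, hφ, rfl⟩
  · exact evalAt_shuffleRel K A i j r
  · show evalMinors K d n A (X φ) = 0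
    unfold evalMinors
    rw [aeval_X]
    exact hA φ hφ

theorem plIdealTop_le_vanishing : plIdealTop (d := d) (n := n) K ≤ vanishing K d n := by
  unfold plIdealTop
  rw [Ideal.span_le]
  intro f hf
  unfold vanishing
  simp only [SetLike.mem_coe, Ideal.mem_iInf]
  intro A
  rw [RingHom.mem_ker]
  obtain ⟨i, j, r, _, rfl⟩ := hf
  exact evalAt_shuffleRel K A i j r

/-- Over an infinite domain the vanishing ideal lies in the kernel of `phi τ`. -/
theorem schubertVanishing_le_ker [IsDomain K] [Infinite K] (τ : Idx d n) :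
    schubertVanishing K d n τ ≤ RingHom.ker (phi K τ).toRingHom := by
  intro f hf
  rw [RingHom.mem_ker]
  apply MvPolynomial.funext
  intro x
  show MvPolynomial.eval x (phi K τ f) = MvPolynomial.eval x 0
  rw [map_zero, eval_phi]
  unfold schubertVanishing at hf
  simp only [Ideal.mem_iInf] at hf
  have := hf (LmatAt K τ x) (fun φ hφ => LmatAt_schubert K τ x φ hφ)
  exact this

/-- The span of the standard monomials on `X(τ)`. -/
def stdTau (τ : Idx d n) : Submodule K (PlRing K d n) :=
  Submodule.span K (Set.range fun c : (Σ m : ℕ, {c : Fin m → Idx d n // Antitone c ∧ ∀ k, c k ≤ τ}) =>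
    chainMon K c.2.1)

/-- The span of all standard monomials. -/
def stdAll : Submodule K (PlRing K d n) :=
  Submodule.span K (Set.range fun c : (Σ m : ℕ, {c : Fin m → Idx d n // Antitone c}) =>
    chainMon K c.2.1)

theorem stdAll_sup_plIdealTop :
    stdAll K (d := d) (n := n) ⊔ (plIdealTop (d := d) (n := n) K).restrictScalars K = ⊤ := by
  rw [eq_top_iff]
  intro f _
  have h := fullSpan_eq_top K (d := d) (n := n)
  have hf : Ideal.Quotient.mk (plIdealTop (d := d) (n := n) K) f ∈ fullSpan K (d := d) (n := n) := by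
    rw [h]; trivial
  unfold fullSpan at hf
  have e : (Set.range fun c : (Σ m : ℕ, {c : Fin m → Idx d n // Antitone c}) =>
      Ideal.Quotient.mk (plIdealTop (d := d) (n := n) K) (chainMon K c.2.1)) =
      (Ideal.Quotient.mkₐ K (plIdealTop (d := d) (n := n) K)).toLinearMap ''
        (Set.range fun c : (Σ m : ℕ, {c : Fin m → Idx d n // Antitone c}) => chainMon K c.2.1) := by
    rw [← Set.range_comp]
    rfl
  rw [e, ← Submodule.map_span] at hf
  obtain ⟨g, hg, hgf⟩ := hf
  have hmem : f - g ∈ plIdealTop (d := d) (n := n) K := by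
    rw [← Ideal.Quotient.eq]
    exact hgf.symm
  have : f = g + (f - g) := by ring
  rw [this]
  exact Submodule.add_mem _ (Submodule.mem_sup_left hg) (Submodule.mem_sup_right hmem)

lemma chainMon_mem_plIdeal (τ : Idx d n) {m : ℕ} (c : Fin m → Idx d n) (h : ¬ ∀ k, c k ≤ τ) :
    chainMon K c ∈ plIdeal K τ := by
  push Not at h
  obtain ⟨k, hk⟩ := h
  unfold chainMon
  rw [← Finset.mul_prod_erase _ _ (Finset.mem_univ k)]
  exact Ideal.mul_mem_right _ _ (X_mem_plIdeal K τ (c k) hk)

theorem stdTau_sup_plIdeal (τ : Idx d n) :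
    stdTau K τ ⊔ (plIdeal K τ).restrictScalars K = ⊤ := by
  rw [eq_top_iff, ← stdAll_sup_plIdealTop K]
  apply sup_le
  · unfold stdAll
    rw [Submodule.span_le]
    rintro _ ⟨⟨m, c, hc⟩, rfl⟩
    by_cases h : ∀ k, c k ≤ τ
    · apply Submodule.mem_sup_left
      exact Submodule.subset_span ⟨⟨m, c, hc, h⟩, rfl⟩
    · apply Submodule.mem_sup_right
      exact chainMon_mem_plIdeal K τ c h
  · intro x hx
    exact Submodule.mem_sup_right (plIdealTop_le_plIdeal K τ hx)

variable [Nontrivial K]

/-- `phi τ` is injective on the span of the standard monomials on `X(τ)`. -/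
theorem eq_zero_of_mem_stdTau (hd : 0 < d) (τ : Idx d n) (g : PlRing K d n) (hg : g ∈ stdTau K τ)
    (h : phi K τ g = 0) : g = 0 := by
  unfold stdTau at hg
  rw [Finsupp.mem_span_range_iff_exists_finsupp] at hg
  obtain ⟨a, rfl⟩ := hg
  have hli := linearIndependent_phi K hd τ
  rw [linearIndependent_iff] at hli
  have : a = 0 := by
    apply hli a
    rw [Finsupp.linearCombination_apply]
    rw [map_finsuppSum] at h
    simp only [map_smul] at h
    exact h
  rw [this]
  simp

/-- The kernel of `phi τ` is contained in `plIdeal τ` (when `plIdeal τ ≤ ker`). -/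
theorem ker_le_plIdeal (hd : 0 < d) (τ : Idx d n)
    (hle : plIdeal K τ ≤ RingHom.ker (phi K τ).toRingHom) :
    RingHom.ker (phi K τ).toRingHom ≤ plIdeal K τ := by
  intro f hf
  rw [RingHom.mem_ker] at hf
  have : f ∈ stdTau K τ ⊔ (plIdeal K τ).restrictScalars K := by
    rw [stdTau_sup_plIdeal]; trivial
  rw [Submodule.mem_sup] at this
  obtain ⟨g, hg, ι, hι, rfl⟩ := this
  have hι' : ι ∈ plIdeal K τ := hι
  have hφι : phi K τ ι = 0 := by
    have := hle hι'
    rwa [RingHom.mem_ker] at this
  have hφg : phi K τ g = 0 := by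
    have : (phi K τ).toRingHom (g + ι) = 0 := hf
    rw [map_add] at this
    have h2 : (phi K τ).toRingHom ι = 0 := hφι
    rw [h2, add_zero] at this
    exact this
  rw [eq_zero_of_mem_stdTau K hd τ g hg hφg, zero_add]
  exact hι'

end Groth.Agent.Lib.Helper6.Gr

end
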