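import Groth.Agent.Lib.Helper6.Grass.Straighten

/-!
# Grassmannian: weight-preserving quadratic straightening (helper6)
-/

open scoped Classical
set_option linter.unusedSectionVars false
set_option autoImplicit false

universe u v

noncomputable section

namespace Groth.Agent.Lib.Helper6.Gr

open W4bk4grassmannian MvPolynomial

variable {d n : ℕ}

/-- Weight of a tuple: sum of the entries. -/
def wtF (f : Fin d → Fin n) : ℕ := ∑ t, (f t).val

/-- Weight of an index. -/
def wt (θ : Idx d n) : ℕ := wtF θ.1

lemma wt_sortIdx (f : Fin d → Fin n) (h : (Finset.univ.image f).card = d) :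
    wt (sortIdx d n f h) = wtF f := sum_sortIdx f h

lemma wt_lt_of_lt {a b : Idx d n} (h : a < b) : wt a < wt b := by
  have hle : a ≤ b := le_of_lt h
  have hex : ∃ t, a.1 t < b.1 t := by
    by_contra hcon
    push Not at hcon
    exact absurd (le_antisymm hle hcon) (ne_of_lt h)
  obtain ⟨t0, ht0⟩ := hex
  unfold wt wtF
  apply Finset.sum_lt_sum
  · intro t _
    exact hle t
  · exact ⟨t0, Finset.mem_univ _, ht0⟩

/-- Sum over the first `r+1` positions, reindexed. -/
lemma sum_filter_le (r : Fin d) (F : Fin d → ℕ) :
    ∑ t ∈ Finset.univ.filter (fun t : Fin d => t.val ≤ r.val), F t =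
      ∑ u : Fin (r.val + 1), F ⟨u.val, by have := u.isLt; have := r.isLt; omega⟩ := by
  symm
  apply Finset.sum_nbij (fun u : Fin (r.val + 1) => (⟨u.val, by have := u.isLt; have := r.isLt; omega⟩ : Fin d))
  · intro u _
    simp only [Finset.mem_filter, Finset.mem_univ, true_and]
    have := u.isLt; omega
  · intro u _ u' _ h
    apply Fin.ext
    have := congrArg Fin.val h
    simpa using this
  · intro t ht
    simp only [Finset.coe_filter, Finset.mem_univ, true_and, Set.mem_ofPred_eq] at ht
    exact ⟨⟨t.val, by omega⟩, by simp, rfl⟩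
  · intro u _
    rfl

lemma sum_filter_ge (r : Fin d) (F : Fin d → ℕ) :
    ∑ t ∈ Finset.univ.filter (fun t : Fin d => ¬ t.val < r.val), F t =
      ∑ u : Fin (d - r.val), F ⟨u.val + r.val, by have := u.isLt; omega⟩ := by
  symm
  apply Finset.sum_nbij (fun u : Fin (d - r.val) => (⟨u.val + r.val, by have := u.isLt; omega⟩ : Fin d))
  · intro u _
    simp only [Finset.mem_filter, Finset.mem_univ, true_and]
    omega
  · intro u _ u' _ h
    apply Fin.ext
    have := congrArg Fin.val h
    simp only at this
    omega
  · intro t ht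
    simp only [Finset.coe_filter, Finset.mem_univ, true_and, Set.mem_ofPred_eq] at ht
    refine ⟨⟨t.val - r.val, by have := t.isLt; omega⟩, by simp, ?_⟩
    apply Fin.ext
    simp only
    omega
  · intro u _
    rfl

/-- The total weight of a shuffle is independent of the shuffle. -/
lemma wt_shuffle (i j : Idx d n) (r : Fin d) (A : Finset (Fin (d + 1))) (hA : A.card = r.val + 1) :
    wtF (shuffleI i j r A hA) + wtF (shuffleJ i j r A hA) =
      (∑ k : Fin (d + 1), (movingRows i j r k).val) +
        (∑ t ∈ Finset.univ.filter (fun t : Fin d => ¬ t.val ≤ r.val), (i.1 t).val) +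
        (∑ t ∈ Finset.univ.filter (fun t : Fin d => t.val < r.val), (j.1 t).val) := by
  have hC : Aᶜ.card = d - r.val := by rw [Finset.card_compl, hA, Fintype.card_fin]; omega
  have h1 : wtF (shuffleI i j r A hA) = (∑ k ∈ A, (movingRows i j r k).val) +
      ∑ t ∈ Finset.univ.filter (fun t : Fin d => ¬ t.val ≤ r.val), (i.1 t).val := by
    unfold wtF
    rw [← Finset.sum_filter_add_sum_filter_not Finset.univ (fun t : Fin d => t.val ≤ r.val)]
    congr 1
    · rw [sum_filter_le r (fun t => (shuffleI i j r A hA t).val)]
      conv_rhs => rw [← Finset.image_orderEmbOfFin_univ A hA]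
      rw [Finset.sum_image (fun x _ y _ hxy => (A.orderEmbOfFin hA).injective hxy)]
      apply Finset.sum_congr rfl
      intro u _
      unfold shuffleI
      rw [dif_pos (by have := u.isLt; simp only; omega)]
    · apply Finset.sum_congr rfl
      intro t ht
      simp only [Finset.mem_filter, Finset.mem_univ, true_and] at ht
      unfold shuffleI
      rw [dif_neg ht]
  have h2 : wtF (shuffleJ i j r A hA) = (∑ k ∈ Aᶜ, (movingRows i j r k).val) +
      ∑ t ∈ Finset.univ.filter (fun t : Fin d => t.val < r.val), (j.1 t).val := by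
    unfold wtF
    rw [← Finset.sum_filter_add_sum_filter_not Finset.univ (fun t : Fin d => t.val < r.val), add_comm]
    congr 1
    · rw [sum_filter_ge r (fun t => (shuffleJ i j r A hA t).val)]
      conv_rhs => rw [← Finset.image_orderEmbOfFin_univ Aᶜ hC]
      rw [Finset.sum_image (fun x _ y _ hxy => (Aᶜ.orderEmbOfFin hC).injective hxy)]
      apply Finset.sum_congr rfl
      intro u _
      unfold shuffleJ
      simp only
      rw [dif_neg (by omega)]
      congr 4
      omega
    · apply Finset.sum_congr rfl
      intro t ht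
      simp only [Finset.mem_filter, Finset.mem_univ, true_and] at ht
      unfold shuffleJ
      rw [dif_pos ht]
  rw [h1, h2, ← Finset.sum_add_sum_compl A (fun k => (movingRows i j r k).val)]
  ring

lemma wt_shuffle_eq (i j : Idx d n) (r : Fin d) (A : Finset (Fin (d + 1))) (hA : A.card = r.val + 1) :
    wtF (shuffleI i j r A hA) + wtF (shuffleJ i j r A hA) = wt i + wt j := by
  rw [wt_shuffle i j r A hA, ← wt_shuffle i j r (A0 r) (card_A0 r), shuffleI_A0, shuffleJ_A0]
  rfl

variable (K : Type u) [CommRing K]

/-- The span of the products `X a' * X b'` with `a < a'` and the same total weight. -/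
def upSpanW (a : Idx d n) (W : ℕ) : Submodule K (PlRing K d n) :=
  Submodule.span K {f : PlRing K d n | ∃ a' b' : Idx d n, a < a' ∧ wt a' + wt b' = W ∧ f = X a' * X b'}

lemma shuffleTerm_mem_upSpanW (a b : Idx d n) (r : Fin d) (hp : a.1 r < b.1 r)
    (A : Finset (Fin (d + 1))) (hne : A ≠ A0 r) :
    shuffleTerm K a b r A ∈ upSpanW K a (wt a + wt b) := by
  unfold shuffleTerm
  by_cases hA : A.card = r.val + 1
  · rw [dif_pos hA]
    unfold coord
    by_cases hf : (Finset.univ.image (shuffleI a b r A hA)).card = d
    · by_cases hg : (Finset.univ.image (shuffleJ a b r A hA)).card = d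
      · rw [dif_pos hf, dif_pos hg]
        have hmem : X (sortIdx d n (shuffleI a b r A hA) hf) * X (sortIdx d n (shuffleJ a b r A hA) hg)
            ∈ upSpanW K a (wt a + wt b) := by
          apply Submodule.subset_span
          refine ⟨_, _, ?_, ?_, rfl⟩
          · have hle := le_sortIdx a _ hf (le_shuffleI a b r hp A hA)
            refine lt_of_le_of_ne hle ?_
            intro heq
            have := eq_of_sortIdx_eq a _ hf (le_shuffleI a b r hp A hA) heq.symm
            exact hne (eq_A0_of_shuffleI_eq a b r hp A hA this)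
          · rw [wt_sortIdx, wt_sortIdx, wt_shuffle_eq]
        have e : (-1 : PlRing K d n) ^ shuffleSign r A *
            ((-1) ^ invCount d n (shuffleI a b r A hA) * X (sortIdx d n (shuffleI a b r A hA) hf)) *
            ((-1) ^ invCount d n (shuffleJ a b r A hA) * X (sortIdx d n (shuffleJ a b r A hA) hg)) =
            (-1) ^ shuffleSign r A * ((-1) ^ invCount d n (shuffleI a b r A hA) *
              ((-1) ^ invCount d n (shuffleJ a b r A hA) *
              (X (sortIdx d n (shuffleI a b r A hA) hf) * X (sortIdx d n (shuffleJ a b r A hA) hg)))) := by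
          ring
        rw [e]
        exact neg_one_pow_mul_mem K (neg_one_pow_mul_mem K (neg_one_pow_mul_mem K hmem _) _) _
      · rw [dif_neg hg, mul_zero]; exact Submodule.zero_mem _
    · rw [dif_neg hf, mul_zero, zero_mul]; exact Submodule.zero_mem _
  · rw [dif_neg hA]; exact Submodule.zero_mem _

lemma pair_relW (a b : Idx d n) (h : ¬ b ≤ a) :
    X a * X b ∈ upSpanW K a (wt a + wt b) ⊔ (plIdealTop (d := d) (n := n) K).restrictScalars K := by
  obtain ⟨r, hr⟩ := exists_pivot a b h
  have hrel : shuffleRel K a b r ∈ plIdealTop (d := d) (n := n) K :=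
    Ideal.subset_span ⟨a, b, r, hr, rfl⟩
  have hsplit : shuffleRel K a b r =
      X a * X b + ∑ A ∈ Finset.univ.erase (A0 r), shuffleTerm K a b r A := by
    unfold shuffleRel
    rw [← Finset.add_sum_erase _ _ (Finset.mem_univ (A0 r)), shuffleTerm_A0]
  have hterms : ∑ A ∈ Finset.univ.erase (A0 r), shuffleTerm K a b r A ∈ upSpanW K a (wt a + wt b) := by
    apply Submodule.sum_mem
    intro A hA
    exact shuffleTerm_mem_upSpanW K a b r hr.2 A (Finset.ne_of_mem_erase hA)
  have e : X a * X b = shuffleRel K a b r - ∑ A ∈ Finset.univ.erase (A0 r), shuffleTerm K a b r A := by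
    rw [hsplit]; ring
  rw [e]
  exact Submodule.sub_mem _ (Submodule.mem_sup_right hrel) (Submodule.mem_sup_left hterms)

/-- Span of the standard quadratic monomials of a given total weight. -/
def std2 (W : ℕ) : Submodule K (PlRing K d n) :=
  Submodule.span K {f : PlRing K d n | ∃ α β : Idx d n, β ≤ α ∧ wt α + wt β = W ∧ f = X α * X β}

/-- Quadratic straightening with weights. -/
theorem quad_straighten (a b : Idx d n) :
    X a * X b ∈ std2 K (wt a + wt b) ⊔ (plIdealTop (d := d) (n := n) K).restrictScalars K := by
  induction a using WellFoundedGT.induction generalizing b with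
  | ind a IH =>
    by_cases hb : b ≤ a
    · apply Submodule.mem_sup_left
      exact Submodule.subset_span ⟨a, b, hb, rfl, rfl⟩
    · have hpr := pair_relW K a b hb
      have hle : upSpanW K a (wt a + wt b) ⊔ (plIdealTop (d := d) (n := n) K).restrictScalars K ≤
          std2 K (wt a + wt b) ⊔ (plIdealTop (d := d) (n := n) K).restrictScalars K := by
        apply sup_le _ le_sup_right
        unfold upSpanW
        rw [Submodule.span_le]
        rintro _ ⟨a', b', haa', hW, rfl⟩
        have := IH a' haa' b'
        rw [hW] at this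
        exact this
      exact hle hpr

end Groth.Agent.Lib.Helper6.Gr

end
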