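import Groth.Agent.Lib.Helper6.Grass.Bottom
import Groth.Agent.Lib.Helper6.Grass.Weight

/-!
# Grassmannian: shape of the quadratic straightening relations (helper6)
-/

open scoped Classical
set_option linter.unusedSectionVars false
set_option autoImplicit false

universe u v

noncomputable section

namespace Groth.Agent.Lib.Helper6.Gr

open W4bk4grassmannian MvPolynomial

variable {d n : ℕ}

/-- The top element `(n-d, …, n-1)`. -/
def topI (hdn : d ≤ n) : Idx d n :=
  ⟨fun t => ⟨n - d + t.val, by have := t.isLt; omega⟩, fun a b h => by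
    rw [Fin.lt_def] at h ⊢; simp only; omega⟩

lemma le_topI (hdn : d ≤ n) (θ : Idx d n) : θ ≤ topI hdn := by
  intro t
  rw [Fin.le_def]
  simp only [topI]
  have hd : 0 < d := lt_of_le_of_lt (Nat.zero_le _) t.isLt
  have := strictMono_gap θ (d - 1 - t.val) t ⟨d - 1, by omega⟩ (by have := t.isLt; simp only; omega)
  have h2 := (θ.1 ⟨d - 1, by omega⟩).isLt
  have := t.isLt
  omega

variable (K : Type u) [CommRing K]

section

variable [Nontrivial K]

/-- Coefficient extraction for the band comorphism. -/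
theorem coeff_eq_zero_of_phiB (hd : 0 < d) (v w : Idx d n) {ι : Type*}
    (c : ι → Σ m : ℕ, Fin m → Idx d n) (hinj : Function.Injective c)
    (hanti : ∀ i, Antitone (c i).2) (a : ι →₀ K)
    (h : phiB K v w (a.sum fun i r => r • chainMon K (c i).2) = 0) (i : ι)
    (hv : ∀ k, v ≤ (c i).2 k) (hi : ∀ k, (c i).2 k ≤ w) : a i = 0 := by
  set p : ι → Prop := fun i => (∀ k, v ≤ (c i).2 k) ∧ ∀ k, (c i).2 k ≤ w with hp
  have hli := linearIndependent_phiB K hd v w (fun i : {i // p i} => c i.1)
    (fun x y hxy => Subtype.ext (hinj hxy)) (fun i => hanti i.1) (fun i => i.2.1) (fun i => i.2.2)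
  rw [linearIndependent_iff] at hli
  have hsum : Finsupp.linearCombination K (fun i : {i // p i} => phiB K v w (chainMon K (c i.1).2))
      (a.subtypeDomain p) = 0 := by
    rw [Finsupp.linearCombination_apply]
    rw [map_finsuppSum] at h
    simp only [map_smul] at h
    rw [← h]
    rw [Finsupp.sum, Finsupp.sum]
    have hsub : ∑ x ∈ a.support, a x • phiB K v w (chainMon K (c x).2) =
        ∑ x ∈ a.support.filter p, a x • phiB K v w (chainMon K (c x).2) := by
      rw [Finset.sum_filter]
      apply Finset.sum_congr rfl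
      intro x _
      by_cases hx : p x
      · rw [if_pos hx]
      · rw [if_neg hx]
        have := plIdealB_le_ker K v w (chainMon_mem_plIdealB K v w (c x).2 hx)
        rw [RingHom.mem_ker] at this
        have e : phiB K v w (chainMon K (c x).2) = 0 := this
        rw [e, smul_zero]
    rw [hsub, Finsupp.support_subtypeDomain, ← Finset.sum_subtype_eq_sum_filter]
    rfl
  have := hli _ hsum
  have h2 := DFunLike.congr_fun this ⟨i, hv, hi⟩
  simpa using h2

end

lemma chainMon_pair (α β : Idx d n) : chainMon K (![α, β] : Fin 2 → Idx d n) = X α * X β := by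
  unfold chainMon
  rw [Fin.prod_univ_two]
  rfl

lemma antitone_pair (α β : Idx d n) (h : β ≤ α) : Antitone (![α, β] : Fin 2 → Idx d n) := by
  intro x y hxy
  fin_cases x <;> fin_cases y
  · exact le_refl _
  · exact h
  · exact absurd hxy (by decide)
  · exact le_refl _

lemma wt_sup_inf (τ φ : Idx d n) :
    wt (W4bk4grassmannian.sup τ φ) + wt (W4bk4grassmannian.inf τ φ) = wt τ + wt φ := by
  unfold wt wtF W4bk4grassmannian.sup W4bk4grassmannian.inf
  rw [← Finset.sum_add_distrib, ← Finset.sum_add_distrib]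
  apply Finset.sum_congr rfl
  intro t _
  simp only
  rcases le_total (τ.1 t) (φ.1 t) with h | h
  · rw [max_eq_right h, min_eq_left h]; omega
  · rw [max_eq_left h, min_eq_right h]

lemma expo_sup_inf (τ φ : Idx d n) :
    expo (W4bk4grassmannian.sup τ φ).1 + expo (W4bk4grassmannian.inf τ φ).1 = expo τ.1 + expo φ.1 := by
  unfold expo W4bk4grassmannian.sup W4bk4grassmannian.inf
  rw [← Finset.sum_add_distrib, ← Finset.sum_add_distrib]
  apply Finset.sum_congr rfl
  intro t _
  simp only
  rcases le_total (τ.1 t) (φ.1 t) with h | h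
  · rw [max_eq_right h, min_eq_left h, add_comm]
  · rw [max_eq_left h, min_eq_right h]

lemma le_sup_left' (τ φ : Idx d n) : τ ≤ W4bk4grassmannian.sup τ φ := fun t => le_max_left _ _
lemma le_sup_right' (τ φ : Idx d n) : φ ≤ W4bk4grassmannian.sup τ φ := fun t => le_max_right _ _
lemma inf_le_left' (τ φ : Idx d n) : W4bk4grassmannian.inf τ φ ≤ τ := fun t => min_le_left _ _
lemma inf_le_right' (τ φ : Idx d n) : W4bk4grassmannian.inf τ φ ≤ φ := fun t => min_le_right _ _
lemma sup_le' {τ φ α : Idx d n} (h1 : τ ≤ α) (h2 : φ ≤ α) : W4bk4grassmannian.sup τ φ ≤ α :=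
  fun t => max_le (h1 t) (h2 t)
lemma le_inf' {τ φ β : Idx d n} (h1 : β ≤ τ) (h2 : β ≤ φ) : β ≤ W4bk4grassmannian.inf τ φ :=
  fun t => le_min (h1 t) (h2 t)

variable [IsDomain K] [Infinite K]

/-- Shape of the quadratic straightening relation of a pair. -/
theorem quad_shape (hd : 0 < d) (hdn : d ≤ n) (τ φ : Idx d n) :
    ∃ g ∈ Submodule.span K {f : PlRing K d n | ∃ α β : Idx d n,
        β ≤ α ∧ W4bk4grassmannian.sup τ φ < α ∧ β < W4bk4grassmannian.inf τ φ ∧ f = X α * X β},
      X τ * X φ - X (W4bk4grassmannian.sup τ φ) * X (W4bk4grassmannian.inf τ φ) - g ∈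
        plIdealTop (d := d) (n := n) K := by
  set W := wt τ + wt φ with hW
  have hqs := quad_straighten K τ φ
  rw [Submodule.mem_sup] at hqs
  obtain ⟨s, hs, ι, hι, hsum⟩ := hqs
  have hι' : ι ∈ plIdealTop (d := d) (n := n) K := hι
  -- index type of standard pairs of weight W
  let P2 := {p : Idx d n × Idx d n // p.2 ≤ p.1 ∧ wt p.1 + wt p.2 = W}
  have hstd : std2 K (d := d) (n := n) W =
      Submodule.span K (Set.range fun p : P2 => (X p.1.1 * X p.1.2 : PlRing K d n)) := by
    unfold std2
    congr 1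
    ext f
    constructor
    · rintro ⟨α, β, h1, h2, rfl⟩
      exact ⟨⟨(α, β), h1, h2⟩, rfl⟩
    · rintro ⟨⟨⟨α, β⟩, h1, h2⟩, rfl⟩
      exact ⟨α, β, h1, h2, rfl⟩
  rw [hstd, Finsupp.mem_span_range_iff_exists_finsupp] at hs
  obtain ⟨a, ha⟩ := hs
  -- the chain map
  let cm : P2 → Σ m : ℕ, Fin m → Idx d n := fun p => ⟨2, ![p.1.1, p.1.2]⟩
  have hcm_inj : Function.Injective cm := by
    rintro ⟨⟨α, β⟩, h1⟩ ⟨⟨α', β'⟩, h1'⟩ h
    simp only [cm, Sigma.mk.injEq, heq_eq_eq, true_and] at h
    have e1 := congrFun h 0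
    have e2 := congrFun h 1
    simp only [Matrix.cons_val_zero, Matrix.cons_val_one] at e1 e2
    subst e1; subst e2; rfl
  have hcm_anti : ∀ p, Antitone (cm p).2 := fun p => antitone_pair _ _ p.2.1
  have ha' : (a.sum fun p r => r • chainMon K (cm p).2) = s := by
    rw [← ha]
    apply Finsupp.sum_congr
    intro p _
    simp only [cm]
    rw [chainMon_pair]
  -- E := X τ X φ - ι = s
  have hE : s = X τ * X φ - ι := by rw [← hsum]; ring
  -- (1) upper bounds
  have hup : ∀ p : P2, a p ≠ 0 → τ ≤ p.1.1 ∧ φ ≤ p.1.1 := by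
    intro p hp
    have key : ∀ ψ : Idx d n, (ψ = τ ∨ ψ = φ) → ψ ≤ p.1.1 := by
      intro ψ hψ
      by_contra hnot
      apply hp
      apply coeff_eq_zero_of_phi K hd p.1.1 cm hcm_inj hcm_anti a _ p
      · intro k
        fin_cases k
        · exact le_refl _
        · exact p.2.1
      · rw [ha', hE, map_sub]
        have h1 : phi K p.1.1 ι = 0 := by
          have := plIdeal_le_ker K p.1.1 (plIdealTop_le_plIdeal K p.1.1 hι')
          rwa [RingHom.mem_ker] at this
        have h2 : phi K p.1.1 (X ψ) = 0 := by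
          have := plIdeal_le_ker K p.1.1 (X_mem_plIdeal K p.1.1 ψ hnot)
          rwa [RingHom.mem_ker] at this
        rw [h1, sub_zero, map_mul]
        rcases hψ with rfl | rfl
        · rw [h2, zero_mul]
        · rw [h2, mul_zero]
    exact ⟨key τ (Or.inl rfl), key φ (Or.inr rfl)⟩
  -- (2) lower bounds
  have hlow : ∀ p : P2, a p ≠ 0 → p.1.2 ≤ τ ∧ p.1.2 ≤ φ := by
    intro p hp
    have key : ∀ ψ : Idx d n, (ψ = τ ∨ ψ = φ) → p.1.2 ≤ ψ := by
      intro ψ hψ
      by_contra hnot
      apply hp
      apply coeff_eq_zero_of_phiB K hd p.1.2 (topI hdn) cm hcm_inj hcm_anti a _ p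
      · intro k
        fin_cases k
        · exact p.2.1
        · exact le_refl _
      · intro k
        exact le_topI hdn _
      · rw [ha', hE, map_sub]
        have h1 : phiB K p.1.2 (topI hdn) ι = 0 := by
          have := plIdealB_le_ker K p.1.2 (topI hdn)
            (Ideal.mem_sup_left (plIdealTop_le_plIdeal K (topI hdn) hι'))
          rwa [RingHom.mem_ker] at this
        have h2 : phiB K p.1.2 (topI hdn) (X ψ) = 0 := by
          have := plIdealB_le_ker K p.1.2 (topI hdn)
            (Ideal.mem_sup_right (Ideal.subset_span ⟨ψ, hnot, rfl⟩))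
          rwa [RingHom.mem_ker] at this
        rw [h1, sub_zero, map_mul]
        rcases hψ with rfl | rfl
        · rw [h2, zero_mul]
        · rw [h2, mul_zero]
    exact ⟨key τ (Or.inl rfl), key φ (Or.inr rfl)⟩
  -- the distinguished pair
  let pstar : P2 := ⟨(W4bk4grassmannian.sup τ φ, W4bk4grassmannian.inf τ φ),
    fun t => le_trans (min_le_left _ _) (le_max_left _ _), wt_sup_inf τ φ⟩
  -- pairs in the support other than pstar are strictly above/below
  have hstrict : ∀ p : P2, a p ≠ 0 → p ≠ pstar →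
      W4bk4grassmannian.sup τ φ < p.1.1 ∧ p.1.2 < W4bk4grassmannian.inf τ φ := by
    intro p hp hne
    have h1 := sup_le' (hup p hp).1 (hup p hp).2
    have h2 := le_inf' (hlow p hp).1 (hlow p hp).2
    have hw := p.2.2
    have hw' := wt_sup_inf τ φ
    constructor
    · refine lt_of_le_of_ne h1 ?_
      intro heq
      apply hne
      have hwβ : wt p.1.2 = wt (W4bk4grassmannian.inf τ φ) := by
        rw [← heq] at hw; omega
      have hβ : p.1.2 = W4bk4grassmannian.inf τ φ := by
        by_contra hneβ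
        have := wt_lt_of_lt (lt_of_le_of_ne h2 hneβ)
        omega
      apply Subtype.ext
      exact Prod.ext heq.symm hβ
    · refine lt_of_le_of_ne h2 ?_
      intro heq
      apply hne
      have hwα : wt p.1.1 = wt (W4bk4grassmannian.sup τ φ) := by
        rw [heq] at hw; omega
      have hα : W4bk4grassmannian.sup τ φ = p.1.1 := by
        by_contra hneα
        have := wt_lt_of_lt (lt_of_le_of_ne h1 hneα)
        omega
      apply Subtype.ext
      exact Prod.ext hα.symm heq
  -- (3) the coefficient of pstar is one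
  have hone : a pstar = 1 := by
    set Φ := phi K (W4bk4grassmannian.sup τ φ) with hΦ
    have hΦι : Φ ι = 0 := by
      have := plIdeal_le_ker K (W4bk4grassmannian.sup τ φ) (plIdealTop_le_plIdeal K _ hι')
      rwa [RingHom.mem_ker] at this
    have hΦs : Φ s = Φ (X τ) * Φ (X φ) := by
      rw [hE, map_sub, hΦι, sub_zero, map_mul]
    have hΦs2 : Φ s = a pstar • Φ (X (W4bk4grassmannian.sup τ φ) * X (W4bk4grassmannian.inf τ φ)) := by
      rw [← ha, map_finsuppSum]
      rw [Finsupp.sum, Finset.sum_eq_single pstar]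
      · rw [map_smul]
      · intro p hp hne
        rw [map_smul]
        have hp' : a p ≠ 0 := Finsupp.mem_support_iff.mp hp
        have hlt := (hstrict p hp' hne).1
        have : Φ (X p.1.1) = 0 := by
          have := plIdeal_le_ker K (W4bk4grassmannian.sup τ φ)
            (X_mem_plIdeal K _ p.1.1 (not_le_of_gt hlt))
          rwa [RingHom.mem_ker] at this
        rw [map_mul, this, zero_mul, smul_zero]
      · intro hnot
        rw [Finsupp.notMem_support_iff.mp hnot, zero_smul, map_zero]
    have m1 := phi_X_monic K hd (W4bk4grassmannian.sup τ φ) τ (le_sup_left' τ φ)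
    have m2 := phi_X_monic K hd (W4bk4grassmannian.sup τ φ) φ (le_sup_right' τ φ)
    have m3 := phi_X_monic K hd (W4bk4grassmannian.sup τ φ) (W4bk4grassmannian.sup τ φ) (le_refl _)
    have m4 := phi_X_monic K hd (W4bk4grassmannian.sup τ φ) (W4bk4grassmannian.inf τ φ)
      (fun t => le_trans (min_le_left _ _) (le_max_left _ _))
    have mL := MonomialOrder.Monic.mul m1.1 m2.1
    have mR := MonomialOrder.Monic.mul m3.1 m4.1
    have dL : (MonomialOrder.lex).degree (Φ (X τ) * Φ (X φ)) = expo τ.1 + expo φ.1 := by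
      rw [MonomialOrder.degree_mul_of_isRegular_left, m1.2, m2.2]
      · rw [m1.1.leadingCoeff_eq_one]; exact isRegular_one
      · exact m2.1.ne_zero
    have dR : (MonomialOrder.lex).degree (Φ (X (W4bk4grassmannian.sup τ φ)) *
        Φ (X (W4bk4grassmannian.inf τ φ))) = expo τ.1 + expo φ.1 := by
      rw [MonomialOrder.degree_mul_of_isRegular_left, m3.2, m4.2, expo_sup_inf]
      · rw [m3.1.leadingCoeff_eq_one]; exact isRegular_one
      · exact m4.1.ne_zero
    have hc := congrArg (coeff (expo τ.1 + expo φ.1)) (hΦs.symm.trans hΦs2)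
    rw [coeff_smul, map_mul] at hc
    have cL : coeff (expo τ.1 + expo φ.1) (Φ (X τ) * Φ (X φ)) = 1 := by
      rw [← dL]; exact mL.coeff_degree
    have cR : coeff (expo τ.1 + expo φ.1) (Φ (X (W4bk4grassmannian.sup τ φ)) *
        Φ (X (W4bk4grassmannian.inf τ φ))) = 1 := by
      rw [← dR]; exact mR.coeff_degree
    rw [cL, cR, smul_eq_mul, mul_one] at hc
    exact hc.symm
  -- conclusion
  refine ⟨∑ p ∈ a.support.erase pstar, a p • (X p.1.1 * X p.1.2), ?_, ?_⟩
  · apply Submodule.sum_mem
    intro p hp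
    apply Submodule.smul_mem
    apply Submodule.subset_span
    have hp' : a p ≠ 0 := Finsupp.mem_support_iff.mp (Finset.mem_of_mem_erase hp)
    have hne : p ≠ pstar := Finset.ne_of_mem_erase hp
    exact ⟨p.1.1, p.1.2, p.2.1, (hstrict p hp' hne).1, (hstrict p hp' hne).2, rfl⟩
  · have hsplit : s = X (W4bk4grassmannian.sup τ φ) * X (W4bk4grassmannian.inf τ φ) +
        ∑ p ∈ a.support.erase pstar, a p • (X p.1.1 * X p.1.2) := by
      rw [← ha, Finsupp.sum]
      have hmem : pstar ∈ a.support := by
        rw [Finsupp.mem_support_iff, hone]; exact one_ne_zero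
      rw [← Finset.add_sum_erase _ _ hmem, hone, one_smul]
    have : X τ * X φ - X (W4bk4grassmannian.sup τ φ) * X (W4bk4grassmannian.inf τ φ) -
        ∑ p ∈ a.support.erase pstar, a p • (X p.1.1 * X p.1.2) = ι := by
      rw [← hsum, hsplit]; ring
    rw [this]
    exact hι'

end Groth.Agent.Lib.Helper6.Gr

end
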