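import Groth.Agent.Lib.Helper6.Grass.Schubert

/-!
# Grassmannian: standard monomials on unions of Schubert varieties (helper6)
-/

open scoped Classical
set_option linter.unusedSectionVars false
set_option autoImplicit false

universe u v

noncomputable section

namespace Groth.Agent.Lib.Helper6.Gr

open W4bk4grassmannian MvPolynomial

variable {d n : ℕ} (K : Type u) [CommRing K] [IsDomain K] [Infinite K]

lemma plIdeal_le_ker (τ : Idx d n) : plIdeal K τ ≤ RingHom.ker (phi K τ).toRingHom :=
  (plIdeal_le_schubertVanishing K τ).trans (schubertVanishing_le_ker K τ)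

lemma phi_chainMon_eq_zero (τ : Idx d n) {m : ℕ} (c : Fin m → Idx d n) (h : ¬ ∀ k, c k ≤ τ) :
    phi K τ (chainMon K c) = 0 := by
  have := plIdeal_le_ker K τ (chainMon_mem_plIdeal K τ c h)
  rwa [RingHom.mem_ker] at this

/-- Coefficient extraction: if a combination of distinct standard monomials is killed by `phi τ`
then the coefficients of the standard monomials on `X(τ)` vanish. -/
theorem coeff_eq_zero_of_phi (hd : 0 < d) (τ : Idx d n) {ι : Type*}
    (c : ι → Σ m : ℕ, Fin m → Idx d n) (hinj : Function.Injective c)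
    (hanti : ∀ i, Antitone (c i).2) (a : ι →₀ K)
    (h : phi K τ (a.sum fun i r => r • chainMon K (c i).2) = 0) (i : ι)
    (hi : ∀ k, (c i).2 k ≤ τ) : a i = 0 := by
  set p : ι → Prop := fun i => ∀ k, (c i).2 k ≤ τ with hp
  have hli := linearIndependent_phi' K hd τ (fun i : {i // p i} => c i.1)
    (fun x y hxy => Subtype.ext (hinj hxy)) (fun i => hanti i.1) (fun i => i.2)
  rw [linearIndependent_iff] at hli
  have hsum : Finsupp.linearCombination K (fun i : {i // p i} => phi K τ (chainMon K (c i.1).2))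
      (a.subtypeDomain p) = 0 := by
    rw [Finsupp.linearCombination_apply]
    rw [map_finsuppSum] at h
    simp only [map_smul] at h
    rw [← h]
    -- split the sum
    rw [Finsupp.sum, Finsupp.sum]
    have hsub : ∑ x ∈ a.support, a x • phi K τ (chainMon K (c x).2) =
        ∑ x ∈ a.support.filter p, a x • phi K τ (chainMon K (c x).2) := by
      rw [Finset.sum_filter]
      apply Finset.sum_congr rfl
      intro x _
      by_cases hx : p x
      · rw [if_pos hx]
      · rw [if_neg hx, phi_chainMon_eq_zero K τ (c x).2 hx, smul_zero]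
    rw [hsub]
    rw [Finsupp.support_subtypeDomain]
    rw [← Finset.sum_subtype_eq_sum_filter]
    rfl
  have := hli _ hsum
  have h2 := DFunLike.congr_fun this ⟨i, hi⟩
  simpa using h2

/-- The vanishing ideal of a Schubert variety is generated by the shuffle relations and the
Schubert coordinates; it is also the kernel of `phi τ`. -/
theorem schubertVanishing_eq_plIdeal (hd : 0 < d) (τ : Idx d n) :
    schubertVanishing K d n τ = plIdeal K τ := by
  apply le_antisymm _ (plIdeal_le_schubertVanishing K τ)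
  exact (schubertVanishing_le_ker K τ).trans (ker_le_plIdeal K hd τ (plIdeal_le_ker K τ))

theorem schubertVanishing_eq_ker (hd : 0 < d) (τ : Idx d n) :
    schubertVanishing K d n τ = RingHom.ker (phi K τ).toRingHom := by
  apply le_antisymm (schubertVanishing_le_ker K τ)
  exact (ker_le_plIdeal K hd τ (plIdeal_le_ker K τ)).trans (plIdeal_le_schubertVanishing K τ)

omit [IsDomain K] [Infinite K] in
lemma le_inf_iff' (φ w₁ w₂ : Idx d n) : φ ≤ W4bk4grassmannian.inf w₁ w₂ ↔ φ ≤ w₁ ∧ φ ≤ w₂ := by
  constructor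
  · intro h
    exact ⟨fun t => le_trans (h t) (min_le_left _ _), fun t => le_trans (h t) (min_le_right _ _)⟩
  · rintro ⟨h1, h2⟩ t
    exact le_min (h1 t) (h2 t)

omit [IsDomain K] [Infinite K] in
theorem plIdeal_sup (w₁ w₂ : Idx d n) :
    plIdeal K w₁ ⊔ plIdeal K w₂ = plIdeal K (W4bk4grassmannian.inf w₁ w₂) := by
  unfold plIdeal
  rw [← Ideal.span_union]
  congr 1
  ext f
  simp only [Set.mem_union, Set.mem_ofPred_eq]
  constructor
  · rintro ((h | ⟨φ, hφ, rfl⟩) | (h | ⟨φ, hφ, rfl⟩))
    · exact Or.inl h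
    · exact Or.inr ⟨φ, fun hc => hφ ((le_inf_iff' φ w₁ w₂).mp hc).1, rfl⟩
    · exact Or.inl h
    · exact Or.inr ⟨φ, fun hc => hφ ((le_inf_iff' φ w₁ w₂).mp hc).2, rfl⟩
  · rintro (h | ⟨φ, hφ, rfl⟩)
    · exact Or.inl (Or.inl h)
    · by_cases h1 : φ ≤ w₁
      · by_cases h2 : φ ≤ w₂
        · exact absurd ((le_inf_iff' φ w₁ w₂).mpr ⟨h1, h2⟩) hφ
        · exact Or.inr (Or.inr ⟨φ, h2, rfl⟩)
      · exact Or.inl (Or.inr ⟨φ, h1, rfl⟩)

omit [Infinite K] in
theorem schubertVanishing_isRadical (τ : Idx d n) : (schubertVanishing K d n τ).IsRadical := by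
  intro x hx
  obtain ⟨k, hk⟩ := hx
  unfold schubertVanishing at hk ⊢
  simp only [Ideal.mem_iInf] at hk ⊢
  intro A hA
  have := hk A hA
  rw [RingHom.mem_ker] at this ⊢
  rw [map_pow] at this
  exact pow_eq_zero_iff (fun h => by
    subst h
    rw [pow_zero] at this
    exact one_ne_zero this) |>.mp this

end Groth.Agent.Lib.Helper6.Gr

end
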