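import Groth.Agent.Lib.Helper6.Grass.Band
import Groth.Agent.Lib.Helper6.Grass.Union
import Groth.Agent.Lib.Helper6.Grass.Quad

/-!
# Grassmannian: the order reversing involution (helper6)

Reversing the rows of a matrix sends the Plücker coordinate `p_θ` to `± p_{θ*}` with
`θ*_k = n - 1 - θ_{d-1-k}`.  The induced automorphism `σ` of the Plücker ring exchanges Schubert
ideals `J(w)` with the opposite Schubert (Richardson) ideals `plIdealB (w*) top`.
-/

open scoped Classical
set_option linter.unusedSectionVars false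
set_option autoImplicit false

universe u v

noncomputable section

namespace Groth.Agent.Lib.Helper6.Gr

open W4bk4grassmannian MvPolynomial

variable {d n : ℕ}

/-- The reversed index. -/
def star (θ : Idx d n) : Idx d n :=
  ⟨fun k => Fin.rev (θ.1 (Fin.rev k)), fun a b h => by
    rw [Fin.rev_lt_rev]
    exact θ.2 (Fin.rev_lt_rev.mpr h)⟩

lemma star_apply (θ : Idx d n) (k : Fin d) : (star θ).1 k = Fin.rev (θ.1 (Fin.rev k)) := rfl

@[simp] lemma star_star (θ : Idx d n) : star (star θ) = θ := by
  apply Subtype.ext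
  funext k
  rw [star_apply, star_apply, Fin.rev_rev, Fin.rev_rev]

lemma star_le_star {θ φ : Idx d n} : star θ ≤ star φ ↔ φ ≤ θ := by
  constructor
  · intro h k
    have := h (Fin.rev k)
    rw [star_apply, star_apply, Fin.rev_rev, Fin.rev_le_rev] at this
    exact this
  · intro h k
    rw [star_apply, star_apply, Fin.rev_le_rev]
    exact h _

lemma star_le_iff {θ φ : Idx d n} : star θ ≤ φ ↔ star φ ≤ θ := by
  rw [← star_le_star, star_star]

/-- The sign of the reversal permutation. -/
def eps (d : ℕ) : ℤˣ := Equiv.Perm.sign (Fin.revPerm : Equiv.Perm (Fin d))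

lemma eps_mul_self (R : Type*) [CommRing R] (d : ℕ) :
    (((eps d : ℤˣ) : ℤ) : R) * (((eps d : ℤˣ) : ℤ) : R) = 1 := by
  rw [← Int.cast_mul, Int.units_coe_mul_self, Int.cast_one]

/-- The row-reversed matrix. -/
def flipM {R : Type*} (M : Matrix (Fin n) (Fin d) R) : Matrix (Fin n) (Fin d) R :=
  M.submatrix Fin.rev id

lemma pM_star {R : Type*} [CommRing R] (M : Matrix (Fin n) (Fin d) R) (θ : Idx d n) :
    pM M (star θ).1 = (((eps d : ℤˣ) : ℤ) : R) * pM (flipM M) θ.1 := by
  unfold pM flipM
  have h1 : M.submatrix (star θ).1 id =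
      ((M.submatrix Fin.rev id).submatrix θ.1 id).submatrix (Fin.revPerm : Equiv.Perm (Fin d)) id := by
    apply Matrix.ext
    intro a b
    simp only [Matrix.submatrix_apply, id, star_apply, Fin.revPerm_apply]
  rw [h1, Matrix.det_permute]
  rfl

variable (K : Type u) [CommRing K]

/-- The flip automorphism of the Plücker ring, as an algebra map. -/
def sigmaHom : PlRing K d n →ₐ[K] PlRing K d n :=
  MvPolynomial.aeval fun θ : Idx d n => C (((eps d : ℤˣ) : ℤ) : K) * X (star θ)

lemma sigmaHom_X (θ : Idx d n) :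
    sigmaHom K (X θ : PlRing K d n) = C (((eps d : ℤˣ) : ℤ) : K) * X (star θ) := by
  unfold sigmaHom
  rw [aeval_X]

lemma sigmaHom_sigmaHom (f : PlRing K d n) : sigmaHom K (sigmaHom K f) = f := by
  have h : (sigmaHom K (d := d) (n := n)).comp (sigmaHom K) = AlgHom.id K _ := by
    apply MvPolynomial.algHom_ext
    intro θ
    rw [AlgHom.comp_apply, sigmaHom_X, map_mul, sigmaHom_X, AlgHom.id_apply, star_star,
      ← mul_assoc]
    have : sigmaHom K (C (((eps d : ℤˣ) : ℤ) : K) : PlRing K d n) = C (((eps d : ℤˣ) : ℤ) : K) := by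
      rw [← MvPolynomial.algebraMap_eq, AlgHom.commutes]
    rw [this, ← C_mul, eps_mul_self, C_1, one_mul]
  exact DFunLike.congr_fun h f

/-- The flip automorphism. -/
def sigma : PlRing K d n ≃ₐ[K] PlRing K d n :=
  AlgEquiv.ofAlgHom (sigmaHom K) (sigmaHom K)
    (AlgHom.ext fun f => sigmaHom_sigmaHom K f) (AlgHom.ext fun f => sigmaHom_sigmaHom K f)

lemma sigma_apply (f : PlRing K d n) : sigma K f = sigmaHom K f := rfl

/-- Evaluating `σ f` at the minors of `A` is evaluating `f` at the minors of the flipped `A`. -/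
lemma evalAt_sigmaHom {R : Type*} [CommRing R] [Algebra K R] (A : Matrix (Fin n) (Fin d) R)
    (f : PlRing K d n) : evalAt K A (sigmaHom K f) = evalAt K (flipM A) f := by
  have h : (evalAt K A).comp (sigmaHom K) = evalAt K (flipM A) := by
    apply MvPolynomial.algHom_ext
    intro θ
    rw [AlgHom.comp_apply, sigmaHom_X, map_mul, evalAt_X, evalAt_X, pM_star, ← mul_assoc]
    have : evalAt K A (C (((eps d : ℤˣ) : ℤ) : K) : PlRing K d n) = (((eps d : ℤˣ) : ℤ) : R) := by
      rw [← MvPolynomial.algebraMap_eq, AlgHom.commutes, map_intCast]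
    rw [this, eps_mul_self, one_mul]
  exact DFunLike.congr_fun h f

/-- The flip preserves the vanishing ideal of the whole Grassmannian cone. -/
lemma sigmaHom_mem_schubertVanishing_top (hdn : d ≤ n) (f : PlRing K d n)
    (hf : f ∈ schubertVanishing K d n (topI hdn)) :
    sigmaHom K f ∈ schubertVanishing K d n (topI hdn) := by
  unfold schubertVanishing at hf ⊢
  simp only [Ideal.mem_iInf] at hf ⊢
  intro A hA
  rw [RingHom.mem_ker]
  have h1 := hf (flipM A) (fun φ hφ => absurd (le_topI hdn φ) hφ)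
  rw [RingHom.mem_ker] at h1
  have h2 := evalAt_sigmaHom K A f
  exact h2.trans h1

variable [IsDomain K] [Infinite K]

lemma sigmaHom_shuffleRel_mem (hd : 0 < d) (hdn : d ≤ n) (i j : Idx d n) (r : Fin d)
    (hp : IsPivot i j r) :
    sigmaHom K (shuffleRel K i j r) ∈ plIdeal K (topI hdn) := by
  rw [← schubertVanishing_eq_plIdeal K hd]
  apply sigmaHom_mem_schubertVanishing_top
  rw [schubertVanishing_eq_plIdeal K hd]
  exact plIdealTop_le_plIdeal K _ (Ideal.subset_span ⟨i, j, r, hp, rfl⟩)

omit [IsDomain K] [Infinite K] in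
lemma plIdeal_top_le (hdn : d ≤ n) (τ : Idx d n) : plIdeal K (topI hdn) ≤ plIdeal K τ := by
  unfold plIdeal
  rw [Ideal.span_le]
  rintro f (⟨i, j, r, hp, rfl⟩ | ⟨φ, hφ, rfl⟩)
  · exact Ideal.subset_span (Or.inl ⟨i, j, r, hp, rfl⟩)
  · exact absurd (le_topI hdn φ) hφ

lemma sigmaHom_mem_plIdealB (hd : 0 < d) (hdn : d ≤ n) (v : Idx d n) (f : PlRing K d n)
    (hf : f ∈ plIdeal K (star v)) : sigmaHom K f ∈ plIdealB K v (topI hdn) := by
  have key : plIdeal K (star v) ≤ (plIdealB K v (topI hdn)).comap (sigmaHom K).toRingHom := by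
    unfold plIdeal
    rw [Ideal.span_le]
    rintro g (⟨i, j, r, hp, rfl⟩ | ⟨φ, hφ, rfl⟩)
    · rw [SetLike.mem_coe, Ideal.mem_comap]
      exact Ideal.mem_sup_left (sigmaHom_shuffleRel_mem K hd hdn i j r hp)
    · rw [SetLike.mem_coe, Ideal.mem_comap]
      show sigmaHom K (X φ) ∈ _
      rw [sigmaHom_X]
      apply Ideal.mul_mem_left
      apply Ideal.mem_sup_right
      apply Ideal.subset_span
      refine ⟨star φ, ?_, rfl⟩
      intro h
      apply hφ
      rw [← star_le_star, star_star]
      exact h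
  exact key hf

lemma sigmaHom_mem_plIdeal (hd : 0 < d) (hdn : d ≤ n) (v : Idx d n) (f : PlRing K d n)
    (hf : f ∈ plIdealB K v (topI hdn)) : sigmaHom K f ∈ plIdeal K (star v) := by
  have key : plIdealB K v (topI hdn) ≤ (plIdeal K (star v)).comap (sigmaHom K).toRingHom := by
    unfold plIdealB
    apply sup_le
    · unfold plIdeal
      rw [Ideal.span_le]
      rintro g (⟨i, j, r, hp, rfl⟩ | ⟨φ, hφ, rfl⟩)
      · rw [SetLike.mem_coe, Ideal.mem_comap]
        exact plIdeal_top_le K hdn _ (sigmaHom_shuffleRel_mem K hd hdn i j r hp)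
      · exact absurd (le_topI hdn φ) hφ
    · rw [Ideal.span_le]
      rintro g ⟨θ, hθ, rfl⟩
      rw [SetLike.mem_coe, Ideal.mem_comap]
      show sigmaHom K (X θ) ∈ _
      rw [sigmaHom_X]
      apply Ideal.mul_mem_left
      apply X_mem_plIdeal
      intro h
      exact hθ (star_le_star.mp h)
  exact key hf

/-- The flip exchanges the opposite Schubert ideal of `v` with the Schubert ideal of `v*`. -/
theorem plIdeal_star_eq_map (hd : 0 < d) (hdn : d ≤ n) (v : Idx d n) :
    plIdeal K (star v) = (plIdealB K v (topI hdn)).map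
      (((sigma K (d := d) (n := n)).toRingEquiv : PlRing K d n ≃+* PlRing K d n) :
        PlRing K d n →+* PlRing K d n) := by
  apply le_antisymm
  · intro x hx
    have h1 := sigmaHom_mem_plIdealB K hd hdn v x hx
    have h2 : x = (((sigma K (d := d) (n := n)).toRingEquiv : PlRing K d n ≃+* PlRing K d n) :
        PlRing K d n →+* PlRing K d n) (sigmaHom K x) := (sigmaHom_sigmaHom K x).symm
    rw [h2]
    exact Ideal.mem_map_of_mem _ h1
  · rw [Ideal.map_le_iff_le_comap]
    intro x hx
    rw [Ideal.mem_comap]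
    exact sigmaHom_mem_plIdeal K hd hdn v x hx

/-- The quotient by the opposite Schubert ideal of `v` is the Schubert cone of `v*`. -/
def flipQuot (hd : 0 < d) (hdn : d ≤ n) (v : Idx d n) :
    (PlRing K d n ⧸ plIdealB K v (topI hdn)) ≃+* (PlRing K d n ⧸ schubertVanishing K d n (star v)) :=
  Ideal.quotientEquiv _ _ (sigma K (d := d) (n := n)).toRingEquiv
    (by rw [schubertVanishing_eq_plIdeal K hd]; exact plIdeal_star_eq_map K hd hdn v)

end Groth.Agent.Lib.Helper6.Gr

end
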