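import Groth.Agent.Lib.Helper6.Grass.Dim2
import Groth.Agent.Lib.Helper6.Grass.Quad
import Groth.Agent.Lib.Helper6.GrCM.Hironaka
import Groth.Agent.Lib.Helper6.GrCM.SES

/-!
# Grassmannian: Schubert varieties and unions of Schubert divisors are arithmetically Cohen–Macaulay (helper6)
-/

open scoped Classical
set_option linter.unusedSectionVars false
set_option autoImplicit false

universe u v

noncomputable section

namespace Groth.Agent.Lib.Helper6.Gr

open W4bk4grassmannian MvPolynomial LocCoh Groth.Agent.Lib.Helper6.GrCM Groth.Agent.Helper8.Depth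

variable {d n : ℕ}

/-! ### Combinatorics of divisors -/

lemma wt_eq_codeg (w : Idx d n) : wt w = codeg w + ∑ t : Fin d, t.val := by
  unfold wt wtF codeg
  rw [← Finset.sum_add_distrib]
  apply Finset.sum_congr rfl
  intro t _
  have := idx_val_ge w t
  omega

lemma sup_divisors_eq {τ φ ψ : Idx d n} (hφ : φ ∈ divisors τ) (hψ : ψ ∈ divisors τ) (hne : φ ≠ ψ) :
    W4bk4grassmannian.sup φ ψ = τ := by
  have h1 : W4bk4grassmannian.sup φ ψ ≤ τ := sup_le' (le_of_lt hφ.1) (le_of_lt hψ.1)
  by_contra hcon
  have h2 : W4bk4grassmannian.sup φ ψ < τ := lt_of_le_of_ne h1 hcon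
  have h3 := codeg_lt_of_lt h2
  have h4 : φ = W4bk4grassmannian.sup φ ψ := by
    by_contra hne'
    have := codeg_lt_of_lt (lt_of_le_of_ne (le_sup_left' φ ψ) hne')
    have := hφ.2
    omega
  have h5 : ψ ≤ φ := by
    rw [h4]
    exact le_sup_right' φ ψ
  exact hne (divisor_eq_of_le hψ hφ h5).symm

lemma inf_mem_divisors {τ φ ψ : Idx d n} (hφ : φ ∈ divisors τ) (hψ : ψ ∈ divisors τ) (hne : φ ≠ ψ) :
    W4bk4grassmannian.inf φ ψ ∈ divisors ψ := by
  have hs := sup_divisors_eq hφ hψ hne
  have hw := wt_sup_inf φ ψ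
  rw [hs, wt_eq_codeg, wt_eq_codeg, wt_eq_codeg, wt_eq_codeg] at hw
  have h1 := hφ.2
  have h2 := hψ.2
  have hco : codeg (W4bk4grassmannian.inf φ ψ) + 1 = codeg ψ := by omega
  refine ⟨lt_of_le_of_ne (inf_le_right' φ ψ) ?_, hco⟩
  intro h
  rw [h] at hco
  omega

/-! ### Homogeneity -/

section Hom

variable (K : Type u) [Field K]

lemma isHomogeneous_neg_one_pow (σ : Type*) (k : ℕ) :
    ((-1 : MvPolynomial σ K) ^ k).IsHomogeneous 0 := by
  have : (-1 : MvPolynomial σ K) ^ k = C ((-1 : K) ^ k) := by
    rw [C_pow, C_neg, C_1]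
  rw [this]
  exact isHomogeneous_C _ _

lemma isHomogeneous_coord (a : Fin d → Fin n) : (coord K d n a).IsHomogeneous 1 := by
  unfold coord
  split_ifs with h
  · have := (isHomogeneous_neg_one_pow K (Idx d n) (invCount d n a)).mul
      (isHomogeneous_X K (sortIdx d n a h))
    rwa [zero_add] at this
  · exact isHomogeneous_zero _ _ _

lemma isHomogeneous_shuffleRel (i j : Idx d n) (r : Fin d) : (shuffleRel K i j r).IsHomogeneous 2 := by
  unfold shuffleRel
  apply IsHomogeneous.sum
  intro A _
  unfold shuffleTerm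
  split_ifs with hA
  · have := ((isHomogeneous_neg_one_pow K (Idx d n) (shuffleSign r A)).mul
      (isHomogeneous_coord K (shuffleI i j r A hA))).mul (isHomogeneous_coord K (shuffleJ i j r A hA))
    exact this
  · exact isHomogeneous_zero _ _ _

lemma homI_plIdeal (τ : Idx d n) : HomI (plIdeal K τ) := by
  unfold plIdeal
  apply homI_span
  rintro f (⟨i, j, r, _, rfl⟩ | ⟨φ, _, rfl⟩)
  · exact ⟨2, isHomogeneous_shuffleRel K i j r⟩
  · exact ⟨1, isHomogeneous_X K φ⟩

end Hom

variable (K : Type u) [Field K] [Infinite K] (hd : 0 < d) (hdn : d < n)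

include hd in
lemma homI_schubert (τ : Idx d n) : HomI (schubertVanishing K d n τ) := by
  rw [schubertVanishing_eq_plIdeal K hd τ]
  exact homI_plIdeal K τ

include hd in
lemma schubert_ne_top (τ : Idx d n) : schubertVanishing K d n τ ≠ ⊤ :=
  (schubert_isPrime K hd τ).ne_top

/-! ### Distributivity -/

include hd in
theorem finset_inf_sup_schubert (D : Finset (Idx d n)) (ψ : Idx d n) :
    (D.inf fun φ => schubertVanishing K d n φ) ⊔ schubertVanishing K d n ψ =
      D.inf fun φ => schubertVanishing K d n (W4bk4grassmannian.inf φ ψ) := by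
  have hsup : ∀ φ, schubertVanishing K d n φ ⊔ schubertVanishing K d n ψ =
      schubertVanishing K d n (W4bk4grassmannian.inf φ ψ) := by
    intro φ
    rw [schubertVanishing_eq_plIdeal K hd, schubertVanishing_eq_plIdeal K hd,
      schubertVanishing_eq_plIdeal K hd, plIdeal_sup]
  apply le_antisymm
  · rw [Finset.le_inf_iff]
    intro φ hφ
    rw [← hsup φ]
    exact sup_le_sup_right (Finset.inf_le hφ) _
  · intro f hf
    have hf' : ∀ φ ∈ D, f ∈ schubertVanishing K d n (W4bk4grassmannian.inf φ ψ) := by
      intro φ hφ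
      exact (Finset.inf_le (f := fun φ => schubertVanishing K d n (W4bk4grassmannian.inf φ ψ)) hφ) hf
    have htop : f ∈ stdAll K (d := d) (n := n) ⊔ (plIdealTop (d := d) (n := n) K).restrictScalars K := by
      rw [stdAll_sup_plIdealTop]; trivial
    obtain ⟨g, hg, t, ht, rfl⟩ := Submodule.mem_sup.mp htop
    have ht' : t ∈ plIdealTop (d := d) (n := n) K := ht
    have htJ : ∀ τ : Idx d n, t ∈ schubertVanishing K d n τ := fun τ =>
      plIdeal_le_schubertVanishing K τ (plIdealTop_le_plIdeal K τ ht')
    refine Submodule.add_mem _ ?_ (Ideal.mem_sup_right (htJ ψ))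
    unfold stdAll at hg
    obtain ⟨a, rfl⟩ := (Finsupp.mem_span_range_iff_exists_finsupp).mp hg
    have hcoef : ∀ φ ∈ D, ∀ c : (Σ m : ℕ, {c : Fin m → Idx d n // Antitone c}),
        (∀ k, c.2.1 k ≤ W4bk4grassmannian.inf φ ψ) → a c = 0 := by
      intro φ hφ c hc
      have hgJ : (a.sum fun c r => r • chainMon K c.2.1) ∈
          schubertVanishing K d n (W4bk4grassmannian.inf φ ψ) := by
        have := (schubertVanishing K d n (W4bk4grassmannian.inf φ ψ)).sub_mem (hf' φ hφ)
          (htJ (W4bk4grassmannian.inf φ ψ))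
        rwa [add_sub_cancel_right] at this
      have hker := schubertVanishing_le_ker K (W4bk4grassmannian.inf φ ψ) hgJ
      rw [RingHom.mem_ker] at hker
      exact coeff_eq_zero_of_phi K hd (W4bk4grassmannian.inf φ ψ)
        (fun x : (Σ m : ℕ, {c : Fin m → Idx d n // Antitone c}) =>
          (⟨x.1, x.2.1⟩ : Σ m : ℕ, Fin m → Idx d n))
        (by
          rintro ⟨m1, c1, h1⟩ ⟨m2, c2, h2⟩ h
          simp only [Sigma.mk.injEq] at h
          obtain ⟨rfl, h⟩ := h
          have := eq_of_heq h
          subst this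
          rfl)
        (fun x => x.2.2) a hker c hc
    rw [Finsupp.sum]
    apply Submodule.sum_mem
    intro c hc
    have hac : a c ≠ 0 := Finsupp.mem_support_iff.mp hc
    by_cases hψ : ∀ k, c.2.1 k ≤ ψ
    · apply Ideal.mem_sup_left
      rw [Submodule.mem_finsetInf]
      intro φ hφ
      rw [MvPolynomial.smul_eq_C_mul]
      apply Ideal.mul_mem_left
      apply plIdeal_le_schubertVanishing K φ
      apply chainMon_mem_plIdeal K φ c.2.1
      intro hle
      apply hac
      apply hcoef φ hφ c
      intro k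
      exact (le_inf_iff' (c.2.1 k) φ ψ).mpr ⟨hle k, hψ k⟩
    · apply Ideal.mem_sup_right
      rw [MvPolynomial.smul_eq_C_mul]
      apply Ideal.mul_mem_left
      apply plIdeal_le_schubertVanishing K ψ
      exact chainMon_mem_plIdeal K ψ c.2.1 hψ

/-! ### Depth -/

include hd in
/-- `X τ` is a nonzerodivisor modulo `J(τ)`. -/
lemma isSMulRegular_X (τ : Idx d n) :
    IsSMulRegular (PlRing K d n ⧸ schubertVanishing K d n τ) (X τ : PlRing K d n) := by
  haveI := schubert_isPrime K hd τ
  haveI : IsDomain (PlRing K d n ⧸ schubertVanishing K d n τ) := Ideal.Quotient.isDomain _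
  have hne : Ideal.Quotient.mk (schubertVanishing K d n τ) (X τ) ≠ 0 := by
    intro h
    have := congrArg (fQ K hd τ) h
    rw [fQ_X_tau, map_zero] at this
    exact X_ne_zero _ this
  intro a b hab
  have hab' : Ideal.Quotient.mk (schubertVanishing K d n τ) (X τ) * a =
      Ideal.Quotient.mk (schubertVanishing K d n τ) (X τ) * b := hab
  exact mul_left_cancel₀ hne hab'

lemma Finset.inf_ne_top_aux {S : Type*} [CommRing S] {ι : Type*} (D : Finset ι) (I : ι → Ideal S)
    (j : ι) (hj : j ∈ D) (h : I j ≠ ⊤) : D.inf I ≠ ⊤ := by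
  intro htop
  apply h
  rw [eq_top_iff, ← htop]
  exact Finset.inf_le hj

include hd hdn in
theorem depth_schubert_aux : ∀ m : ℕ,
    (∀ τ : Idx d n, codeg τ = m → ((m + 1 : ℕ) : ℕ∞) ≤
      idealDepth (irr (Idx d n) K) (PlRing K d n ⧸ schubertVanishing K d n τ)) ∧
    (∀ τ : Idx d n, codeg τ = m → ∀ D : Finset (Idx d n), D.Nonempty → (∀ φ ∈ D, φ ∈ divisors τ) →
      (m : ℕ∞) ≤ idealDepth (irr (Idx d n) K)
        (PlRing K d n ⧸ D.inf fun φ => schubertVanishing K d n φ)) := by
  intro m
  induction m using Nat.strong_induction_on with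
  | _ m ih =>
    have hb : ∀ τ : Idx d n, codeg τ = m → ∀ D : Finset (Idx d n), D.Nonempty →
        (∀ φ ∈ D, φ ∈ divisors τ) →
        (m : ℕ∞) ≤ idealDepth (irr (Idx d n) K)
          (PlRing K d n ⧸ D.inf fun φ => schubertVanishing K d n φ) := by
      intro τ hτ D
      induction D using Finset.induction_on with
      | empty => intro h; exact absurd h Finset.not_nonempty_empty
      | insert ψ D' hψD' ihD =>
        intro _ hdiv
        have hψ : ψ ∈ divisors τ := hdiv ψ (Finset.mem_insert_self _ _)
        have hcψ : codeg ψ = m - 1 := by have := hψ.2; omega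
        have hm1 : m - 1 < m := by have := hψ.2; omega
        have hm : m - 1 + 1 = m := by have := hψ.2; omega
        have hψdepth : (m : ℕ∞) ≤ idealDepth (irr (Idx d n) K)
            (PlRing K d n ⧸ schubertVanishing K d n ψ) := by
          have := (ih (m - 1) hm1).1 ψ hcψ
          rwa [hm] at this
        rw [Finset.inf_insert]
        by_cases hD' : D'.Nonempty
        · have h1 := ihD hD' (fun φ hφ => hdiv φ (Finset.mem_insert_of_mem hφ))
          -- the sum
          have hsum : schubertVanishing K d n ψ ⊔ (D'.inf fun φ => schubertVanishing K d n φ) =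
              (D'.image fun φ => W4bk4grassmannian.inf φ ψ).inf
                fun φ => schubertVanishing K d n φ := by
            rw [sup_comm, finset_inf_sup_schubert K hd D' ψ, Finset.inf_image]
            rfl
          have h2 : ((m - 1 : ℕ) : ℕ∞) ≤ idealDepth (irr (Idx d n) K)
              (PlRing K d n ⧸ (schubertVanishing K d n ψ ⊔
                (D'.inf fun φ => schubertVanishing K d n φ))) := by
            rw [hsum]
            apply (ih (m - 1) hm1).2 ψ hcψ _ (hD'.image _)
            intro θ hθ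
            obtain ⟨φ, hφ, rfl⟩ := Finset.mem_image.mp hθ
            apply inf_mem_divisors (hdiv φ (Finset.mem_insert_of_mem hφ)) hψ
            intro h
            exact hψD' (h ▸ hφ)
          have h3 := idealDepth_quotient_inf (irr (Idx d n) K) (schubertVanishing K d n ψ)
            (D'.inf fun φ => schubertVanishing K d n φ)
          refine le_trans ?_ h3
          refine le_min (le_min hψdepth h1) ?_
          have : ((m - 1 : ℕ) : ℕ∞) + 1 ≤ idealDepth (irr (Idx d n) K)
              (PlRing K d n ⧸ (schubertVanishing K d n ψ ⊔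
                (D'.inf fun φ => schubertVanishing K d n φ))) + 1 := by gcongr
          refine le_trans ?_ this
          exact_mod_cast le_of_eq hm.symm
        · rw [Finset.not_nonempty_iff_eq_empty] at hD'
          rw [hD', Finset.inf_empty, inf_top_eq]
          exact hψdepth
    refine ⟨?_, hb⟩
    intro τ hτ
    have hle : schubertVanishing K d n τ ≤ irr (Idx d n) K :=
      (homI_schubert K hd τ).le_irr (schubert_ne_top K hd τ)
    have hsm := smul_top_ne_top (σ := Idx d n) (K := K) hle
    have hreg := isSMulRegular_X K hd τ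
    have hXirr : (X τ : PlRing K d n) ∈ irr (Idx d n) K :=
      mem_irr_of_isHomogeneous one_pos (isHomogeneous_X K τ)
    have h1 := idealDepth_quotSMulTop_add_one hsm hXirr hreg
    rw [idealDepth_congr (quotEquiv (schubertVanishing K d n τ) (X τ))] at h1
    rw [← h1]
    by_cases hex : ∃ φ : Idx d n, φ < τ
    · rw [schubert_sup_span_eq K hd τ hex, ← iInf_divisors_eq_finset_inf]
      have hne : (Finset.univ.filter (fun φ => φ ∈ divisors τ)).Nonempty := by
        obtain ⟨φ, hφ⟩ := hex
        obtain ⟨φ', hφ', _⟩ := exists_divisor_ge φ τ hφ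
        exact ⟨φ', by simp [hφ']⟩
      have := hb τ hτ _ hne (fun φ hφ => by
        simp only [Finset.mem_filter, Finset.mem_univ, true_and] at hφ
        exact hφ)
      rw [Nat.cast_add, Nat.cast_one]
      gcongr
    · have hτB : τ = iotaB hdn := by
        by_contra hne
        apply hex
        exact ⟨iotaB hdn, lt_of_le_of_ne (iotaB_le hdn τ) (fun h => hne h.symm)⟩
      have hm0 : m = 0 := by rw [← hτ, hτB, codeg_iotaB]
      rw [hm0]
      simp

include hd hdn in
theorem depth_schubert (τ : Idx d n) : ((codeg τ + 1 : ℕ) : ℕ∞) ≤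
    idealDepth (irr (Idx d n) K) (PlRing K d n ⧸ schubertVanishing K d n τ) :=
  (depth_schubert_aux K hd hdn (codeg τ)).1 τ rfl

include hd hdn in
/-- Schubert varieties are arithmetically Cohen–Macaulay. -/
theorem isCohenMacaulayRing_schubert (τ : Idx d n) :
    IsCohenMacaulayRing (PlRing K d n ⧸ schubertVanishing K d n τ) :=
  isCohenMacaulayRing_of_depth_ge (schubertVanishing K d n τ) (homI_schubert K hd τ)
    (schubert_ne_top K hd τ) (codeg τ + 1) (le_of_eq (dim_schubert K hd hdn τ))
    (depth_schubert K hd hdn τ)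

include hd hdn in
/-- Unions of Schubert divisors are arithmetically Cohen–Macaulay. -/
theorem isCohenMacaulayRing_divisors (τ : Idx d n) (D : Finset (Idx d n)) (hD : D.Nonempty)
    (hdiv : ∀ φ ∈ D, φ ∈ divisors τ) :
    IsCohenMacaulayRing (PlRing K d n ⧸ D.inf fun φ => schubertVanishing K d n φ) := by
  obtain ⟨φ0, hφ0⟩ := hD
  refine isCohenMacaulayRing_of_depth_ge _ ?_ ?_ (codeg τ) ?_ ?_
  · rw [Finset.inf_eq_iInf]
    exact HomI.iInf fun φ => HomI.iInf fun _ => homI_schubert K hd φ
  · exact Finset.inf_ne_top_aux D _ φ0 hφ0 (schubert_ne_top K hd φ0)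
  · apply ringKrullDim_quotient_finset_inf_le
    intro φ hφ
    rw [dim_schubert K hd hdn φ]
    have := (hdiv φ hφ).2
    exact_mod_cast le_of_eq this
  · exact (depth_schubert_aux K hd hdn (codeg τ)).2 τ rfl D ⟨φ0, hφ0⟩ hdiv

end Groth.Agent.Lib.Helper6.Gr

end
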