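import Groth.Agent.Lib.Helper6.Grass.Band

/-!
# Grassmannian: the bottom Plücker coordinate is prime on every Schubert variety (helper6)
-/

open scoped Classical
set_option linter.unusedSectionVars false
set_option autoImplicit false

universe u v

noncomputable section

namespace Groth.Agent.Lib.Helper6.Gr

open W4bk4grassmannian MvPolynomial

variable {d n : ℕ}

lemma strictMono_gap (θ : Idx d n) : ∀ (k : ℕ) (t t' : Fin d), t.val + k = t'.val →
    (θ.1 t).val + k ≤ (θ.1 t').val := by
  intro k
  induction k with
  | zero =>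
    intro t t' h
    have : t = t' := Fin.ext (by omega)
    rw [this]; omega
  | succ k ih =>
    intro t t' h
    have hlt : t'.val - 1 < d := by have := t'.isLt; omega
    have h1 := ih t ⟨t'.val - 1, hlt⟩ (by simp only; omega)
    have h2 : θ.1 ⟨t'.val - 1, hlt⟩ < θ.1 t' := θ.2 (by rw [Fin.lt_def]; simp only; omega)
    rw [Fin.lt_def] at h2
    omega

/-- The bottom element `(0, 1, …, d-1)`. -/
def iotaB (hdn : d < n) : Idx d n := ⟨fun t => ⟨t.val, lt_trans t.isLt hdn⟩, fun _ _ h => h⟩

/-- The unique atom `(0, 1, …, d-2, d)`. -/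
def iotaA (hdn : d < n) : Idx d n :=
  ⟨fun t => ⟨if t.val + 1 = d then d else t.val, by
    split_ifs
    · exact hdn
    · exact lt_trans t.isLt hdn⟩, by
    intro a b h
    rw [Fin.lt_def] at h ⊢
    simp only
    have := a.isLt
    have := b.isLt
    split_ifs <;> omega⟩

lemma iotaB_le (hdn : d < n) (θ : Idx d n) : iotaB hdn ≤ θ := fun t => idx_val_ge θ t

lemma not_iotaA_le_iff (hd : 0 < d) (hdn : d < n) (θ : Idx d n) :
    ¬ iotaA hdn ≤ θ ↔ θ = iotaB hdn := by
  constructor
  · intro h
    by_contra hne
    apply h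
    -- some entry exceeds
    have hex : ∃ t, t.val < (θ.1 t).val := by
      by_contra hcon
      push Not at hcon
      apply hne
      apply idx_ext
      intro t
      apply Fin.ext
      have := idx_val_ge θ t
      have := hcon t
      simp only [iotaB]
      omega
    obtain ⟨t0, ht0⟩ := hex
    intro t
    rw [Fin.le_def]
    simp only [iotaA]
    split_ifs with hlast
    · have := strictMono_gap θ (t.val - t0.val) t0 t (by have := t0.isLt; omega)
      omega
    · exact idx_val_ge θ t
  · intro h hle
    rw [h] at hle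
    have := hle ⟨d - 1, by omega⟩
    rw [Fin.le_def] at this
    simp only [iotaA, iotaB] at this
    rw [if_pos (by omega)] at this
    omega

variable (K : Type u) [CommRing K]

lemma span_not_iotaA (hd : 0 < d) (hdn : d < n) :
    Ideal.span {f : PlRing K d n | ∃ θ : Idx d n, ¬ iotaA hdn ≤ θ ∧ f = X θ} =
      Ideal.span {(X (iotaB hdn) : PlRing K d n)} := by
  congr 1
  ext f
  simp only [Set.mem_ofPred_eq, Set.mem_singleton_iff]
  constructor
  · rintro ⟨θ, hθ, rfl⟩
    rw [(not_iotaA_le_iff hd hdn θ).mp hθ]
  · rintro rfl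
    exact ⟨iotaB hdn, (not_iotaA_le_iff hd hdn _).mpr rfl, rfl⟩

variable [IsDomain K] [Infinite K]

/-- `J(w) + (X_ι)` is a prime ideal. -/
theorem isPrime_schubert_sup_bottom (hd : 0 < d) (hdn : d < n) (w : Idx d n) :
    (schubertVanishing K d n w ⊔ Ideal.span {(X (iotaB hdn) : PlRing K d n)}).IsPrime := by
  rw [schubertVanishing_eq_plIdeal K hd, ← span_not_iotaA K hd hdn]
  have := ker_phiB_eq K hd (iotaA hdn) w
  unfold plIdealB at this
  rw [← this]
  exact RingHom.ker_isPrime _

/-- The class of the bottom coordinate is a prime element of `S/J(w)`. -/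
theorem prime_bottom (hd : 0 < d) (hdn : d < n) (w : Idx d n) :
    Prime (Ideal.Quotient.mk (schubertVanishing K d n w) (X (iotaB hdn))) := by
  have hne : Ideal.Quotient.mk (schubertVanishing K d n w) (X (iotaB hdn)) ≠ 0 := by
    intro h
    rw [Ideal.Quotient.eq_zero_iff_mem, schubertVanishing_eq_ker K hd, RingHom.mem_ker] at h
    have hm := (phi_X_monic K hd w (iotaB hdn) (iotaB_le hdn w)).1
    have : phi K w (X (iotaB hdn)) = 0 := h
    rw [this] at hm
    exact (MonomialOrder.Monic.ne_zero hm) rfl
  rw [← Ideal.span_singleton_prime hne]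
  have hP := isPrime_schubert_sup_bottom K hd hdn w
  have hmap := Ideal.map_isPrime_of_surjective
    (f := Ideal.Quotient.mk (schubertVanishing K d n w)) Ideal.Quotient.mk_surjective
    (I := schubertVanishing K d n w ⊔ Ideal.span {(X (iotaB hdn) : PlRing K d n)})
    (by rw [Ideal.mk_ker]; exact le_sup_left)
  rw [Ideal.map_sup, Ideal.map_quotient_self, bot_sup_eq, Ideal.map_span, Set.image_singleton] at hmap
  exact hmap

end Groth.Agent.Lib.Helper6.Gr

end
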