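import Groth.Agent.Lib.Helper6.Grass.Union

/-!
# Grassmannian: Schubert divisors (helper6)
-/

open scoped Classical
set_option linter.unusedSectionVars false
set_option autoImplicit false

universe u v

noncomputable section

namespace Groth.Agent.Lib.Helper6.Gr

open W4bk4grassmannian MvPolynomial

variable {d n : ℕ}

lemma idx_val_ge (τ : Idx d n) (t : Fin d) : t.val ≤ (τ.1 t).val :=
  val_le_of_strictMono τ.1 τ.2 t

/-- Every `θ < τ` lies below a Schubert divisor of `τ`. -/
theorem exists_divisor_ge (θ τ : Idx d n) (h : θ < τ) : ∃ φ ∈ divisors τ, θ ≤ φ := by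
  have hle : θ ≤ τ := le_of_lt h
  have hex : ∃ t, θ.1 t < τ.1 t := by
    by_contra hcon
    push Not at hcon
    exact absurd (le_antisymm hle hcon) (ne_of_lt h)
  set S := Finset.univ.filter (fun t : Fin d => θ.1 t < τ.1 t) with hS
  have hne : S.Nonempty := by
    obtain ⟨t, ht⟩ := hex
    exact ⟨t, by simp [hS, ht]⟩
  set t0 := S.min' hne with ht0
  have hlt0 : θ.1 t0 < τ.1 t0 := by
    have := Finset.min'_mem S hne
    simp only [hS, Finset.mem_filter, Finset.mem_univ, true_and] at this
    exact this
  have heq : ∀ t, t < t0 → θ.1 t = τ.1 t := by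
    intro t ht
    by_contra hcon
    have : t ∈ S := by
      simp only [hS, Finset.mem_filter, Finset.mem_univ, true_and]
      exact lt_of_le_of_ne (hle t) hcon
    exact absurd (Finset.min'_le S t this) (not_le.mpr ht)
  have hpos : 0 < (τ.1 t0).val := by
    have : (θ.1 t0).val < (τ.1 t0).val := hlt0
    omega
  set y : Fin n := ⟨(τ.1 t0).val - 1, by have := (τ.1 t0).isLt; omega⟩ with hy
  have hyv : y.val + 1 = (τ.1 t0).val := by simp only [hy]; omega
  have hmono : StrictMono (Function.update τ.1 t0 y) := by
    intro a b hab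
    by_cases hb : b = t0
    · have hab' : a < t0 := hb ▸ hab
      have ha : a ≠ t0 := ne_of_lt hab'
      rw [hb, Function.update_self, Function.update_of_ne ha]
      have h1 : τ.1 a = θ.1 a := (heq a hab').symm
      have h2 : θ.1 a < θ.1 t0 := θ.2 hab'
      rw [h1, Fin.lt_def]
      have h3 : (θ.1 a).val < (θ.1 t0).val := h2
      have h4 : (θ.1 t0).val < (τ.1 t0).val := hlt0
      omega
    · rw [Function.update_of_ne hb]
      by_cases ha : a = t0
      · rw [ha, Function.update_self]
        have h1 : τ.1 t0 < τ.1 b := τ.2 (ha ▸ hab)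
        rw [Fin.lt_def] at h1 ⊢
        omega
      · rw [Function.update_of_ne ha]
        exact τ.2 hab
  refine ⟨⟨Function.update τ.1 t0 y, hmono⟩, ⟨?_, ?_⟩, ?_⟩
  · -- φ < τ
    apply lt_of_le_of_ne
    · intro t
      show Function.update τ.1 t0 y t ≤ τ.1 t
      by_cases ht : t = t0
      · rw [ht, Function.update_self, Fin.le_def]
        omega
      · rw [Function.update_of_ne ht]
    · intro hcon
      have := congrArg (fun x : Idx d n => (x.1 t0).val) hcon
      simp only [Function.update_self] at this
      omega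
  · -- codeg
    unfold codeg
    have hsplit : ∀ w : Fin d → Fin n, (∑ t, ((w t).val - t.val)) =
        ((w t0).val - t0.val) + ∑ t ∈ Finset.univ.erase t0, ((w t).val - t.val) :=
      fun w => (Finset.add_sum_erase _ _ (Finset.mem_univ t0)).symm
    rw [hsplit, hsplit τ.1]
    have hrest : ∑ t ∈ Finset.univ.erase t0, ((Function.update τ.1 t0 y t).val - t.val) =
        ∑ t ∈ Finset.univ.erase t0, ((τ.1 t).val - t.val) := by
      apply Finset.sum_congr rfl
      intro t ht
      rw [Function.update_of_ne (Finset.ne_of_mem_erase ht)]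
    simp only
    rw [hrest, Function.update_self]
    have h1 := idx_val_ge θ t0
    have h4 : (θ.1 t0).val < (τ.1 t0).val := hlt0
    omega
  · intro t
    show θ.1 t ≤ Function.update τ.1 t0 y t
    by_cases ht : t = t0
    · rw [ht, Function.update_self, Fin.le_def]
      have h4 : (θ.1 t0).val < (τ.1 t0).val := hlt0
      omega
    · rw [Function.update_of_ne ht]
      exact hle t

variable (K : Type u) [CommRing K]

lemma plIdeal_anti {φ τ : Idx d n} (h : φ ≤ τ) : plIdeal K τ ≤ plIdeal K φ := by
  unfold plIdeal
  apply Ideal.span_mono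
  rintro f (hf | ⟨ψ, hψ, rfl⟩)
  · exact Or.inl hf
  · exact Or.inr ⟨ψ, fun hc => hψ (le_trans hc h), rfl⟩

variable [IsDomain K] [Infinite K]

theorem schubert_sup_span_eq (hd : 0 < d) (τ : Idx d n) (hτ : ∃ φ : Idx d n, φ < τ) :
    schubertVanishing K d n τ ⊔ Ideal.span {(X τ : PlRing K d n)} =
      ⨅ φ ∈ divisors τ, schubertVanishing K d n φ := by
  apply le_antisymm
  · apply sup_le
    · simp only [le_iInf_iff]
      intro φ hφ
      rw [schubertVanishing_eq_plIdeal K hd, schubertVanishing_eq_plIdeal K hd]
      exact plIdeal_anti K (le_of_lt hφ.1)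
    · rw [Ideal.span_le, Set.singleton_subset_iff]
      simp only [SetLike.mem_coe, Ideal.mem_iInf]
      intro φ hφ
      rw [schubertVanishing_eq_plIdeal K hd]
      exact X_mem_plIdeal K φ τ (not_le_of_gt hφ.1)
  · intro f hf
    simp only [Ideal.mem_iInf] at hf
    have hdec : f ∈ stdTau K τ ⊔ (plIdeal K τ).restrictScalars K := by
      rw [stdTau_sup_plIdeal]; trivial
    rw [Submodule.mem_sup] at hdec
    obtain ⟨g, hg, ι, hι, rfl⟩ := hdec
    have hι' : ι ∈ plIdeal K τ := hι
    unfold stdTau at hg
    rw [Finsupp.mem_span_range_iff_exists_finsupp] at hg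
    obtain ⟨a, rfl⟩ := hg
    -- chains starting with τ
    set p : (Σ m : ℕ, {c : Fin m → Idx d n // Antitone c ∧ ∀ k, c k ≤ τ}) → Prop :=
      fun c => ∃ h : 0 < c.1, c.2.1 ⟨0, h⟩ = τ with hp
    have hsplit := Finsupp.filter_add_filter_not a p
    have hsum : (a.sum fun i r => r • chainMon K i.2.1) =
        ((a.filter p).sum fun i r => r • chainMon K i.2.1) +
          ((a.filter fun c => ¬ p c).sum fun i r => r • chainMon K i.2.1) := by
      conv_lhs => rw [← hsplit]
      exact Finsupp.sum_add_index' (h := fun (i : (Σ m : ℕ, {c : Fin m → Idx d n // Antitone c ∧ ∀ k, c k ≤ τ}))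
        (r : K) => r • chainMon K i.2.1) (fun _ => zero_smul _ _) (fun _ _ _ => add_smul _ _ _)
    have hg1 : ((a.filter p).sum fun i r => r • chainMon K i.2.1) ∈
        Ideal.span {(X τ : PlRing K d n)} := by
      rw [Finsupp.sum]
      apply Ideal.sum_mem
      intro c hc
      have hpc : p c := by
        have := Finsupp.mem_support_iff.mp hc
        by_contra hn
        exact this (Finsupp.filter_apply_neg p a hn)
      obtain ⟨h0, hc0⟩ := hpc
      rw [Algebra.smul_def]
      apply Ideal.mul_mem_left
      obtain ⟨m, c, hc1, hc2⟩ := c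
      simp only at h0 hc0 ⊢
      unfold chainMon
      rw [← Finset.mul_prod_erase _ _ (Finset.mem_univ (⟨0, h0⟩ : Fin m)), hc0]
      exact Ideal.mul_mem_right _ _ (Ideal.subset_span rfl)
    have ha2 : a.filter (fun c => ¬ p c) = 0 := by
      ext c
      rw [Finsupp.zero_apply]
      by_cases hpc : p c
      · exact Finsupp.filter_apply_neg _ a (not_not.mpr hpc)
      · -- find a divisor above the chain
        have hdiv : ∃ φ ∈ divisors τ, ∀ k, c.2.1 k ≤ φ := by
          by_cases h0 : 0 < c.1
          · have hlt : c.2.1 ⟨0, h0⟩ < τ := by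
              refine lt_of_le_of_ne (c.2.2.2 _) ?_
              intro heq
              exact hpc ⟨h0, heq⟩
            obtain ⟨φ, hφ, hle⟩ := exists_divisor_ge _ τ hlt
            refine ⟨φ, hφ, fun k => le_trans (c.2.2.1 (Fin.mk_le_of_le_val (Nat.zero_le _))) hle⟩
          · obtain ⟨φ0, hφ0⟩ := hτ
            obtain ⟨φ, hφ, _⟩ := exists_divisor_ge φ0 τ hφ0
            refine ⟨φ, hφ, fun k => ?_⟩
            exact absurd (lt_of_le_of_lt (Nat.zero_le _) k.isLt) h0
        obtain ⟨φ, hφ, hle⟩ := hdiv
        -- g2 ∈ J(φ)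
        have hφτ : φ < τ := hφ.1
        have hf' := hf φ hφ
        rw [schubertVanishing_eq_plIdeal K hd] at hf'
        have hg2 : ((a.filter fun c => ¬ p c).sum fun i r => r • chainMon K i.2.1) ∈ plIdeal K φ := by
          have e : ((a.filter fun c => ¬ p c).sum fun i r => r • chainMon K i.2.1) =
              ((a.sum fun i r => r • chainMon K i.2.1) + ι) - ι -
                ((a.filter p).sum fun i r => r • chainMon K i.2.1) := by
            rw [hsum]
            ring
          rw [e]
          apply Ideal.sub_mem _ (Ideal.sub_mem _ hf' (plIdeal_anti K (le_of_lt hφτ) hι'))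
          have : Ideal.span {(X τ : PlRing K d n)} ≤ plIdeal K φ := by
            rw [Ideal.span_le, Set.singleton_subset_iff]
            exact X_mem_plIdeal K φ τ (not_le_of_gt hφτ)
          exact this hg1
        have hker := plIdeal_le_ker K φ hg2
        rw [RingHom.mem_ker] at hker
        exact coeff_eq_zero_of_phi K hd φ
          (fun x : (Σ m : ℕ, {c : Fin m → Idx d n // Antitone c ∧ ∀ k, c k ≤ τ}) =>
            (⟨x.1, x.2.1⟩ : Σ m : ℕ, Fin m → Idx d n))
          (by
            rintro ⟨m1, c1, h1⟩ ⟨m2, c2, h2⟩ h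
            simp only [Sigma.mk.injEq] at h
            obtain ⟨rfl, h⟩ := h
            have := eq_of_heq h
            subst this
            rfl)
          (fun x => x.2.2.1) _ hker c hle
    have hfin : (a.sum fun i r => r • chainMon K i.2.1) =
        ((a.filter p).sum fun i r => r • chainMon K i.2.1) := by
      rw [hsum, ha2]
      simp
    rw [hfin, add_comm]
    apply Ideal.add_mem
    · apply Ideal.mem_sup_left
      rw [schubertVanishing_eq_plIdeal K hd]
      exact hι'
    · exact Ideal.mem_sup_right hg1

end Groth.Agent.Lib.Helper6.Gr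

end
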