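import Mathlib.RingTheory.IntegralClosure.IntegrallyClosed
import Mathlib.RingTheory.Polynomial.ScaleRoots
import Mathlib.RingTheory.Localization.FractionRing
import Mathlib.RingTheory.Ideal.Operations

/-!
# A normality criterion (helper6)

If `R ⊆ A` are domains with `A` integrally closed, `A[1/x] = R[1/x]` for some `0 ≠ x ∈ R` and
`R/(x)` reduced, then `R` is integrally closed.
-/

open scoped Classical
set_option linter.unusedSectionVars false
set_option autoImplicit false

noncomputable section

namespace Groth.Agent.Lib.Helper6.Gr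

open Polynomial

theorem pow_mem_span_of_scaleRoots {R : Type*} [CommRing R] (p : R[X]) (hp : p.Monic) (x r : R)
    (k : ℕ) (h : eval r (scaleRoots p (x ^ (k + 1))) = 0) :
    r ^ p.natDegree ∈ Ideal.span {x} := by
  set q := scaleRoots p (x ^ (k + 1)) with hq
  have hN : q.natDegree = p.natDegree := natDegree_scaleRoots p _
  rw [eval_eq_sum_range, hN, Finset.sum_range_succ] at h
  have hlead : q.coeff p.natDegree = 1 := by
    rw [hq, coeff_scaleRoots_natDegree]
    exact hp
  rw [hlead, one_mul] at h
  have h2 : r ^ p.natDegree = - ∑ i ∈ Finset.range p.natDegree, q.coeff i * r ^ i := by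
    rw [eq_neg_iff_add_eq_zero, add_comm]
    exact h
  rw [h2]
  apply neg_mem
  apply sum_mem
  intro i hi
  rw [Finset.mem_range] at hi
  apply Ideal.mul_mem_right
  rw [hq, coeff_scaleRoots]
  apply Ideal.mul_mem_left
  have : p.natDegree - i = (p.natDegree - i - 1) + 1 := by omega
  rw [this, pow_succ, pow_succ]
  apply Ideal.mul_mem_left
  apply Ideal.mul_mem_left
  exact Ideal.mem_span_singleton_self x

theorem isIntegrallyClosed_of_embedding {R A : Type*} [CommRing R] [IsDomain R] [CommRing A]
    [IsDomain A] [IsIntegrallyClosed A] (f : R →+* A) (hf : Function.Injective f) (x : R)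
    (hx : x ≠ 0) (hgen : ∀ a : A, ∃ (k : ℕ) (r : R), a * f x ^ k = f r)
    (hrad : (Ideal.span {x}).IsRadical) : IsIntegrallyClosed R := by
  rw [isIntegrallyClosed_iff (FractionRing R)]
  intro z hz
  have hinj : Function.Injective ((algebraMap A (FractionRing A)).comp f) :=
    (IsFractionRing.injective A (FractionRing A)).comp hf
  set φ : FractionRing R →+* FractionRing A := IsFractionRing.lift hinj with hφdef
  have hφ : ∀ r, φ (algebraMap R (FractionRing R) r) = algebraMap A (FractionRing A) (f r) := by
    intro r
    rw [hφdef, IsFractionRing.lift_algebraMap]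
    rfl
  have hzG : IsIntegral A (φ z) := by
    apply IsIntegral.map_of_comp_eq f φ _ hz
    ext r
    simp only [RingHom.comp_apply]
    rw [hφ]
  obtain ⟨c, hc⟩ := (isIntegrallyClosed_iff (FractionRing A)).mp inferInstance hzG
  obtain ⟨k, r, hkr⟩ := hgen c
  have h1 : z * algebraMap R (FractionRing R) x ^ k = algebraMap R (FractionRing R) r := by
    apply φ.injective
    rw [map_mul, map_pow, hφ, hφ, ← hc, ← map_pow, ← map_mul, hkr]
  obtain ⟨p, hp, hpz⟩ := hz
  have hx' : algebraMap R (FractionRing R) x ≠ 0 := by
    intro h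
    apply hx
    apply IsFractionRing.injective R (FractionRing R)
    rw [h, map_zero]
  clear hkr hc hzG
  induction k generalizing r with
  | zero =>
    refine ⟨r, ?_⟩
    rw [← h1, pow_zero, mul_one]
  | succ k ih =>
    have h2 : eval₂ (algebraMap R (FractionRing R)) (algebraMap R (FractionRing R) r)
        (scaleRoots p (x ^ (k + 1))) = 0 := by
      have := scaleRoots_eval₂_eq_zero (algebraMap R (FractionRing R)) (s := x ^ (k + 1)) hpz
      rw [map_pow, mul_comm, h1] at this
      exact this
    rw [eval₂_at_apply] at h2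
    have h3 : eval r (scaleRoots p (x ^ (k + 1))) = 0 := by
      apply IsFractionRing.injective R (FractionRing R)
      rw [h2, map_zero]
    have h4 := pow_mem_span_of_scaleRoots p hp x r k h3
    have h5 : r ∈ Ideal.span {x} := hrad ⟨_, h4⟩
    rw [Ideal.mem_span_singleton'] at h5
    obtain ⟨r', hr'⟩ := h5
    apply ih r'
    rw [← hr', map_mul, pow_succ, ← mul_assoc] at h1
    exact mul_right_cancel₀ hx' h1

end Groth.Agent.Lib.Helper6.Gr
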