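import Groth.Agent.Lib.Helper6.Grass.Retract
import Groth.Agent.Lib.Helper6.Grass.Normal
import Groth.Agent.Lib.Helper6.Grass.Bottom
import Groth.Agent.Lib.Helper6.Grass.Divisor
import Mathlib.RingTheory.Polynomial.UniqueFactorization
import Mathlib.RingTheory.Polynomial.RationalRoot

/-!
# Grassmannian: Schubert cones are normal domains (helper6)
-/

open scoped Classical
set_option linter.unusedSectionVars false
set_option autoImplicit false

universe u v

noncomputable section

namespace Groth.Agent.Lib.Helper6.Gr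

open W4bk4grassmannian MvPolynomial

variable {d n : ℕ}

variable (K : Type u) [Field K] [Infinite K] (hd : 0 < d) (hdn : d < n) (τ : Idx d n)

include hd hdn in
theorem isRadical_schubert_sup :
    (schubertVanishing K d n τ ⊔ Ideal.span {(X τ : PlRing K d n)}).IsRadical := by
  by_cases hτ : ∃ φ : Idx d n, φ < τ
  · rw [schubert_sup_span_eq K hd τ hτ]
    apply Ideal.isRadical_iInf
    intro φ
    apply Ideal.isRadical_iInf
    intro _
    exact schubertVanishing_isRadical K φ
  · have : τ = iotaB hdn := by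
      by_contra hne
      apply hτ
      exact ⟨iotaB hdn, lt_of_le_of_ne (iotaB_le hdn τ) (fun h => hne h.symm)⟩
    have hP := isPrime_schubert_sup_bottom K hd hdn τ
    rw [← this] at hP
    exact hP.isRadical

include hd in
theorem schubert_isPrime : (schubertVanishing K d n τ).IsPrime := by
  rw [schubertVanishing_eq_ker K hd τ]
  exact RingHom.ker_isPrime _

/-- The comorphism of the opposite cell on the quotient. -/
def fQ : (PlRing K d n ⧸ schubertVanishing K d n τ) →+* MvPolynomial (FV hd τ) K :=
  Ideal.Quotient.lift _ (fC K hd τ).toRingHom (by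
    intro a ha
    rw [schubertVanishing_eq_ker K hd τ] at ha
    exact ker_phi_le_ker_fC K hd τ ha)

lemma fQ_mk (F : PlRing K d n) : fQ K hd τ (Ideal.Quotient.mk _ F) = fC K hd τ F := rfl

theorem fQ_injective : Function.Injective (fQ K hd τ) := by
  unfold fQ
  apply RingHom.lift_injective_of_ker_le_ideal
  rw [schubertVanishing_eq_ker K hd τ, ker_fC_eq]

lemma fQ_X_tau : fQ K hd τ (Ideal.Quotient.mk _ (X τ)) = X (yv hd τ) := by
  rw [fQ_mk, fC_X_tau]

theorem fQ_gen (a : MvPolynomial (FV hd τ) K) :
    ∃ (k : ℕ) (r : PlRing K d n ⧸ schubertVanishing K d n τ),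
      a * fQ K hd τ (Ideal.Quotient.mk _ (X τ)) ^ k = fQ K hd τ r := by
  obtain ⟨k, F, hF⟩ := fC_gen K hd τ a
  exact ⟨k, Ideal.Quotient.mk _ F, by rw [fQ_X_tau, fQ_mk, hF]⟩

include hd hdn in
theorem isRadical_span_mk :
    (Ideal.span {Ideal.Quotient.mk (schubertVanishing K d n τ) (X τ)}).IsRadical := by
  have e : Ideal.span {Ideal.Quotient.mk (schubertVanishing K d n τ) (X τ)} =
      (Ideal.span {(X τ : PlRing K d n)}).map (Ideal.Quotient.mk (schubertVanishing K d n τ)) := by
    rw [Ideal.map_span, Set.image_singleton]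
  rw [e]
  intro r hr
  obtain ⟨N, hN⟩ := hr
  obtain ⟨r, rfl⟩ := Ideal.Quotient.mk_surjective r
  rw [← map_pow, Ideal.mem_quotient_iff_mem_sup] at hN
  rw [Ideal.mem_quotient_iff_mem_sup]
  rw [sup_comm] at hN ⊢
  exact isRadical_schubert_sup K hd hdn τ ⟨N, hN⟩

include hd hdn in
theorem schubert_isDomain_and_isIntegrallyClosed :
    IsDomain (PlRing K d n ⧸ schubertVanishing K d n τ) ∧
      IsIntegrallyClosed (PlRing K d n ⧸ schubertVanishing K d n τ) := by
  haveI := schubert_isPrime K hd τ
  have hdom : IsDomain (PlRing K d n ⧸ schubertVanishing K d n τ) := Ideal.Quotient.isDomain _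
  refine ⟨hdom, ?_⟩
  haveI : IsIntegrallyClosed (MvPolynomial (FV hd τ) K) :=
    UniqueFactorizationMonoid.instIsIntegrallyClosed
  apply isIntegrallyClosed_of_embedding (fQ K hd τ) (fQ_injective K hd τ)
    (Ideal.Quotient.mk _ (X τ))
  · intro h
    have := fQ_X_tau K hd τ
    rw [h, map_zero] at this
    exact (X_ne_zero _) this.symm
  · exact fQ_gen K hd τ
  · exact isRadical_span_mk K hd hdn τ

end Groth.Agent.Lib.Helper6.Gr
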