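import Groth.Agent.Lib.Helper6.Grass.Quadric1

/-!
# Grassmannian: a vector satisfying the quadrics is a vector of minors (helper6)
-/

open scoped Classical
set_option linter.unusedSectionVars false
set_option autoImplicit false

universe u v

noncomputable section

namespace Groth.Agent.Lib.Helper6.Gr

open W4bk4grassmannian MvPolynomial

section images

variable {d n : ℕ}

lemma image_sortIdx (a : Fin d → Fin n) (h : (Finset.univ.image a).card = d) :
    Finset.univ.image (sortIdx d n a h).1 = Finset.univ.image a := by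
  have := Finset.image_orderEmbOfFin_univ (Finset.univ.image a) h
  rw [← this]
  rfl

lemma idx_eq_of_image_eq (θ θ' : Idx d n) (h : Finset.univ.image θ.1 = Finset.univ.image θ'.1) :
    θ = θ' := by
  have hc : (Finset.univ.image θ'.1).card = d := card_image_of_inj θ'.1 θ'.2.injective
  have h1 := Finset.orderEmbOfFin_unique hc (f := θ.1)
    (fun x => by rw [← h]; exact Finset.mem_image_of_mem _ (Finset.mem_univ _)) θ.2
  have h2 := Finset.orderEmbOfFin_unique hc (f := θ'.1)
    (fun x => Finset.mem_image_of_mem _ (Finset.mem_univ _)) θ'.2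
  apply Subtype.ext
  exact h1.trans h2.symm

lemma invCount_idx (θ : Idx d n) : invCount d n θ.1 = 0 := by
  unfold invCount
  rw [Finset.card_eq_zero, Finset.filter_eq_empty_iff]
  rintro p _ ⟨h1, h2⟩
  exact absurd (θ.2 h1) (not_lt.mpr (le_of_lt h2))

lemma image_comp_succAbove {m : ℕ} {α : Type*} [DecidableEq α] (g : Fin (m + 1) → α) (hg : Function.Injective g)
    (h : Fin (m + 1)) :
    Finset.univ.image (g ∘ h.succAbove) = (Finset.univ.image g).erase (g h) := by
  ext y
  simp only [Finset.mem_image, Finset.mem_univ, true_and, Function.comp_apply, Finset.mem_erase]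
  constructor
  · rintro ⟨k, rfl⟩
    exact ⟨fun heq => Fin.succAbove_ne h k (hg heq), ⟨_, rfl⟩⟩
  · rintro ⟨hne, t, rfl⟩
    have : t ≠ h := fun heq => hne (by rw [heq])
    obtain ⟨k, hk⟩ := Fin.exists_succAbove_eq this
    exact ⟨k, by rw [hk]⟩

lemma image_snoc {m : ℕ} {α : Type*} [DecidableEq α] (f : Fin m → α) (y : α) :
    Finset.univ.image (Fin.snoc f y : Fin (m + 1) → α) = insert y (Finset.univ.image f) := by
  ext z
  simp only [Finset.mem_image, Finset.mem_univ, true_and, Finset.mem_insert]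
  constructor
  · rintro ⟨t, rfl⟩
    rcases Fin.eq_castSucc_or_eq_last t with ⟨s, rfl⟩ | rfl
    · right
      exact ⟨s, by rw [Fin.snoc_castSucc]⟩
    · left
      rw [Fin.snoc_last]
  · rintro (rfl | ⟨s, rfl⟩)
    · exact ⟨Fin.last m, by rw [Fin.snoc_last]⟩
    · exact ⟨s.castSucc, by rw [Fin.snoc_castSucc]⟩

end images

variable {e n : ℕ}

variable (K : Type u) [Field K]

/-- Value of the signed coordinate of a tuple at the vector `q`. -/
def Qf (q : Idx (e + 1) n → K) (a : Fin (e + 1) → Fin n) : K := eval q (coord K (e + 1) n a)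

lemma Qf_of_not_inj (q : Idx (e + 1) n → K) (a : Fin (e + 1) → Fin n)
    (h : ¬ (Finset.univ.image a).card = e + 1) : Qf K q a = 0 := by
  unfold Qf coord
  rw [dif_neg h, map_zero]

lemma Qf_sort (q : Idx (e + 1) n → K) (a : Fin (e + 1) → Fin n)
    (h : (Finset.univ.image a).card = e + 1) :
    Qf K q a = (-1) ^ invCount (e + 1) n a * q (sortIdx (e + 1) n a h) := by
  unfold Qf coord
  rw [dif_pos h, map_mul, map_pow, map_neg, map_one, eval_X]

lemma Qf_idx (q : Idx (e + 1) n → K) (θ : Idx (e + 1) n) : Qf K q θ.1 = q θ := by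
  have h := card_image_of_inj θ.1 θ.2.injective
  rw [Qf_sort K q θ.1 h, invCount_idx, pow_zero, one_mul, sortIdx_self]

lemma eval_quadric (q : Idx (e + 1) n → K) (i' : Idx e n) (j' : Idx (e + 2) n) :
    eval q (quadric K i' j') = ∑ h : Fin (e + 2), (-1 : K) ^ (h.val + 1) *
      Qf K q (Fin.snoc i'.1 (j'.1 h)) * Qf K q (j'.1 ∘ h.succAbove) := by
  unfold quadric Qf
  rw [map_sum]
  apply Finset.sum_congr rfl
  intro h _
  rw [map_mul, map_mul, map_pow, map_neg, map_one]

/-- Number of entries outside `θ0`. -/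
def kk (θ0 : Idx (e + 1) n) (a : Fin (e + 1) → Fin n) : ℕ :=
  ((Finset.univ.image a) \ (Finset.univ.image θ0.1)).card

lemma Qf_congr (q q'' : Idx (e + 1) n → K) (θ0 : Idx (e + 1) n) (k : ℕ)
    (hagree : ∀ θ' : Idx (e + 1) n, kk θ0 θ'.1 < k → q θ' = q'' θ')
    (b : Fin (e + 1) → Fin n) (hb : kk θ0 b < k) : Qf K q b = Qf K q'' b := by
  by_cases h : (Finset.univ.image b).card = e + 1
  · rw [Qf_sort K q b h, Qf_sort K q'' b h, hagree]
    unfold kk
    rw [image_sortIdx]
    exact hb
  · rw [Qf_of_not_inj K q b h, Qf_of_not_inj K q'' b h]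

/-- Uniqueness: a solution of the quadrics is determined by its values near `θ0`. -/
theorem quadric_uniq (q q'' : Idx (e + 1) n → K)
    (hq : ∀ (i' : Idx e n) (j' : Idx (e + 2) n), eval q (quadric K i' j') = 0)
    (hq'' : ∀ (i' : Idx e n) (j' : Idx (e + 2) n), eval q'' (quadric K i' j') = 0)
    (θ0 : Idx (e + 1) n) (h0 : q θ0 ≠ 0)
    (h1 : ∀ θ : Idx (e + 1) n, kk θ0 θ.1 ≤ 1 → q θ = q'' θ) : ∀ θ, q θ = q'' θ := by
  have h00 : q θ0 = q'' θ0 := h1 θ0 (by unfold kk; simp)
  suffices H : ∀ (k : ℕ) (θ : Idx (e + 1) n), kk θ0 θ.1 = k → q θ = q'' θ from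
    fun θ => H _ θ rfl
  intro k
  induction k using Nat.strong_induction_on with
  | _ k ih =>
  intro θ hk
  by_cases hk1 : k ≤ 1
  · exact h1 θ (hk ▸ hk1)
  push Not at hk1
  have hagree : ∀ θ' : Idx (e + 1) n, kk θ0 θ'.1 < k → q θ' = q'' θ' :=
    fun θ' h => ih _ h θ' rfl
  -- pick an outside entry
  have hne : ((Finset.univ.image θ.1) \ (Finset.univ.image θ0.1)).Nonempty := by
    rw [← Finset.card_pos]
    unfold kk at hk
    omega
  obtain ⟨x, hx⟩ := hne
  have hxθ : x ∈ Finset.univ.image θ.1 := (Finset.mem_sdiff.mp hx).1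
  have hxθ0 : x ∉ Finset.univ.image θ0.1 := (Finset.mem_sdiff.mp hx).2
  obtain ⟨u, -, hu⟩ := Finset.mem_image.mp hxθ
  set i' : Idx e n := ⟨θ.1 ∘ u.succAbove, θ.2.comp (Fin.strictMono_succAbove u)⟩ with hi'
  set S : Finset (Fin n) := insert x (Finset.univ.image θ0.1) with hS
  have hScard : S.card = e + 2 := by
    rw [hS, Finset.card_insert_of_notMem hxθ0, card_image_of_inj θ0.1 θ0.2.injective]
  set j' : Idx (e + 2) n := ⟨S.orderEmbOfFin hScard, (S.orderEmbOfFin hScard).strictMono⟩ with hj'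
  have himj : Finset.univ.image j'.1 = S := Finset.image_orderEmbOfFin_univ S hScard
  have hxS : x ∈ Finset.univ.image j'.1 := by
    rw [himj, hS]
    exact Finset.mem_insert_self _ _
  obtain ⟨hx', -, hhx⟩ := Finset.mem_image.mp hxS
  have e1 := hq i' j'
  have e2 := hq'' i' j'
  rw [eval_quadric, ← Finset.add_sum_erase _ _ (Finset.mem_univ hx')] at e1 e2
  -- the other terms agree
  have hrest : ∑ h ∈ Finset.univ.erase hx', (-1 : K) ^ (h.val + 1) *
      Qf K q (Fin.snoc i'.1 (j'.1 h)) * Qf K q (j'.1 ∘ h.succAbove) =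
      ∑ h ∈ Finset.univ.erase hx', (-1 : K) ^ (h.val + 1) *
      Qf K q'' (Fin.snoc i'.1 (j'.1 h)) * Qf K q'' (j'.1 ∘ h.succAbove) := by
    apply Finset.sum_congr rfl
    intro h hh
    have hhne : h ≠ hx' := Finset.ne_of_mem_erase hh
    have hyne : j'.1 h ≠ x := by
      rw [← hhx]
      exact fun heq => hhne (j'.2.injective heq)
    have hyS : j'.1 h ∈ S := by
      rw [← himj]
      exact Finset.mem_image_of_mem _ (Finset.mem_univ _)
    have hyθ0 : j'.1 h ∈ Finset.univ.image θ0.1 := by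
      rw [hS, Finset.mem_insert] at hyS
      exact hyS.resolve_left hyne
    have hk1' : kk θ0 (Fin.snoc i'.1 (j'.1 h)) < k := by
      unfold kk
      have hsub : (Finset.univ.image (Fin.snoc i'.1 (j'.1 h) : Fin (e + 1) → Fin n)) \
          (Finset.univ.image θ0.1) ⊆
          ((Finset.univ.image θ.1) \ (Finset.univ.image θ0.1)).erase x := by
        intro z hz
        rw [Finset.mem_sdiff, image_snoc, Finset.mem_insert] at hz
        obtain ⟨hz1, hz2⟩ := hz
        rcases hz1 with rfl | hz1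
        · exact absurd hyθ0 hz2
        · have : Finset.univ.image i'.1 = (Finset.univ.image θ.1).erase (θ.1 u) :=
            image_comp_succAbove θ.1 θ.2.injective u
          rw [this, hu, Finset.mem_erase] at hz1
          rw [Finset.mem_erase, Finset.mem_sdiff]
          exact ⟨hz1.1, hz1.2, hz2⟩
      have hc := Finset.card_le_card hsub
      rw [Finset.card_erase_of_mem hx] at hc
      unfold kk at hk
      omega
    have hk2' : kk θ0 (j'.1 ∘ h.succAbove) < k := by
      unfold kk
      have hsub : (Finset.univ.image (j'.1 ∘ h.succAbove)) \ (Finset.univ.image θ0.1) ⊆ {x} := by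
        intro z hz
        rw [Finset.mem_sdiff, image_comp_succAbove j'.1 j'.2.injective h, Finset.mem_erase, himj, hS,
          Finset.mem_insert] at hz
        rw [Finset.mem_singleton]
        exact hz.1.2.resolve_right hz.2
      have hc := Finset.card_le_card hsub
      rw [Finset.card_singleton] at hc
      omega
    rw [Qf_congr K q q'' θ0 k hagree _ hk1', Qf_congr K q q'' θ0 k hagree _ hk2']
  -- the distinguished term
  have himsn : Finset.univ.image (Fin.snoc i'.1 x : Fin (e + 1) → Fin n) = Finset.univ.image θ.1 := by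
    rw [image_snoc]
    have : Finset.univ.image i'.1 = (Finset.univ.image θ.1).erase (θ.1 u) :=
      image_comp_succAbove θ.1 θ.2.injective u
    rw [this, hu, Finset.insert_erase hxθ]
  have hcsn : (Finset.univ.image (Fin.snoc i'.1 x : Fin (e + 1) → Fin n)).card = e + 1 := by
    rw [himsn]
    exact card_image_of_inj θ.1 θ.2.injective
  have hsortsn : sortIdx (e + 1) n (Fin.snoc i'.1 x) hcsn = θ := by
    apply idx_eq_of_image_eq
    rw [image_sortIdx, himsn]
  set θ1 : Idx (e + 1) n := ⟨j'.1 ∘ hx'.succAbove, j'.2.comp (Fin.strictMono_succAbove hx')⟩ with hθ1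
  have hθ1eq : θ1 = θ0 := by
    apply idx_eq_of_image_eq
    show Finset.univ.image (j'.1 ∘ hx'.succAbove) = Finset.univ.image θ0.1
    rw [image_comp_succAbove j'.1 j'.2.injective hx', himj, hhx, hS, Finset.erase_insert hxθ0]
  have hA : ∀ q₀ : Idx (e + 1) n → K, Qf K q₀ (j'.1 ∘ hx'.succAbove) = q₀ θ0 := by
    intro q₀
    have h5 : Qf K q₀ θ1.1 = q₀ θ1 := Qf_idx K q₀ θ1
    have h6 : q₀ θ1 = q₀ θ0 := congrArg q₀ hθ1eq
    exact h5.trans h6
  rw [hhx, Qf_sort K q _ hcsn, hsortsn, hA q] at e1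
  rw [hhx, Qf_sort K q'' _ hcsn, hsortsn, hA q'', ← hrest, ← h00] at e2
  have hdiff : (-1 : K) ^ (hx'.val + 1) * ((-1) ^ invCount (e + 1) n (Fin.snoc i'.1 x) * q θ) * q θ0 =
      (-1 : K) ^ (hx'.val + 1) * ((-1) ^ invCount (e + 1) n (Fin.snoc i'.1 x) * q'' θ) * q θ0 := by
    have := e1.trans e2.symm
    exact add_right_cancel this
  have hu1 : (-1 : K) ^ (hx'.val + 1) ≠ 0 := pow_ne_zero _ (neg_ne_zero.mpr one_ne_zero)
  have hu2 : (-1 : K) ^ invCount (e + 1) n (Fin.snoc i'.1 x) ≠ 0 :=
    pow_ne_zero _ (neg_ne_zero.mpr one_ne_zero)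
  have h3 := mul_right_cancel₀ h0 hdiff
  have h4 := mul_left_cancel₀ hu1 h3
  exact mul_left_cancel₀ hu2 h4

end Groth.Agent.Lib.Helper6.Gr
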