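import Groth.Agent.Lib.Helper6.Grass.Union
import Mathlib.LinearAlgebra.Matrix.Block
import Mathlib.LinearAlgebra.Matrix.NonsingularInverse
import Mathlib.RingTheory.Localization.FractionRing

/-!
# Grassmannian: structure of the opposite big cell of a Schubert variety (helper6)

`S/J(τ)` embeds into the polynomial ring `A = K[z, y]` on the free positions of the echelon
matrix of `τ`, such that `X_τ ↦ y` and `A[1/y]` is generated by the image and `1/y`.
-/

open scoped Classical
set_option linter.unusedSectionVars false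
set_option autoImplicit false

universe u v

noncomputable section

namespace Groth.Agent.Lib.Helper6.Gr

open W4bk4grassmannian MvPolynomial

variable {d n : ℕ}

section general

lemma map_pM {R R' : Type*} [CommRing R] [CommRing R'] (g : R →+* R')
    (M : Matrix (Fin n) (Fin d) R) (a : Fin d → Fin n) :
    g (pM M a) = pM (M.map g) a := by
  unfold pM
  rw [RingHom.map_det]
  rfl

lemma pM_mul {R : Type*} [CommRing R] (M : Matrix (Fin n) (Fin d) R)
    (h : Matrix (Fin d) (Fin d) R) (a : Fin d → Fin n) :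
    pM (M * h) a = pM M a * h.det := by
  unfold pM
  rw [← Matrix.det_mul]
  congr 1

/-- Determinant of a matrix which is diagonal except in row `t`. -/
lemma det_diag_except_row {R : Type*} [CommRing R] (D : Fin d → R) (t : Fin d) (r : Fin d → R) :
    Matrix.det (Matrix.of fun s c : Fin d => if s = t then r c else if s = c then D s else 0) =
      r t * ∏ s ∈ Finset.univ.erase t, D s := by
  rw [Matrix.det_apply']
  rw [Finset.sum_eq_single (1 : Equiv.Perm (Fin d))]
  · simp only [Equiv.Perm.sign_one, Units.val_one, Int.cast_one, one_mul, Equiv.Perm.coe_one, id_eq,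
      Matrix.of_apply]
    rw [← Finset.mul_prod_erase Finset.univ _ (Finset.mem_univ t)]
    rw [if_pos rfl]
    congr 1
    apply Finset.prod_congr rfl
    intro s hs
    rw [if_neg (Finset.ne_of_mem_erase hs)]
    simp
  · intro σ _ hσ
    have : ∃ i, σ i ≠ t ∧ σ i ≠ i := by
      have h1 : ∃ i, σ i ≠ i := by
        by_contra hcon
        push Not at hcon
        exact hσ (Equiv.ext hcon)
      obtain ⟨i, hi⟩ := h1
      by_cases hit : σ i = t
      · refine ⟨t, ?_, ?_⟩
        · intro h
          have : i = t := σ.injective (hit.trans h.symm)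
          rw [this] at hi
          exact hi h
        · intro h
          have : i = t := σ.injective (hit.trans h.symm)
          rw [this] at hi
          exact hi h
      · exact ⟨i, hit, hi⟩
    obtain ⟨i, hi1, hi2⟩ := this
    rw [Finset.prod_eq_zero (Finset.mem_univ i), mul_zero]
    rw [Matrix.of_apply, if_neg hi1, if_neg hi2]
  · intro h
    exact absurd (Finset.mem_univ _) h

end general

variable (K : Type u) [Field K] (hd : 0 < d) (τ : Idx d n)

/-- Free positions of the normalized echelon matrix: `(t, i)` with `i ≤ τ_t` and `i` not a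
row of `τ`, together with the corner `(0, τ_0)`. -/
def IsFree (v : Var d n) : Prop :=
  (ofLex v).2 ≤ τ.1 (ofLex v).1 ∧
    ((∀ s, τ.1 s ≠ (ofLex v).2) ∨ v = toLex ((⟨0, hd⟩ : Fin d), τ.1 ⟨0, hd⟩))

/-- The type of free positions. -/
abbrev FV : Type := {v : Var d n // IsFree hd τ v}

/-- The corner variable. -/
def yv : FV hd τ := ⟨toLex ((⟨0, hd⟩ : Fin d), τ.1 ⟨0, hd⟩), le_refl _, Or.inr rfl⟩

/-- The normalized echelon matrix: rows `τ` are `diag(y, 1, …, 1)`. -/
def Cmat : Matrix (Fin n) (Fin d) (MvPolynomial (FV hd τ) K) :=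
  Matrix.of fun i t => if h : IsFree hd τ (toLex (t, i)) then X ⟨toLex (t, i), h⟩
    else if i = τ.1 t then 1 else 0

/-- Diagonal entries. -/
def Dg (t : Fin d) : MvPolynomial (FV hd τ) K := if t = ⟨0, hd⟩ then X (yv hd τ) else 1

lemma Cmat_tau (s t : Fin d) : Cmat K hd τ (τ.1 s) t = if s = t then Dg K hd τ s else 0 := by
  unfold Cmat Dg
  rw [Matrix.of_apply]
  by_cases hf : IsFree hd τ (toLex (t, τ.1 s))
  · rw [dif_pos hf]
    have h2 := hf.2
    rcases h2 with h2 | h2
    · exact absurd rfl (h2 s)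
    · have h3 : (t, τ.1 s) = ((⟨0, hd⟩ : Fin d), τ.1 ⟨0, hd⟩) := h2
      have ht : t = ⟨0, hd⟩ := (Prod.mk.inj h3).1
      have hs : s = ⟨0, hd⟩ := τ.2.injective (Prod.mk.inj h3).2
      rw [if_pos (hs.trans ht.symm), if_pos hs]
      congr 1
      apply Subtype.ext
      exact h2
  · rw [dif_neg hf]
    by_cases hst : s = t
    · rw [if_pos hst, if_pos (by rw [hst])]
      rw [if_neg]
      intro h0
      apply hf
      rw [← hst, h0]
      exact ⟨le_refl _, Or.inr rfl⟩
    · rw [if_neg hst, if_neg]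
      intro h
      exact hst (τ.2.injective h)

lemma Cmat_free (i : Fin n) (t : Fin d) (hi : ∀ s, τ.1 s ≠ i) (hle : i ≤ τ.1 t) :
    Cmat K hd τ i t = X ⟨toLex (t, i), hle, Or.inl hi⟩ := by
  unfold Cmat
  rw [Matrix.of_apply, dif_pos ⟨hle, Or.inl hi⟩]

lemma Cmat_zero (i : Fin n) (t : Fin d) (h : τ.1 t < i) : Cmat K hd τ i t = 0 := by
  unfold Cmat
  rw [Matrix.of_apply, dif_neg, if_neg (ne_of_gt h)]
  intro hf
  exact absurd hf.1 (not_le.mpr h)

/-- Specialization of the generic echelon matrix to the normalized one. -/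
def spec : MvPolynomial (Var d n) K →ₐ[K] MvPolynomial (FV hd τ) K :=
  aeval fun v => Cmat K hd τ (ofLex v).2 (ofLex v).1

lemma Lmat_map_spec : (Lmat K τ).map (spec K hd τ) = Cmat K hd τ := by
  ext i t
  simp only [Lmat, Matrix.map_apply, Matrix.of_apply]
  by_cases h : i ≤ τ.1 t
  · rw [if_pos h]
    unfold spec
    rw [aeval_X]
    rfl
  · rw [if_neg h, map_zero, Cmat_zero K hd τ i t (not_le.mp h)]

/-- The comorphism of the opposite cell. -/
def fC : PlRing K d n →ₐ[K] MvPolynomial (FV hd τ) K := evalAt K (Cmat K hd τ)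

lemma fC_eq : fC K hd τ = (spec K hd τ).comp (phi K τ) := by
  apply MvPolynomial.algHom_ext
  intro θ
  rw [AlgHom.comp_apply]
  unfold fC phi
  rw [evalAt_X, evalAt_X]
  have := map_pM (spec K hd τ).toRingHom (Lmat K τ) θ.1
  rw [← Lmat_map_spec]
  exact this.symm

lemma ker_phi_le_ker_fC : RingHom.ker (phi K τ).toRingHom ≤ RingHom.ker (fC K hd τ).toRingHom := by
  intro F hF
  rw [RingHom.mem_ker] at hF ⊢
  have hF' : phi K τ F = 0 := hF
  show fC K hd τ F = 0
  rw [fC_eq, AlgHom.comp_apply, hF', map_zero]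

lemma fC_X_tau : fC K hd τ (X τ) = X (yv hd τ) := by
  unfold fC
  rw [evalAt_X]
  unfold pM
  have : (Cmat K hd τ).submatrix τ.1 id = Matrix.diagonal (Dg K hd τ) := by
    ext s t
    rw [Matrix.submatrix_apply, id_eq, Cmat_tau, Matrix.diagonal_apply]
  rw [this, Matrix.det_diagonal]
  unfold Dg
  rw [Finset.prod_ite_eq' Finset.univ (⟨0, hd⟩ : Fin d) (fun _ => X (yv hd τ))]
  rw [if_pos (Finset.mem_univ _)]

/-- A free variable off `τ`, times `y`, is in the image. -/
lemma X_free_mul (i : Fin n) (t : Fin d) (hi : ∀ s, τ.1 s ≠ i) (hle : i ≤ τ.1 t) :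
    ∃ F : PlRing K d n, (X ⟨toLex (t, i), hle, Or.inl hi⟩ : MvPolynomial (FV hd τ) K) * X (yv hd τ) =
      fC K hd τ F := by
  have key : pM (Cmat K hd τ) (Function.update τ.1 t i) =
      X ⟨toLex (t, i), hle, Or.inl hi⟩ * ∏ s ∈ Finset.univ.erase t, Dg K hd τ s := by
    unfold pM
    have : (Cmat K hd τ).submatrix (Function.update τ.1 t i) id =
        Matrix.of fun s c : Fin d => if s = t then Cmat K hd τ i c else
          if s = c then Dg K hd τ s else 0 := by
      ext s c
      rw [Matrix.submatrix_apply, id_eq, Matrix.of_apply]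
      by_cases hst : s = t
      · rw [if_pos hst, hst, Function.update_self]
      · rw [if_neg hst, Function.update_of_ne hst, Cmat_tau]
    rw [this, det_diag_except_row, Cmat_free K hd τ i t hi hle]
  have hprod : ∏ s ∈ Finset.univ.erase t, Dg K hd τ s =
      if t = ⟨0, hd⟩ then 1 else X (yv hd τ) := by
    unfold Dg
    rw [Finset.prod_ite_eq' (Finset.univ.erase t) (⟨0, hd⟩ : Fin d) (fun _ => X (yv hd τ))]
    by_cases ht : t = ⟨0, hd⟩
    · rw [if_pos ht, if_neg]
      rw [ht]
      exact Finset.notMem_erase _ _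
    · rw [if_neg ht, if_pos]
      exact Finset.mem_erase.mpr ⟨fun h => ht h.symm, Finset.mem_univ _⟩
  rw [hprod] at key
  by_cases ht : t = ⟨0, hd⟩
  · rw [if_pos ht, mul_one] at key
    refine ⟨coord K d n (Function.update τ.1 t i) * X τ, ?_⟩
    rw [map_mul, fC_X_tau]
    unfold fC
    rw [evalAt_coord, key]
  · rw [if_neg ht] at key
    refine ⟨coord K d n (Function.update τ.1 t i), ?_⟩
    unfold fC
    rw [evalAt_coord, key]

/-- Every element of `A`, times a power of `y`, is in the image of `fC`. -/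
theorem fC_gen (a : MvPolynomial (FV hd τ) K) :
    ∃ (k : ℕ) (F : PlRing K d n), a * X (yv hd τ) ^ k = fC K hd τ F := by
  induction a using MvPolynomial.induction_on with
  | C c =>
    refine ⟨0, C c, ?_⟩
    rw [pow_zero, mul_one]
    exact ((fC K hd τ).commutes c).symm
  | add p q hp hq =>
    obtain ⟨k, F, hF⟩ := hp
    obtain ⟨k', F', hF'⟩ := hq
    refine ⟨k + k', F * X τ ^ k' + F' * X τ ^ k, ?_⟩
    rw [map_add, map_mul, map_mul, map_pow, map_pow, fC_X_tau, ← hF, ← hF']
    ring
  | mul_X p v hp =>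
    obtain ⟨k, F, hF⟩ := hp
    have hv : ∃ G : PlRing K d n, (X v : MvPolynomial (FV hd τ) K) * X (yv hd τ) = fC K hd τ G := by
      obtain ⟨v, hv1, hv2⟩ := v
      rcases hv2 with hv2 | hv2
      · exact X_free_mul K hd τ (ofLex v).2 (ofLex v).1 hv2 hv1
      · refine ⟨X τ * X τ, ?_⟩
        rw [map_mul, fC_X_tau]
        congr 2
        apply Subtype.ext
        exact hv2
    obtain ⟨G, hG⟩ := hv
    refine ⟨k + 1, F * G, ?_⟩
    rw [map_mul, ← hF, ← hG]
    ring

end Groth.Agent.Lib.Helper6.Gr
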