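import Mathlib

/-!
# Multilinear maps vanishing on adjacent repetitions (helper6)
-/

set_option autoImplicit false

namespace Groth.Agent.Lib.Helper6.Gr

variable {R N N' : Type*} [CommRing R] [AddCommGroup N] [Module R N] [AddCommGroup N'] [Module R N']

/-- Swapping adjacent arguments negates a multilinear map vanishing on adjacent repetitions. -/
lemma adj_swap {m : ℕ} (f : MultilinearMap R (fun _ : Fin (m + 1) => N) N')
    (hadj : ∀ (v : Fin (m + 1) → N) (k : Fin m), v k.castSucc = v k.succ → f v = 0)
    (v : Fin (m + 1) → N) (k : Fin m) :
    f (v ∘ Equiv.swap k.castSucc k.succ) + f v = 0 := by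
  have hij : k.castSucc ≠ k.succ := (Fin.castSucc_lt_succ (i := k)).ne
  rw [Equiv.comp_swap_eq_update]
  set p := k.castSucc with hp
  set q := k.succ with hq
  have hW : ∀ a b : N, Function.update (Function.update v p a) q b =
      Function.update (Function.update v q b) p a := fun a b => Function.update_comm hij a b v
  have hadd1 : ∀ a b b' : N, f (Function.update (Function.update v p a) q (b + b')) =
      f (Function.update (Function.update v p a) q b) + f (Function.update (Function.update v p a) q b') :=
    fun a b b' => f.map_update_add _ q b b'
  have hadd2 : ∀ a a' b : N, f (Function.update (Function.update v p (a + a')) q b) =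
      f (Function.update (Function.update v p a) q b) + f (Function.update (Function.update v p a') q b) := by
    intro a a' b
    rw [hW, hW, hW]
    exact f.map_update_add _ p a a'
  have hz : ∀ a : N, f (Function.update (Function.update v p a) q a) = 0 := by
    intro a
    apply hadj _ k
    rw [← hp, ← hq, Function.update_self, Function.update_of_ne hij, Function.update_self]
  have h0 := hz (v p + v q)
  rw [hadd1, hadd2, hadd2, hz, hz, zero_add, add_zero] at h0
  have e1 : Function.update (Function.update v p (v p)) q (v q) = v := by
    rw [Function.update_eq_self, Function.update_eq_self]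
  rw [e1] at h0
  rw [← hW, h0]

/-- A multilinear map on `Fin (m+1)` vanishing on adjacent repetitions vanishes on all
repetitions. -/
theorem vanish_of_adj {m : ℕ} (f : MultilinearMap R (fun _ : Fin (m + 1) => N) N')
    (hadj : ∀ (v : Fin (m + 1) → N) (k : Fin m), v k.castSucc = v k.succ → f v = 0)
    (v : Fin (m + 1) → N) (p q : Fin (m + 1)) (hpq : p ≠ q) (h : v p = v q) : f v = 0 := by
  have key : ∀ (g : ℕ) (v : Fin (m + 1) → N) (p q : Fin (m + 1)), p.val + g + 1 = q.val → v p = v q →
      f v = 0 := by
    intro g
    induction g with
    | zero =>
      intro v p q hg hv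
      have hp : p.val < m := by have := q.isLt; omega
      have e1 : p = (⟨p.val, hp⟩ : Fin m).castSucc := by ext; simp
      have e2 : q = (⟨p.val, hp⟩ : Fin m).succ := by ext; simp; omega
      apply hadj v ⟨p.val, hp⟩
      rw [← e1, ← e2]; exact hv
    | succ g ih =>
      intro v p q hg hv
      have hq : q.val - 1 < m := by have := q.isLt; omega
      set k : Fin m := ⟨q.val - 1, hq⟩ with hk
      have e2 : q = k.succ := by ext; simp [hk]; omega
      have hne1 : p ≠ k.castSucc := by
        intro h; have := congrArg Fin.val h; simp [hk] at this; omega
      have hne2 : p ≠ k.succ := by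
        intro h; have := congrArg Fin.val h; simp [hk] at this; omega
      have hsw := adj_swap f hadj v k
      have h0 : f (v ∘ Equiv.swap k.castSucc k.succ) = 0 := by
        apply ih (v ∘ Equiv.swap k.castSucc k.succ) p k.castSucc
        · simp [hk]; omega
        · simp only [Function.comp_apply]
          rw [Equiv.swap_apply_of_ne_of_ne hne1 hne2, Equiv.swap_apply_left, ← e2]
          exact hv
      rw [h0, zero_add] at hsw
      exact hsw
  rcases lt_or_gt_of_ne hpq with hlt | hgt
  · exact key (q.val - p.val - 1) v p q (by have : p.val < q.val := hlt; omega) h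
  · exact key (p.val - q.val - 1) v q p (by have : q.val < p.val := hgt; omega) h.symm

end Groth.Agent.Lib.Helper6.Gr
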