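import Groth.Agent.Lib.Helper6.Grass.Divisor

/-!
# Grassmannian: band matrices and Richardson-type ideals (helper6)
-/

open scoped Classical
set_option linter.unusedSectionVars false
set_option autoImplicit false

universe u v

noncomputable section

namespace Groth.Agent.Lib.Helper6.Gr

open W4bk4grassmannian MvPolynomial
open scoped MonomialOrder

variable {d n : ℕ}

/-- A square matrix with a zero block of rows `≤ t0` and columns `≥ t0` has determinant zero. -/
lemma det_eq_zero_of_zero_block' {R : Type*} [CommRing R] (N : Matrix (Fin d) (Fin d) R) (t0 : Fin d)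
    (h : ∀ s t, s ≤ t0 → t0 ≤ t → N s t = 0) : N.det = 0 := by
  rw [← Matrix.det_transpose]
  apply det_eq_zero_of_zero_block _ t0
  intro s t hs ht
  rw [Matrix.transpose_apply]
  exact h t s ht hs

variable (K : Type u) [CommRing K]

/-- The band generic matrix: `x_{s,t}` for `v_t ≤ s ≤ w_t`, zero elsewhere. -/
def LmatB (v w : Idx d n) : Matrix (Fin n) (Fin d) (MvPolynomial (Var d n) K) :=
  Matrix.of fun s t => if v.1 t ≤ s ∧ s ≤ w.1 t then X (toLex (t, s)) else 0

/-- The comorphism `X_θ ↦` minor of the band generic matrix. -/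
def phiB (v w : Idx d n) : PlRing K d n →ₐ[K] MvPolynomial (Var d n) K := evalAt K (LmatB K v w)

lemma prod_diagB (v w θ : Idx d n) (σ : Equiv.Perm (Fin d))
    (h : ∀ t, v.1 t ≤ θ.1 (σ t) ∧ θ.1 (σ t) ≤ w.1 t) :
    ∏ t, (LmatB K v w).submatrix θ.1 id (σ t) t = monomial (expo (θ.1 ∘ σ)) 1 := by
  unfold expo
  rw [monomial_sum_one]
  apply Finset.prod_congr rfl
  intro t _
  simp only [LmatB, Matrix.submatrix_apply, Matrix.of_apply, id_eq, Function.comp_apply]
  rw [if_pos (h t)]
  rfl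

lemma prod_diagB_zero (v w θ : Idx d n) (σ : Equiv.Perm (Fin d))
    (h : ¬ ∀ t, v.1 t ≤ θ.1 (σ t) ∧ θ.1 (σ t) ≤ w.1 t) :
    ∏ t, (LmatB K v w).submatrix θ.1 id (σ t) t = 0 := by
  push Not at h
  obtain ⟨t, ht⟩ := h
  apply Finset.prod_eq_zero (Finset.mem_univ t)
  simp only [LmatB, Matrix.submatrix_apply, Matrix.of_apply, id_eq]
  rw [if_neg]
  rintro ⟨h1, h2⟩
  exact absurd h2 (not_le.mpr (ht h1))

lemma phiB_X_eq (v w θ : Idx d n) (hv : v ≤ θ) (hθ : θ ≤ w) :
    ∃ g : MvPolynomial (Var d n) K, phiB K v w (X θ) = monomial (expo θ.1) 1 + g ∧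
      ∀ c ∈ g.support, c ≺[MonomialOrder.lex] expo θ.1 := by
  refine ⟨∑ σ ∈ Finset.univ.erase (1 : Equiv.Perm (Fin d)),
    ((Equiv.Perm.sign σ : ℤ) : MvPolynomial (Var d n) K) *
      ∏ t, (LmatB K v w).submatrix θ.1 id (σ t) t, ?_, ?_⟩
  · unfold phiB
    rw [evalAt_X]
    unfold pM
    rw [Matrix.det_apply', ← Finset.add_sum_erase _ _ (Finset.mem_univ (1 : Equiv.Perm (Fin d)))]
    congr 1
    rw [Equiv.Perm.sign_one]
    have := prod_diagB K v w θ 1 (fun t => ⟨hv t, hθ t⟩)
    simp only [Equiv.Perm.coe_one, id_eq, Function.comp_id] at this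
    simp only [Equiv.Perm.coe_one, id_eq, Units.val_one, Int.cast_one, one_mul]
    exact this
  · intro c hc
    have := MvPolynomial.support_sum hc
    rw [Finset.mem_biUnion] at this
    obtain ⟨σ, hσ, hcσ⟩ := this
    have hσ1 : σ ≠ 1 := Finset.ne_of_mem_erase hσ
    by_cases h : ∀ t, v.1 t ≤ θ.1 (σ t) ∧ θ.1 (σ t) ≤ w.1 t
    · rw [prod_diagB K v w θ σ h] at hcσ
      have e : ((Equiv.Perm.sign σ : ℤ) : MvPolynomial (Var d n) K) =
          C ((Equiv.Perm.sign σ : ℤ) : K) := by
        rw [map_intCast]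
      rw [e, C_mul_monomial] at hcσ
      have := support_monomial_subset hcσ
      rw [Finset.mem_singleton] at this
      rw [this, MonomialOrder.lex_lt_iff]
      exact expo_perm_lt θ σ hσ1
    · rw [prod_diagB_zero K v w θ σ h, mul_zero] at hcσ
      simp at hcσ

section Nontriv

variable [Nontrivial K]

lemma phiB_X_monic (hd : 0 < d) (v w θ : Idx d n) (hv : v ≤ θ) (hθ : θ ≤ w) :
    (MonomialOrder.lex).Monic (phiB K v w (X θ)) ∧
      (MonomialOrder.lex).degree (phiB K v w (X θ)) = expo θ.1 := by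
  obtain ⟨g, hg1, hg2⟩ := phiB_X_eq K v w θ hv hθ
  have hdeg : (MonomialOrder.lex).degree (monomial (expo θ.1) (1 : K)) = expo θ.1 := by
    rw [MonomialOrder.degree_monomial, if_neg one_ne_zero]
  have hpos : (0 : Var d n →₀ ℕ) ≺[MonomialOrder.lex] expo θ.1 := by
    have h0 : (MonomialOrder.lex).toSyn (0 : Var d n →₀ ℕ) = 0 := map_zero _
    rw [h0]
    rw [MonomialOrder.toSyn_lt_iff_ne_zero]
    intro h
    exact expo_ne_zero hd θ.1 ((MonomialOrder.lex).toSyn_eq_zero_iff _ |>.mp h)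
  have hlt : (MonomialOrder.lex).degree g ≺[MonomialOrder.lex]
      (MonomialOrder.lex).degree (monomial (expo θ.1) (1 : K)) := by
    rw [hdeg, MonomialOrder.degree_lt_iff hpos]
    exact hg2
  rw [hg1]
  refine ⟨MonomialOrder.Monic.add_of_lt MonomialOrder.monic_monomial_one hlt, ?_⟩
  rw [MonomialOrder.degree_add_of_lt hlt, hdeg]

lemma phiB_chainMon_monic (hd : 0 < d) (v w : Idx d n) {m : ℕ} (c : Fin m → Idx d n)
    (hv : ∀ k, v ≤ c k) (hc : ∀ k, c k ≤ w) :
    (MonomialOrder.lex).Monic (phiB K v w (chainMon K c)) ∧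
      (MonomialOrder.lex).degree (phiB K v w (chainMon K c)) = chainExpo c := by
  unfold chainMon chainExpo
  rw [map_prod]
  refine ⟨MonomialOrder.Monic.prod fun k _ => (phiB_X_monic K hd v w (c k) (hv k) (hc k)).1, ?_⟩
  rw [MonomialOrder.degree_prod_of_regular]
  · apply Finset.sum_congr rfl
    intro k _
    exact (phiB_X_monic K hd v w (c k) (hv k) (hc k)).2
  · intro k _
    rw [(phiB_X_monic K hd v w (c k) (hv k) (hc k)).1.leadingCoeff_eq_one]
    exact isRegular_one

theorem linearIndependent_phiB (hd : 0 < d) (v w : Idx d n) {ι : Type*}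
    (c : ι → Σ m : ℕ, Fin m → Idx d n) (hinj : Function.Injective c)
    (hanti : ∀ i, Antitone (c i).2) (hv : ∀ i k, v ≤ (c i).2 k) (hle : ∀ i k, (c i).2 k ≤ w) :
    LinearIndependent K (fun i : ι => phiB K v w (chainMon K (c i).2)) := by
  apply linearIndependent_of_monic MonomialOrder.lex
  · intro i
    exact (phiB_chainMon_monic K hd v w (c i).2 (hv i) (hle i)).1
  · intro i i' h
    simp only at h
    rw [(phiB_chainMon_monic K hd v w (c i).2 (hv i) (hle i)).2,
      (phiB_chainMon_monic K hd v w (c i').2 (hv i') (hle i')).2] at h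
    have := chainExpo_inj hd (c i).2 (c i').2 (hanti i) (hanti i') h
    exact hinj this

end Nontriv

lemma pM_LmatB_of_not_le (v w θ : Idx d n) (h : ¬ θ ≤ w) : pM (LmatB K v w) θ.1 = 0 := by
  have : ∃ t0, w.1 t0 < θ.1 t0 := by
    by_contra hcon
    push Not at hcon
    exact h hcon
  obtain ⟨t0, ht0⟩ := this
  unfold pM
  apply det_eq_zero_of_zero_block _ t0
  intro s t hs ht
  simp only [LmatB, Matrix.submatrix_apply, Matrix.of_apply, id_eq]
  rw [if_neg]
  rintro ⟨_, h2⟩
  have : w.1 t < θ.1 s := calc w.1 t ≤ w.1 t0 := w.2.monotone ht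
    _ < θ.1 t0 := ht0
    _ ≤ θ.1 s := θ.2.monotone hs
  exact absurd h2 (not_le.mpr this)

lemma pM_LmatB_of_not_ge (v w θ : Idx d n) (h : ¬ v ≤ θ) : pM (LmatB K v w) θ.1 = 0 := by
  have : ∃ t0, θ.1 t0 < v.1 t0 := by
    by_contra hcon
    push Not at hcon
    exact h hcon
  obtain ⟨t0, ht0⟩ := this
  unfold pM
  apply det_eq_zero_of_zero_block' _ t0
  intro s t hs ht
  simp only [LmatB, Matrix.submatrix_apply, Matrix.of_apply, id_eq]
  rw [if_neg]
  rintro ⟨h1, _⟩
  have : θ.1 s < v.1 t := calc θ.1 s ≤ θ.1 t0 := θ.2.monotone hs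
    _ < v.1 t0 := ht0
    _ ≤ v.1 t := v.2.monotone ht
  exact absurd h1 (not_le.mpr this)

/-- The Richardson-type ideal: shuffle relations, coordinates `≰ w` and coordinates `≱ v`. -/
def plIdealB (v w : Idx d n) : Ideal (PlRing K d n) :=
  plIdeal K w ⊔ Ideal.span {f | ∃ θ : Idx d n, ¬ v ≤ θ ∧ f = X θ}

theorem plIdealB_le_ker (v w : Idx d n) : plIdealB K v w ≤ RingHom.ker (phiB K v w).toRingHom := by
  unfold plIdealB
  apply sup_le
  · unfold plIdeal
    rw [Ideal.span_le]
    intro f hf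
    rw [SetLike.mem_coe, RingHom.mem_ker]
    rcases hf with ⟨i, j, r, _, rfl⟩ | ⟨φ, hφ, rfl⟩
    · exact evalAt_shuffleRel K (LmatB K v w) i j r
    · show phiB K v w (X φ) = 0
      unfold phiB
      rw [evalAt_X]
      exact pM_LmatB_of_not_le K v w φ hφ
  · rw [Ideal.span_le]
    rintro f ⟨θ, hθ, rfl⟩
    rw [SetLike.mem_coe, RingHom.mem_ker]
    show phiB K v w (X θ) = 0
    unfold phiB
    rw [evalAt_X]
    exact pM_LmatB_of_not_ge K v w θ hθ

lemma chainMon_mem_plIdealB (v w : Idx d n) {m : ℕ} (c : Fin m → Idx d n)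
    (h : ¬ ((∀ k, v ≤ c k) ∧ ∀ k, c k ≤ w)) : chainMon K c ∈ plIdealB K v w := by
  by_cases h1 : ∀ k, c k ≤ w
  · have h2 : ¬ ∀ k, v ≤ c k := fun h2 => h ⟨h2, h1⟩
    push Not at h2
    obtain ⟨k, hk⟩ := h2
    unfold chainMon
    rw [← Finset.mul_prod_erase _ _ (Finset.mem_univ k)]
    apply Ideal.mul_mem_right
    exact Ideal.mem_sup_right (Ideal.subset_span ⟨c k, hk, rfl⟩)
  · exact Ideal.mem_sup_left (chainMon_mem_plIdeal K w c h1)

variable [Nontrivial K]

/-- The kernel of the band comorphism is the Richardson-type ideal. -/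
theorem ker_phiB_eq (hd : 0 < d) (v w : Idx d n) :
    RingHom.ker (phiB K v w).toRingHom = plIdealB K v w := by
  apply le_antisymm _ (plIdealB_le_ker K v w)
  intro f hf
  rw [RingHom.mem_ker] at hf
  have hdec : f ∈ stdTau K w ⊔ (plIdeal K w).restrictScalars K := by
    rw [stdTau_sup_plIdeal]; trivial
  rw [Submodule.mem_sup] at hdec
  obtain ⟨g, hg, ι, hι, rfl⟩ := hdec
  have hι' : ι ∈ plIdeal K w := hι
  have hιB : ι ∈ plIdealB K v w := Ideal.mem_sup_left hι'
  apply Ideal.add_mem _ _ hιB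
  unfold stdTau at hg
  rw [Finsupp.mem_span_range_iff_exists_finsupp] at hg
  obtain ⟨a, rfl⟩ := hg
  set p : (Σ m : ℕ, {c : Fin m → Idx d n // Antitone c ∧ ∀ k, c k ≤ w}) → Prop :=
    fun c => ∀ k, v ≤ c.2.1 k with hp
  -- coefficients of chains in [v, w] vanish
  have hzero : ∀ c, p c → a c = 0 := by
    intro c hc
    have hli := linearIndependent_phiB K hd v w
      (fun i : {i : (Σ m : ℕ, {c : Fin m → Idx d n // Antitone c ∧ ∀ k, c k ≤ w}) // p i} =>
        (⟨i.1.1, i.1.2.1⟩ : Σ m : ℕ, Fin m → Idx d n))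
      (by
        rintro ⟨⟨m1, c1, h1⟩, q1⟩ ⟨⟨m2, c2, h2⟩, q2⟩ h
        simp only [Sigma.mk.injEq] at h
        obtain ⟨rfl, h⟩ := h
        have := eq_of_heq h
        subst this
        rfl)
      (fun i => i.1.2.2.1) (fun i => i.2) (fun i => i.1.2.2.2)
    rw [linearIndependent_iff] at hli
    have hφι : phiB K v w ι = 0 := by
      have := plIdealB_le_ker K v w hιB
      rwa [RingHom.mem_ker] at this
    have hφg : phiB K v w (a.sum fun i r => r • chainMon K i.2.1) = 0 := by
      have : (phiB K v w) ((a.sum fun i r => r • chainMon K i.2.1) + ι) = 0 := hf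
      rw [map_add, hφι, add_zero] at this
      exact this
    have hsum : Finsupp.linearCombination K
        (fun i : {i : (Σ m : ℕ, {c : Fin m → Idx d n // Antitone c ∧ ∀ k, c k ≤ w}) // p i} =>
          phiB K v w (chainMon K i.1.2.1)) (a.subtypeDomain p) = 0 := by
      rw [Finsupp.linearCombination_apply]
      rw [map_finsuppSum] at hφg
      simp only [map_smul] at hφg
      rw [← hφg]
      rw [Finsupp.sum, Finsupp.sum]
      have hsub : ∑ x ∈ a.support, a x • phiB K v w (chainMon K x.2.1) =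
          ∑ x ∈ a.support.filter p, a x • phiB K v w (chainMon K x.2.1) := by
        rw [Finset.sum_filter]
        apply Finset.sum_congr rfl
        intro x _
        by_cases hx : p x
        · rw [if_pos hx]
        · rw [if_neg hx]
          have := plIdealB_le_ker K v w (chainMon_mem_plIdealB K v w x.2.1 (fun h => hx h.1))
          rw [RingHom.mem_ker] at this
          have e : phiB K v w (chainMon K x.2.1) = 0 := this
          rw [e, smul_zero]
      rw [hsub, Finsupp.support_subtypeDomain, ← Finset.sum_subtype_eq_sum_filter]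
      rfl
    have := hli _ hsum
    have h2 := DFunLike.congr_fun this ⟨c, hc⟩
    simpa using h2
  rw [Finsupp.sum]
  apply Ideal.sum_mem
  intro c _
  by_cases hc : p c
  · rw [hzero c hc, zero_smul]
    exact Ideal.zero_mem _
  · rw [Algebra.smul_def]
    apply Ideal.mul_mem_left
    exact chainMon_mem_plIdealB K v w c.2.1 (fun h => hc h.1)

end Groth.Agent.Lib.Helper6.Gr

end
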