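import Groth.Agent.Lib.Helper6.Grass.WStraighten
import Groth.Agent.Lib.Helper6.Grass.Union
import Groth.Agent.Lib.Helper6.Rees.Fibre

/-!
# Grassmannian: Rees-algebra degenerations of Schubert cones attached to a weight (helper6)
-/

open scoped Classical
set_option linter.unusedSectionVars false
set_option autoImplicit false

universe u v

noncomputable section

namespace Groth.Agent.Lib.Helper6.Gr

open W4bk4grassmannian MvPolynomial Groth.Agent.Lib.Helper6.Rees

variable {d n : ℕ}

/-- Index set of the standard monomials on `X(w)`. -/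
abbrev StdW (w : Idx d n) : Type :=
  Σ m : ℕ, {c : Fin m → Idx d n // Antitone c ∧ ∀ k, c k ≤ w}

lemma chainMon_append (K : Type u) [CommRing K] {m m' : ℕ} (c : Fin m → Idx d n) (c' : Fin m' → Idx d n) :
    chainMon K (Fin.append c c') = chainMon K c * chainMon K c' := by
  unfold chainMon
  rw [Fin.prod_univ_add]
  simp only [Fin.append_left, Fin.append_right]

lemma Om_append (ω₀ : Idx d n → ℕ) {m m' : ℕ} (c : Fin m → Idx d n) (c' : Fin m' → Idx d n) :
    Om ω₀ (Fin.append c c') = Om ω₀ c + Om ω₀ c' := by
  unfold Om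
  rw [Fin.sum_univ_add]
  simp only [Fin.append_left, Fin.append_right]

variable (K : Type u) [Field K] [Infinite K] (hd : 0 < d) (w : Idx d n)

/-- The coordinate ring of the Schubert cone. -/
abbrev BW : Type u := PlRing K d n ⧸ schubertVanishing K d n w

/-- The standard monomial basis. -/
def bB (c : StdW w) : BW K w := Ideal.Quotient.mk (schubertVanishing K d n w) (chainMon K c.2.1)

include hd in
theorem linearIndependent_bB : LinearIndependent K (bB K w) := by
  have hker : ∀ a ∈ schubertVanishing K d n w, phi K w a = 0 := by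
    intro a ha
    rw [schubertVanishing_eq_ker K hd w, RingHom.mem_ker] at ha
    exact ha
  let f : BW K w →ₐ[K] MvPolynomial (Var d n) K :=
    Ideal.Quotient.liftₐ (schubertVanishing K d n w) (phi K w) hker
  apply LinearIndependent.of_comp f.toLinearMap
  have := linearIndependent_phi' K hd w (fun c : StdW w => (⟨c.1, c.2.1⟩ : Σ m : ℕ, Fin m → Idx d n))
    (by
      rintro ⟨m1, c1, h1⟩ ⟨m2, c2, h2⟩ h
      simp only [Sigma.mk.injEq] at h
      obtain ⟨rfl, h⟩ := h
      have := eq_of_heq h
      subst this
      rfl)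
    (fun c => c.2.2.1) (fun c => c.2.2.2)
  exact this

include hd in
theorem span_bB : Submodule.span K (Set.range (bB K w)) = ⊤ := by
  rw [eq_top_iff]
  intro y _
  obtain ⟨f, rfl⟩ := Ideal.Quotient.mk_surjective y
  have hf : f ∈ stdTau K w ⊔ (plIdeal K w).restrictScalars K := by
    rw [stdTau_sup_plIdeal]; trivial
  rw [Submodule.mem_sup] at hf
  obtain ⟨g, hg, i, hi, rfl⟩ := hf
  have hi' : i ∈ schubertVanishing K d n w := by
    rw [schubertVanishing_eq_plIdeal K hd w]; exact hi
  rw [map_add, Ideal.Quotient.eq_zero_iff_mem.mpr hi', add_zero]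
  unfold stdTau at hg
  have : (Ideal.Quotient.mkₐ K (schubertVanishing K d n w)).toLinearMap g ∈
      Submodule.map (Ideal.Quotient.mkₐ K (schubertVanishing K d n w)).toLinearMap
      (Submodule.span K (Set.range fun c : StdW w => chainMon K c.2.1)) := ⟨g, hg, rfl⟩
  rw [Submodule.map_span] at this
  refine (Submodule.span_le.mpr ?_) this
  rintro _ ⟨_, ⟨c, rfl⟩, rfl⟩
  exact Submodule.subset_span ⟨c, rfl⟩

variable (ω₀ : Idx d n → ℕ)

/-- The filtration of the Schubert cone by weight. -/
def FilB (k : ℕ) : Submodule K (BW K w) :=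
  Submodule.span K {y | ∃ c : StdW w, Om ω₀ c.2.1 ≤ k ∧ y = bB K w c}

include hd in
/-- Every monomial lies in the filtration step of its weight. -/
theorem mk_chainMon_mem_FilB (hP : PairHyp K ω₀) {m : ℕ} (c : Fin m → Idx d n) :
    Ideal.Quotient.mk (schubertVanishing K d n w) (chainMon K c) ∈ FilB K w ω₀ (Om ω₀ c) := by
  have hle : plIdealTop (d := d) (n := n) K ≤ schubertVanishing K d n w := by
    rw [schubertVanishing_eq_plIdeal K hd w]
    exact plIdealTop_le_plIdeal K w
  let π : (PlRing K d n ⧸ plIdealTop (d := d) (n := n) K) →ₐ[K] BW K w :=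
    Ideal.Quotient.liftₐ (plIdealTop (d := d) (n := n) K)
      (Ideal.Quotient.mkₐ K (schubertVanishing K d n w))
      (fun a ha => by
        rw [Ideal.Quotient.mkₐ_eq_mk, Ideal.Quotient.eq_zero_iff_mem]
        exact hle ha)
  have h1 := mk_chainMon_memW K ω₀ hP m c
  have h2 : stdSpanW K ω₀ m (Om ω₀ c) ≤ (FilB K w ω₀ (Om ω₀ c)).comap π.toLinearMap := by
    unfold stdSpanW
    rw [Submodule.span_le]
    rintro _ ⟨c', hc', hW, rfl⟩
    rw [SetLike.mem_coe, Submodule.mem_comap]
    show Ideal.Quotient.mk (schubertVanishing K d n w) (chainMon K c') ∈ _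
    by_cases hall : ∀ k, c' k ≤ w
    · exact Submodule.subset_span ⟨⟨m, c', hc', hall⟩, hW, rfl⟩
    · have : chainMon K c' ∈ schubertVanishing K d n w := by
        rw [schubertVanishing_eq_plIdeal K hd w]
        exact chainMon_mem_plIdeal K w c' hall
      rw [Ideal.Quotient.eq_zero_iff_mem.mpr this]
      exact Submodule.zero_mem _
  exact h2 h1

/-- The Rees data of a weight satisfying the pair hypothesis. -/
def reesData (hP : PairHyp K ω₀) : ReesData K (BW K w) (StdW w) where
  b := bB K w
  ω := fun c => Om ω₀ c.2.1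
  hmul := by
    intro i j
    have := mk_chainMon_mem_FilB K hd w ω₀ hP (Fin.append i.2.1 j.2.1)
    rw [chainMon_append, Om_append, map_mul] at this
    exact this
  hone := by
    apply Submodule.subset_span
    refine ⟨⟨0, Fin.elim0, fun x => x.elim0, fun x => x.elim0⟩, ?_, ?_⟩
    · unfold Om
      simp
    · unfold bB chainMon
      simp
  hli := linearIndependent_bB K hd w
  hsp := span_bB K hd w

end Groth.Agent.Lib.Helper6.Gr

end
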