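import Groth.Agent.Lib.Helper6.Grass.Degen

/-!
# Grassmannian: the special fibre of the Rees degeneration of a Schubert cone (helper6)
-/

open scoped Classical
set_option linter.unusedSectionVars false
set_option autoImplicit false

universe u v

noncomputable section

namespace Groth.Agent.Lib.Helper6.Gr

open W4bk4grassmannian MvPolynomial Groth.Agent.Lib.Helper6.Rees

variable {d n : ℕ} (K : Type u) [Field K] [Infinite K] (hd : 0 < d) (w : Idx d n)
  (ω₀ : Idx d n → ℕ) (hP : PairHyp K ω₀)

/-- The one-element chain. -/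
def single1 (θ : Below w) : StdW w :=
  ⟨1, fun _ => θ.1, fun _ _ _ => le_refl _, fun _ => θ.2⟩

lemma bB_single1 (θ : Below w) :
    bB K w (single1 w θ) = Ideal.Quotient.mk (schubertVanishing K d n w) (X θ.1) := by
  unfold bB chainMon single1
  simp

lemma Om_single1 (θ : Below w) : Om ω₀ (single1 w θ).2.1 = ω₀ θ.1 := by
  unfold Om single1
  simp

/-- The sequence of a standard chain, in `H(w)`. -/
def seqB (c : StdW w) : Fin c.1 → Below w := fun k => ⟨c.2.1 k, c.2.2.2 k⟩

/-- The chain monomial in the variables of `H(w)`. -/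
def mT (c : StdW w) : MvPolynomial (Below w) K := ∏ k, X (seqB w c k)

/-- The generators of the special fibre. -/
def psi : MvPolynomial (Below w) K →ₐ[K] (reesData K hd w ω₀ hP).R0 :=
  MvPolynomial.aeval fun θ : Below w => Ideal.Quotient.mk _ ((reesData K hd w ω₀ hP).e (single1 w θ))

lemma prod_e_single1 (c : StdW w) :
    ∏ k, (reesData K hd w ω₀ hP).e (single1 w (seqB w c k)) = (reesData K hd w ω₀ hP).e c := by
  apply Subtype.ext
  rw [SubmonoidClass.coe_finsetProd]
  simp only [ReesData.coe_e]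
  rw [Finset.prod_mul_distrib, Finset.prod_pow_eq_pow_sum, ← map_prod]
  congr 2
  show ∏ k, bB K w (single1 w (seqB w c k)) = bB K w c
  simp only [bB_single1]
  rw [← map_prod]
  rfl

lemma psi_mT (c : StdW w) :
    psi K hd w ω₀ hP (mT K w c) = Ideal.Quotient.mk _ ((reesData K hd w ω₀ hP).e c) := by
  unfold psi mT
  rw [map_prod]
  simp only [aeval_X]
  rw [← map_prod, prod_e_single1]

lemma mkB_mul_mem (α β : Below w) :
    Ideal.Quotient.mk (schubertVanishing K d n w) (X α.1 * X β.1) ∈
      (reesData K hd w ω₀ hP).Fil (ω₀ α.1 + ω₀ β.1) := by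
  rw [map_mul, ← bB_single1, ← bB_single1]
  have h1 := (reesData K hd w ω₀ hP).b_mem_Fil (single1 w α) (le_refl _)
  have h2 := (reesData K hd w ω₀ hP).b_mem_Fil (single1 w β) (le_refl _)
  have := (reesData K hd w ω₀ hP).Fil_mul h1 h2
  have e1 : (reesData K hd w ω₀ hP).ω (single1 w α) = ω₀ α.1 := Om_single1 w ω₀ α
  have e2 : (reesData K hd w ω₀ hP).ω (single1 w β) = ω₀ β.1 := Om_single1 w ω₀ β
  rw [e1, e2] at this
  exact this

lemma psi_X_mul (α β : Below w) :
    psi K hd w ω₀ hP (X α * X β) = Ideal.Quotient.mk _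
      ((reesData K hd w ω₀ hP).el (ω₀ α.1 + ω₀ β.1)
        (Ideal.Quotient.mk (schubertVanishing K d n w) (X α.1 * X β.1))
        (mkB_mul_mem K hd w ω₀ hP α β)) := by
  unfold psi
  rw [map_mul, aeval_X, aeval_X, ← map_mul]
  congr 1
  apply Subtype.ext
  show ((reesData K hd w ω₀ hP).e (single1 w α) : Polynomial (BW K w)) *
    ((reesData K hd w ω₀ hP).e (single1 w β) : Polynomial (BW K w)) = _
  rw [ReesData.coe_e, ReesData.coe_e, ReesData.coe_el]
  have e1 : (reesData K hd w ω₀ hP).ω (single1 w α) = ω₀ α.1 := Om_single1 w ω₀ α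
  have e2 : (reesData K hd w ω₀ hP).ω (single1 w β) = ω₀ β.1 := Om_single1 w ω₀ β
  have b1 : (reesData K hd w ω₀ hP).b (single1 w α) = _ := bB_single1 K w α
  have b2 : (reesData K hd w ω₀ hP).b (single1 w β) = _ := bB_single1 K w β
  rw [e1, e2, b1, b2, map_mul, map_mul, pow_add]
  ring

/-- The special fibre is the quotient of the polynomial ring on `H(w)` by any ideal killed by `psi`
modulo which the chain monomials span. -/
theorem degen_iso (IT : Ideal (MvPolynomial (Below w) K))
    (hkill : ∀ f ∈ IT, psi K hd w ω₀ hP f = 0)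
    (hspan : Submodule.span K (Set.range fun c : StdW w => Ideal.Quotient.mk IT (mT K w c)) = ⊤) :
    Nonempty ((reesData K hd w ω₀ hP).R0 ≃ₐ[K] (MvPolynomial (Below w) K ⧸ IT)) := by
  let ψb : (MvPolynomial (Below w) K ⧸ IT) →ₐ[K] (reesData K hd w ω₀ hP).R0 :=
    Ideal.Quotient.liftₐ IT (psi K hd w ω₀ hP) hkill
  have hψb : ∀ c : StdW w, ψb (Ideal.Quotient.mk IT (mT K w c)) =
      Ideal.Quotient.mk _ ((reesData K hd w ω₀ hP).e c) := by
    intro c
    show psi K hd w ω₀ hP (mT K w c) = _
    exact psi_mT K hd w ω₀ hP c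
  have hinj : Function.Injective ψb := by
    rw [injective_iff_map_eq_zero]
    intro y hy
    have hy' : y ∈ Submodule.span K (Set.range fun c : StdW w => Ideal.Quotient.mk IT (mT K w c)) := by
      rw [hspan]; trivial
    rw [Finsupp.mem_span_range_iff_exists_finsupp] at hy'
    obtain ⟨a, rfl⟩ := hy'
    rw [map_finsuppSum] at hy
    simp only [map_smul, hψb] at hy
    have hli := (reesData K hd w ω₀ hP).linearIndependent_mk_e
    rw [linearIndependent_iff] at hli
    have := hli a (by rw [Finsupp.linearCombination_apply]; exact hy)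
    rw [this, Finsupp.sum_zero_index]
  have hsurj : Function.Surjective ψb := by
    intro z
    have hz : z ∈ Submodule.span K (Set.range fun i => Ideal.Quotient.mk
        (Ideal.span {algebraMap (Polynomial K) (reesData K hd w ω₀ hP).R Polynomial.X})
        ((reesData K hd w ω₀ hP).e i)) := by
      rw [(reesData K hd w ω₀ hP).span_mk_e]; trivial
    have hle : Submodule.span K (Set.range fun i => Ideal.Quotient.mk
        (Ideal.span {algebraMap (Polynomial K) (reesData K hd w ω₀ hP).R Polynomial.X})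
        ((reesData K hd w ω₀ hP).e i)) ≤ LinearMap.range ψb.toLinearMap := by
      rw [Submodule.span_le]
      rintro _ ⟨c, rfl⟩
      refine ⟨Ideal.Quotient.mk IT (mT K w c), ?_⟩
      exact hψb c
    obtain ⟨y, hy⟩ := hle hz
    exact ⟨y, hy⟩
  exact ⟨(AlgEquiv.ofBijective ψb ⟨hinj, hsurj⟩).symm⟩

end Groth.Agent.Lib.Helper6.Gr

end
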