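import Groth.Agent.Lib.Helper6.Grass.Struct
import Groth.Agent.Lib.Helper6.Grass.Divisor

/-!
# Grassmannian: number of free positions of the normalized echelon matrix (helper6)
-/

open scoped Classical
set_option linter.unusedSectionVars false
set_option autoImplicit false

universe u v

noncomputable section

namespace Groth.Agent.Lib.Helper6.Gr

open W4bk4grassmannian

variable {d n : ℕ} (hd : 0 < d) (w : Idx d n)

lemma card_Ft (t : Fin d) :
    (Finset.univ.filter fun i : Fin n => i ≤ w.1 t ∧ ∀ s, w.1 s ≠ i).card = (w.1 t).val - t.val := by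
  have e : (Finset.univ.filter fun i : Fin n => i ≤ w.1 t ∧ ∀ s, w.1 s ≠ i) =
      Finset.Iic (w.1 t) \ (Finset.Iic t).image w.1 := by
    ext i
    simp only [Finset.mem_filter, Finset.mem_univ, true_and, Finset.mem_sdiff, Finset.mem_Iic,
      Finset.mem_image, not_exists, not_and]
    constructor
    · rintro ⟨h1, h2⟩
      exact ⟨h1, fun s _ => h2 s⟩
    · rintro ⟨h1, h2⟩
      refine ⟨h1, fun s hs => ?_⟩
      apply h2 s _ hs
      have : w.1 s ≤ w.1 t := hs ▸ h1
      exact w.2.le_iff_le.mp this
  rw [e, Finset.card_sdiff_of_subset]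
  · rw [Fin.card_Iic, Finset.card_image_of_injective _ w.2.injective, Fin.card_Iic]
    omega
  · intro i hi
    simp only [Finset.mem_image, Finset.mem_Iic] at hi ⊢
    obtain ⟨s, hs, rfl⟩ := hi
    exact w.2.monotone hs

lemma card_free_col (t : Fin d) :
    (Finset.univ.filter fun i : Fin n => IsFree hd w (toLex (t, i))).card =
      (w.1 t).val - t.val + (if t = ⟨0, hd⟩ then 1 else 0) := by
  by_cases ht : t = ⟨0, hd⟩
  · rw [if_pos ht]
    have e : (Finset.univ.filter fun i : Fin n => IsFree hd w (toLex (t, i))) =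
        insert (w.1 t) (Finset.univ.filter fun i : Fin n => i ≤ w.1 t ∧ ∀ s, w.1 s ≠ i) := by
      ext i
      simp only [Finset.mem_filter, Finset.mem_univ, true_and, Finset.mem_insert]
      unfold IsFree
      constructor
      · rintro ⟨h1, h2 | h2⟩
        · exact Or.inr ⟨h1, h2⟩
        · left
          have h3 : (t, i) = ((⟨0, hd⟩ : Fin d), w.1 ⟨0, hd⟩) := h2
          rw [(Prod.mk.inj h3).2, ht]
      · rintro (h | ⟨h1, h2⟩)
        · rw [h]
          refine ⟨le_refl _, Or.inr ?_⟩
          rw [ht]
        · exact ⟨h1, Or.inl h2⟩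
    rw [e, Finset.card_insert_of_notMem, card_Ft]
    simp only [Finset.mem_filter, Finset.mem_univ, true_and, not_and, not_forall]
    intro _
    exact ⟨t, by simp⟩
  · rw [if_neg ht, add_zero, ← card_Ft w t]
    congr 1
    ext i
    simp only [Finset.mem_filter, Finset.mem_univ, true_and]
    unfold IsFree
    constructor
    · rintro ⟨h1, h2 | h2⟩
      · exact ⟨h1, h2⟩
      · exfalso
        have h3 : (t, i) = ((⟨0, hd⟩ : Fin d), w.1 ⟨0, hd⟩) := h2
        exact ht (Prod.mk.inj h3).1
    · rintro ⟨h1, h2⟩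
      exact ⟨h1, Or.inl h2⟩

theorem card_FV : Nat.card (FV hd w) = codeg w + 1 := by
  rw [Nat.card_eq_fintype_card, Fintype.card_subtype]
  have e : (Finset.univ.filter fun v : Var d n => IsFree hd w v).card =
      ∑ t : Fin d, (Finset.univ.filter fun i : Fin n => IsFree hd w (toLex (t, i))).card := by
    rw [Finset.card_filter]
    have : (∑ v : Var d n, if IsFree hd w v then 1 else 0) =
        ∑ p : Fin d × Fin n, if IsFree hd w (toLex p) then 1 else 0 :=
      (Equiv.sum_comp (toLex : Fin d × Fin n ≃ Var d n)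
        (fun v => if IsFree hd w v then 1 else 0)).symm
    rw [this, Fintype.sum_prod_type]
    apply Finset.sum_congr rfl
    intro t _
    rw [Finset.card_filter]
  rw [e]
  simp_rw [card_free_col]
  rw [Finset.sum_add_distrib, Finset.sum_ite_eq' Finset.univ (⟨0, hd⟩ : Fin d) (fun _ => 1),
    if_pos (Finset.mem_univ _)]
  rfl

end Groth.Agent.Lib.Helper6.Gr
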