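import Groth.Agent.Lib.Helper6.Grass.UFDSchubert
import Groth.Agent.Lib.Helper6.Grass.DimComb
import Mathlib.RingTheory.KrullDimension.Polynomial
import Mathlib.RingTheory.KrullDimension.Field
import Mathlib.RingTheory.KrullDimension.NonZeroDivisors
import Mathlib.RingTheory.Ideal.KrullsHeightTheorem
import Mathlib.RingTheory.Localization.Away.Basic

/-!
# Grassmannian: Krull dimension of Schubert cones (helper6)
-/

open scoped Classical
set_option linter.unusedSectionVars false
set_option autoImplicit false

universe u v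

noncomputable section

namespace Groth.Agent.Lib.Helper6.Gr

open W4bk4grassmannian MvPolynomial

/-- Krull dimension of a quotient by a finite intersection. -/
theorem ringKrullDim_quotient_finset_inf_le {S : Type*} [CommRing S] {ι : Type*} (D : Finset ι)
    (I : ι → Ideal S) (m : WithBot ℕ∞) (h : ∀ j ∈ D, ringKrullDim (S ⧸ I j) ≤ m) :
    ringKrullDim (S ⧸ D.inf I) ≤ m := by
  rw [ringKrullDim_quotient]
  unfold Order.krullDim
  apply iSup_le
  intro l
  have hhead : l.head.1 ∈ PrimeSpectrum.zeroLocus (R := S) (D.inf I : Ideal S) := l.head.2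
  rw [PrimeSpectrum.mem_zeroLocus, SetLike.coe_subset_coe] at hhead
  obtain ⟨j, hj, hjle⟩ := (Ideal.IsPrime.inf_le' l.head.1.2).mp hhead
  have hmem : ∀ i, (l i).1 ∈ PrimeSpectrum.zeroLocus (R := S) (I j : Ideal S) := by
    intro i
    rw [PrimeSpectrum.mem_zeroLocus, SetLike.coe_subset_coe]
    have h1 : l.head ≤ l i := LTSeries.head_le l i
    have h2 : l.head.1.asIdeal ≤ (l i).1.asIdeal := h1
    exact hjle.trans h2
  let l' : LTSeries (PrimeSpectrum.zeroLocus (R := S) (I j : Ideal S)) :=
    LTSeries.mk l.length (fun i => ⟨(l i).1, hmem i⟩) (fun a b hab => l.strictMono hab)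
  calc (l.length : WithBot ℕ∞) = l'.length := rfl
    _ ≤ Order.krullDim _ := Order.LTSeries.length_le_krullDim l'
    _ = ringKrullDim (S ⧸ I j) := (ringKrullDim_quotient _).symm
    _ ≤ m := h j hj

variable {d n : ℕ}

variable (K : Type u) [Field K] [Infinite K] (hd : 0 < d) (hdn : d < n) (w : Idx d n)

theorem dim_AA : ringKrullDim (MvPolynomial (FV hd w) K) = ((codeg w + 1 : ℕ) : WithBot ℕ∞) := by
  rw [MvPolynomial.ringKrullDim_of_isNoetherianRing, ringKrullDim_eq_zero_of_field, zero_add,
    card_FV]

include hd in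
/-- Primes of `S/J(w)` not containing the class of `X_w` have height at most `codeg w + 1`. -/
theorem height_le_of_not_mem (p : Ideal (PlRing K d n ⧸ schubertVanishing K d n w)) [hp : p.IsPrime]
    (hx : Ideal.Quotient.mk (schubertVanishing K d n w) (X w) ∉ p) :
    (p.height : WithBot ℕ∞) ≤ ((codeg w + 1 : ℕ) : WithBot ℕ∞) := by
  set xb := Ideal.Quotient.mk (schubertVanishing K d n w) (X w) with hxb
  set y : MvPolynomial (FV hd w) K := X (yv hd w) with hy
  letI alg : Algebra (PlRing K d n ⧸ schubertVanishing K d n w) (Localization.Away y) :=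
    ((algebraMap (MvPolynomial (FV hd w) K) (Localization.Away y)).comp (fQ K hd w)).toAlgebra
  have halg : ∀ r, algebraMap (PlRing K d n ⧸ schubertVanishing K d n w) (Localization.Away y) r =
      algebraMap (MvPolynomial (FV hd w) K) (Localization.Away y) (fQ K hd w r) := fun r => rfl
  have hy0 : y ≠ 0 := X_ne_zero _
  have hinjA : Function.Injective (algebraMap (MvPolynomial (FV hd w) K) (Localization.Away y)) :=
    IsLocalization.injective _ (powers_le_nonZeroDivisors_of_noZeroDivisors hy0)
  haveI hloc : IsLocalization (Submonoid.powers xb) (Localization.Away y) := by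
    rw [isLocalization_iff]
    refine ⟨?_, ?_, ?_⟩
    · rintro ⟨m, k, rfl⟩
      show IsUnit (algebraMap _ (Localization.Away y) (xb ^ k))
      rw [halg, map_pow, hxb, fQ_X_tau, map_pow]
      apply IsUnit.pow
      exact IsLocalization.map_units (Localization.Away y) (⟨y, Submonoid.mem_powers y⟩ : Submonoid.powers y)
    · intro z
      obtain ⟨⟨a, ⟨_, j, rfl⟩⟩, ha⟩ := IsLocalization.surj (Submonoid.powers y) z
      obtain ⟨k, r, hkr⟩ := fQ_gen K hd w a
      refine ⟨(r, ⟨xb ^ (j + k), j + k, rfl⟩), ?_⟩
      show z * algebraMap _ (Localization.Away y) (xb ^ (j + k)) = algebraMap _ _ r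
      rw [halg, halg, ← hkr, map_pow, fQ_X_tau, map_mul, ← ha]
      simp only [map_pow]
      ring
    · intro a b hab
      rw [halg, halg] at hab
      have : a = b := fQ_injective K hd w (hinjA hab)
      exact ⟨1, by rw [this]⟩
  have hdisj : Disjoint (Submonoid.powers xb : Set (PlRing K d n ⧸ schubertVanishing K d n w))
      (p : Set (PlRing K d n ⧸ schubertVanishing K d n w)) :=
    (Ideal.disjoint_powers_iff_notMem_of_isPrime xb).mpr hx
  have h1 := IsLocalization.height_map_of_disjoint (S := Localization.Away y) (Submonoid.powers xb) p hdisj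
  haveI hP : (p.map (algebraMap _ (Localization.Away y))).IsPrime :=
    IsLocalization.isPrime_of_isPrime_disjoint (Submonoid.powers xb) _ p hp hdisj
  have h2 := IsLocalization.height_under (Submonoid.powers y) (p.map (algebraMap _ (Localization.Away y)))
  rw [← h1, ← h2, ← dim_AA K hd w]
  exact Ideal.height_le_ringKrullDim_of_isPrime

end Groth.Agent.Lib.Helper6.Gr
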