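import Groth.Agent.Lib.Helper6.Grass.Dim

/-!
# Grassmannian: Krull dimension of Schubert cones, the induction (helper6)
-/

open scoped Classical
set_option linter.unusedSectionVars false
set_option autoImplicit false

universe u v

noncomputable section

namespace Groth.Agent.Lib.Helper6.Gr

open W4bk4grassmannian MvPolynomial

variable {d n : ℕ}

variable (K : Type u) [Field K] [Infinite K] (hd : 0 < d) (hdn : d < n) (w : Idx d n)

lemma codeg_iotaB : codeg (iotaB hdn) = 0 := by
  unfold codeg iotaB
  simp

include hd hdn in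
/-- Base case: for the bottom index the comorphism of the cell is an isomorphism. -/
theorem dim_bottom (h : ¬ ∃ φ : Idx d n, φ < w) :
    ringKrullDim (PlRing K d n ⧸ schubertVanishing K d n w) = ((codeg w + 1 : ℕ) : WithBot ℕ∞) := by
  have hw : w = iotaB hdn := by
    by_contra hne
    apply h
    exact ⟨iotaB hdn, lt_of_le_of_ne (iotaB_le hdn w) (fun h => hne h.symm)⟩
  have hc : codeg w = 0 := by rw [hw]; exact codeg_iotaB hdn
  have hcard : Nat.card (FV hd w) = 1 := by rw [card_FV, hc]
  have hsub : Subsingleton (FV hd w) := by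
    rw [← Finite.card_le_one_iff_subsingleton, hcard]
  have hsurj : Function.Surjective (fQ K hd w) := by
    intro a
    induction a using MvPolynomial.induction_on with
    | C c =>
      refine ⟨Ideal.Quotient.mk _ (C c), ?_⟩
      rw [fQ_mk]
      exact (fC K hd w).commutes c
    | add p q hp hq =>
      obtain ⟨a, rfl⟩ := hp
      obtain ⟨b, rfl⟩ := hq
      exact ⟨a + b, map_add _ _ _⟩
    | mul_X p v hp =>
      obtain ⟨a, rfl⟩ := hp
      refine ⟨a * Ideal.Quotient.mk _ (X w), ?_⟩
      rw [map_mul, fQ_X_tau, Subsingleton.elim v (yv hd w)]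
  rw [ringKrullDim_eq_of_ringEquiv (RingEquiv.ofBijective (fQ K hd w) ⟨fQ_injective K hd w, hsurj⟩),
    dim_AA]

lemma iInf_divisors_eq_finset_inf :
    (Finset.univ.filter (fun φ => φ ∈ divisors w)).inf (fun φ => schubertVanishing K d n φ) =
      ⨅ φ ∈ divisors w, schubertVanishing K d n φ := by
  rw [Finset.inf_eq_iInf]
  apply le_antisymm
  · simp only [le_iInf_iff]
    intro φ hφ
    exact iInf₂_le φ (by simp [hφ])
  · simp only [le_iInf_iff]
    intro φ hφ
    have : φ ∈ divisors w := by
      simp only [Finset.mem_filter, Finset.mem_univ, true_and] at hφ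
      exact hφ
    exact iInf₂_le φ this

include hd hdn in
theorem dim_schubert_aux : ∀ (m : ℕ) (w : Idx d n), codeg w = m →
    ringKrullDim (PlRing K d n ⧸ schubertVanishing K d n w) = ((codeg w + 1 : ℕ) : WithBot ℕ∞) := by
  intro m
  induction m using Nat.strong_induction_on with
  | _ m ih =>
  intro w hw
  by_cases hτ : ∃ φ : Idx d n, φ < w
  swap
  · exact dim_bottom K hd hdn w hτ
  haveI := schubert_isPrime K hd w
  haveI : IsDomain (PlRing K d n ⧸ schubertVanishing K d n w) := Ideal.Quotient.isDomain _
  set xb := Ideal.Quotient.mk (schubertVanishing K d n w) (X w) with hxb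
  have hspan : Ideal.span {xb} =
      (Ideal.span {(X w : PlRing K d n)}).map (Ideal.Quotient.mk (schubertVanishing K d n w)) := by
    rw [Ideal.map_span, Set.image_singleton]
  apply le_antisymm
  · -- upper bound
    rw [ringKrullDim_le_iff_height_le]
    intro p hp
    by_cases hx : xb ∈ p
    · have h1 := Ideal.height_le_ringKrullDim_quotient_add_one hx
      have h2 : ringKrullDim ((PlRing K d n ⧸ schubertVanishing K d n w) ⧸ Ideal.span {xb}) ≤
          ((codeg w : ℕ) : WithBot ℕ∞) := by
        have hkill : ∀ a ∈ schubertVanishing K d n w ⊔ Ideal.span {(X w : PlRing K d n)},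
            ((Ideal.Quotient.mk (Ideal.span {xb})).comp
              (Ideal.Quotient.mk (schubertVanishing K d n w))) a = 0 := by
          intro a ha
          rw [RingHom.comp_apply, Ideal.Quotient.eq_zero_iff_mem, hspan,
            Ideal.mem_quotient_iff_mem_sup, sup_comm]
          exact ha
        have hsurj : Function.Surjective (Ideal.Quotient.lift _ _ hkill) :=
          Ideal.Quotient.lift_surjective_of_surjective _ _
            (Ideal.Quotient.mk_surjective.comp Ideal.Quotient.mk_surjective)
        refine (ringKrullDim_le_of_surjective _ hsurj).trans ?_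
        rw [schubert_sup_span_eq K hd w hτ, ← iInf_divisors_eq_finset_inf]
        apply ringKrullDim_quotient_finset_inf_le
        intro φ hφ
        have hφ' : φ ∈ divisors w := by
          simp only [Finset.mem_filter, Finset.mem_univ, true_and] at hφ
          exact hφ
        have h3 := ih (codeg φ) (by have := hφ'.2; omega) φ rfl
        rw [h3, hφ'.2]
      calc (p.height : WithBot ℕ∞) ≤ ringKrullDim ((PlRing K d n ⧸ schubertVanishing K d n w) ⧸
            Ideal.span {xb}) + 1 := h1
        _ ≤ ((codeg w : ℕ) : WithBot ℕ∞) + 1 := add_le_add_left h2 1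
        _ = ((codeg w + 1 : ℕ) : WithBot ℕ∞) := by push_cast; rfl
    · exact height_le_of_not_mem K hd w p hx
  · -- lower bound
    obtain ⟨θ, hθ⟩ := hτ
    obtain ⟨φ0, hφ0, _⟩ := exists_divisor_ge θ w hθ
    have hnz : xb ∈ nonZeroDivisors (PlRing K d n ⧸ schubertVanishing K d n w) :=
      mem_nonZeroDivisors_of_ne_zero (xb_ne_zero K hd w)
    have h1 := ringKrullDim_quotient_succ_le_of_nonZeroDivisor hnz
    have hle : schubertVanishing K d n w ≤ schubertVanishing K d n φ0 := by
      rw [schubertVanishing_eq_plIdeal K hd, schubertVanishing_eq_plIdeal K hd]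
      exact plIdeal_anti K (le_of_lt hφ0.1)
    have hkill : ∀ a ∈ Ideal.span {xb}, Ideal.Quotient.factor hle a = 0 := by
      intro a ha
      have : Ideal.span {xb} ≤ RingHom.ker (Ideal.Quotient.factor hle) := by
        rw [Ideal.span_le, Set.singleton_subset_iff]
        show Ideal.Quotient.factor hle xb = 0
        rw [hxb, Ideal.Quotient.factor_mk, Ideal.Quotient.eq_zero_iff_mem]
        exact X_mem_of_not_le K hd w φ0 (not_le_of_gt hφ0.1)
      exact this ha
    have hsurj : Function.Surjective (Ideal.Quotient.lift _ _ hkill) :=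
      Ideal.Quotient.lift_surjective_of_surjective _ _ (Ideal.Quotient.factor_surjective hle)
    have h2 : ringKrullDim (PlRing K d n ⧸ schubertVanishing K d n φ0) ≤
        ringKrullDim ((PlRing K d n ⧸ schubertVanishing K d n w) ⧸ Ideal.span {xb}) :=
      ringKrullDim_le_of_surjective _ hsurj
    have h3 := ih (codeg φ0) (by have := hφ0.2; omega) φ0 rfl
    calc ((codeg w + 1 : ℕ) : WithBot ℕ∞) = ((codeg φ0 + 1 : ℕ) : WithBot ℕ∞) + 1 := by
          rw [← hφ0.2]; push_cast; rfl
      _ = ringKrullDim (PlRing K d n ⧸ schubertVanishing K d n φ0) + 1 := by rw [h3]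
      _ ≤ ringKrullDim ((PlRing K d n ⧸ schubertVanishing K d n w) ⧸ Ideal.span {xb}) + 1 :=
          add_le_add_left h2 1
      _ ≤ _ := h1

include hd hdn in
theorem dim_schubert :
    ringKrullDim (PlRing K d n ⧸ schubertVanishing K d n w) = ((codeg w + 1 : ℕ) : WithBot ℕ∞) :=
  dim_schubert_aux K hd hdn (codeg w) w rfl

end Groth.Agent.Lib.Helper6.Gr
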