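import Groth.Agent.Lib.Helper6.Grass.Divisor

/-!
# Grassmannian: combinatorics of Schubert divisors (helper6)
-/

open scoped Classical
set_option linter.unusedSectionVars false
set_option autoImplicit false

universe u v

noncomputable section

namespace Groth.Agent.Lib.Helper6.Gr

open W4bk4grassmannian

variable {d n : ℕ}

/-- `t` is a gap position of `τ`: decrementing `τ_t` keeps the tuple strictly increasing. -/
def IsGap (τ : Idx d n) (t : Fin d) : Prop :=
  0 < (τ.1 t).val ∧ ∀ t' : Fin d, t'.val + 1 = t.val → (τ.1 t').val + 1 < (τ.1 t).val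

lemma codeg_lt_of_lt {φ ψ : Idx d n} (h : φ < ψ) : codeg φ < codeg ψ := by
  have hle : φ ≤ ψ := le_of_lt h
  have hex : ∃ t, φ.1 t < ψ.1 t := by
    by_contra hcon
    push Not at hcon
    exact absurd (le_antisymm hle hcon) (ne_of_lt h)
  obtain ⟨t, ht⟩ := hex
  unfold codeg
  apply Finset.sum_lt_sum
  · intro s _
    have : (φ.1 s).val ≤ (ψ.1 s).val := hle s
    omega
  · refine ⟨t, Finset.mem_univ _, ?_⟩
    have h1 : (φ.1 t).val < (ψ.1 t).val := ht
    have h2 := idx_val_ge φ t
    omega

lemma divisor_eq_of_le {τ φ φ' : Idx d n} (hφ : φ ∈ divisors τ) (hφ' : φ' ∈ divisors τ)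
    (h : φ ≤ φ') : φ = φ' := by
  by_contra hne
  have := codeg_lt_of_lt (lt_of_le_of_ne h hne)
  have h1 := hφ.2
  have h2 := hφ'.2
  omega

/-- A gap position gives a divisor. -/
lemma divisor_of_gap (τ : Idx d n) (t : Fin d) (hg : IsGap τ t) :
    ∃ φ : Idx d n, φ ∈ divisors τ ∧ (φ.1 t).val + 1 = (τ.1 t).val ∧ ∀ s, s ≠ t → φ.1 s = τ.1 s := by
  obtain ⟨hpos, hgap⟩ := hg
  set y : Fin n := ⟨(τ.1 t).val - 1, by have := (τ.1 t).isLt; omega⟩ with hy
  have hyv : y.val + 1 = (τ.1 t).val := by simp only [hy]; omega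
  have hmono : StrictMono (Function.update τ.1 t y) := by
    intro a b hab
    by_cases hb : b = t
    · have hab' : a < t := hb ▸ hab
      have ha : a ≠ t := ne_of_lt hab'
      rw [hb, Function.update_self, Function.update_of_ne ha]
      -- a < t: let t' = t - 1
      have hab'' : a.val < t.val := hab'
      set t' : Fin d := ⟨t.val - 1, by have := t.isLt; omega⟩ with ht'
      have ht'v : t'.val + 1 = t.val := by simp only [ht']; omega
      have h1 := hgap t' ht'v
      have h2 : τ.1 a ≤ τ.1 t' := τ.2.monotone (by rw [Fin.le_def]; omega)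
      have h2' : (τ.1 a).val ≤ (τ.1 t').val := h2
      rw [Fin.lt_def]
      omega
    · rw [Function.update_of_ne hb]
      by_cases ha : a = t
      · rw [ha, Function.update_self]
        have h1 : τ.1 t < τ.1 b := τ.2 (ha ▸ hab)
        rw [Fin.lt_def] at h1 ⊢
        omega
      · rw [Function.update_of_ne ha]
        exact τ.2 hab
  refine ⟨⟨Function.update τ.1 t y, hmono⟩, ⟨?_, ?_⟩, ?_, ?_⟩
  · apply lt_of_le_of_ne
    · intro s
      show Function.update τ.1 t y s ≤ τ.1 s
      by_cases hs : s = t
      · rw [hs, Function.update_self, Fin.le_def]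
        omega
      · rw [Function.update_of_ne hs]
    · intro hcon
      have := congrArg (fun x : Idx d n => (x.1 t).val) hcon
      simp only [Function.update_self] at this
      omega
  · unfold codeg
    have hsplit : ∀ w : Fin d → Fin n, (∑ s, ((w s).val - s.val)) =
        ((w t).val - t.val) + ∑ s ∈ Finset.univ.erase t, ((w s).val - s.val) :=
      fun w => (Finset.add_sum_erase _ _ (Finset.mem_univ t)).symm
    rw [hsplit, hsplit τ.1]
    have hrest : ∑ s ∈ Finset.univ.erase t, ((Function.update τ.1 t y s).val - s.val) =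
        ∑ s ∈ Finset.univ.erase t, ((τ.1 s).val - s.val) := by
      apply Finset.sum_congr rfl
      intro s hs
      rw [Function.update_of_ne (Finset.ne_of_mem_erase hs)]
    simp only
    rw [hrest, Function.update_self]
    have h1 : t.val ≤ y.val := idx_val_ge ⟨Function.update τ.1 t y, hmono⟩ t |>.trans
      (by show (Function.update τ.1 t y t).val ≤ y.val; rw [Function.update_self])
    omega
  · show (Function.update τ.1 t y t).val + 1 = (τ.1 t).val
    rw [Function.update_self]
    exact hyv
  · intro s hs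
    show Function.update τ.1 t y s = τ.1 s
    rw [Function.update_of_ne hs]

/-- A divisor comes from a gap position. -/
lemma gap_of_divisor (τ φ : Idx d n) (hφ : φ ∈ divisors τ) :
    ∃ t, IsGap τ t ∧ (φ.1 t).val + 1 = (τ.1 t).val ∧ ∀ s, s ≠ t → φ.1 s = τ.1 s := by
  obtain ⟨hlt, hco⟩ := hφ
  have hle : φ ≤ τ := le_of_lt hlt
  have hlev : ∀ s, (φ.1 s).val ≤ (τ.1 s).val := fun s => hle s
  have hex : ∃ t, φ.1 t < τ.1 t := by
    by_contra hcon
    push Not at hcon
    exact absurd (le_antisymm hle hcon) (ne_of_lt hlt)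
  obtain ⟨t, ht⟩ := hex
  have htv : (φ.1 t).val < (τ.1 t).val := ht
  unfold codeg at hco
  have hsplit : ∀ w : Fin d → Fin n, (∑ s, ((w s).val - s.val)) =
      ((w t).val - t.val) + ∑ s ∈ Finset.univ.erase t, ((w s).val - s.val) :=
    fun w => (Finset.add_sum_erase _ _ (Finset.mem_univ t)).symm
  rw [hsplit φ.1, hsplit τ.1] at hco
  have hrest_le : ∑ s ∈ Finset.univ.erase t, ((φ.1 s).val - s.val) ≤
      ∑ s ∈ Finset.univ.erase t, ((τ.1 s).val - s.val) := by
    apply Finset.sum_le_sum
    intro s _
    have := hlev s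
    omega
  have h1 := idx_val_ge φ t
  have hrest_eq : ∑ s ∈ Finset.univ.erase t, ((φ.1 s).val - s.val) =
      ∑ s ∈ Finset.univ.erase t, ((τ.1 s).val - s.val) := by omega
  have hstep : (φ.1 t).val + 1 = (τ.1 t).val := by omega
  have hothers : ∀ s, s ≠ t → φ.1 s = τ.1 s := by
    intro s hs
    by_contra hne
    have hlt' : (φ.1 s).val < (τ.1 s).val := by
      have := hlev s
      have hne' : (φ.1 s).val ≠ (τ.1 s).val := fun h => hne (Fin.ext h)
      omega
    have : ∑ s ∈ Finset.univ.erase t, ((φ.1 s).val - s.val) <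
        ∑ s ∈ Finset.univ.erase t, ((τ.1 s).val - s.val) := by
      apply Finset.sum_lt_sum
      · intro s' _
        have := hlev s'
        omega
      · refine ⟨s, Finset.mem_erase.mpr ⟨hs, Finset.mem_univ _⟩, ?_⟩
        have := idx_val_ge φ s
        omega
    omega
  refine ⟨t, ⟨by omega, ?_⟩, hstep, hothers⟩
  intro t' ht'
  have hne : t' ≠ t := by
    intro h
    rw [h] at ht'
    omega
  have h2 : φ.1 t' < φ.1 t := φ.2 (by rw [Fin.lt_def]; omega)
  have h2v : (φ.1 t').val < (φ.1 t).val := h2
  rw [← hothers t' hne]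
  omega

/-- `divisors τ` is a subsingleton iff `τ` has at most one gap position. -/
theorem divisors_subsingleton_iff (τ : Idx d n) :
    (divisors τ).Subsingleton ↔ ∀ t t', IsGap τ t → IsGap τ t' → t = t' := by
  constructor
  · intro hsub t t' hg hg'
    by_contra hne
    obtain ⟨φ, hφ, h1, h2⟩ := divisor_of_gap τ t hg
    obtain ⟨φ', hφ', h1', h2'⟩ := divisor_of_gap τ t' hg'
    have heq := hsub hφ hφ'
    have h3 : φ'.1 t = τ.1 t := h2' t hne
    rw [heq, h3] at h1
    omega
  · intro h φ hφ φ' hφ'
    obtain ⟨t, hg, h1, h2⟩ := gap_of_divisor τ φ hφ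
    obtain ⟨t', hg', h1', h2'⟩ := gap_of_divisor τ φ' hφ'
    have htt := h t t' hg hg'
    rw [← htt] at h1' h2'
    apply Subtype.ext
    funext s
    by_cases hs : s = t
    · rw [hs]
      apply Fin.ext
      omega
    · rw [h2 s hs, h2' s hs]

/-- No gaps below `s` forces `τ_t = t` there. -/
lemma eq_of_no_gap (τ : Idx d n) (s : ℕ) (h : ∀ t : Fin d, t.val < s → ¬ IsGap τ t) :
    ∀ (k : ℕ) (t : Fin d), t.val = k → t.val < s → (τ.1 t).val = t.val := by
  intro k
  induction k with
  | zero =>
    intro t htk hts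
    have hng := h t hts
    unfold IsGap at hng
    push Not at hng
    by_contra hne
    have hpos : 0 < (τ.1 t).val := by
      have := idx_val_ge τ t
      omega
    obtain ⟨t', ht', _⟩ := hng hpos
    omega
  | succ k ih =>
    intro t htk hts
    have hng := h t hts
    unfold IsGap at hng
    push Not at hng
    have hpos : 0 < (τ.1 t).val := by
      have := idx_val_ge τ t
      omega
    obtain ⟨t', ht', hle⟩ := hng hpos
    have := ih t' (by omega) (by omega)
    have := idx_val_ge τ t
    omega

/-- No gap at `t' = t + 1` forces `τ_{t'} = τ_t + 1`. -/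
lemma succ_of_no_gap (τ : Idx d n) (t t' : Fin d) (htt : t.val + 1 = t'.val) (h : ¬ IsGap τ t') :
    (τ.1 t).val + 1 = (τ.1 t').val := by
  unfold IsGap at h
  push Not at h
  have hpos : 0 < (τ.1 t').val := by
    have := idx_val_ge τ t'
    omega
  obtain ⟨t'', ht'', hle⟩ := h hpos
  have : t'' = t := Fin.ext (by omega)
  rw [this] at hle
  have h2 : τ.1 t < τ.1 t' := τ.2 (by rw [Fin.lt_def]; omega)
  have h2v : (τ.1 t).val < (τ.1 t').val := h2
  omega

/-- At most one gap iff `τ` is `0, 1, …, s - 1` followed by a single run. -/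
theorem gap_subsingleton_iff (τ : Idx d n) :
    (∀ t t', IsGap τ t → IsGap τ t' → t = t') ↔
      ∃ s : ℕ, (∀ t : Fin d, t.val < s → (τ.1 t).val = t.val) ∧
        ∀ t t' : Fin d, s ≤ t.val → t.val + 1 = t'.val → (τ.1 t).val + 1 = (τ.1 t').val := by
  constructor
  · intro h
    by_cases hex : ∃ g, IsGap τ g
    · obtain ⟨g, hg⟩ := hex
      refine ⟨g.val, ?_, ?_⟩
      · intro t ht
        apply eq_of_no_gap τ g.val _ t.val t rfl ht
        intro t' ht' hg'
        have := h t' g hg' hg
        rw [this] at ht'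
        omega
      · intro t t' hst htt
        apply succ_of_no_gap τ t t' htt
        intro hg'
        have := h t' g hg' hg
        rw [this] at htt
        omega
    · push Not at hex
      refine ⟨d, ?_, ?_⟩
      · intro t ht
        exact eq_of_no_gap τ d (fun t' _ => hex t') t.val t rfl ht
      · intro t t' hst
        have := t.isLt
        omega
  · rintro ⟨s, h1, h2⟩
    have key : ∀ t, IsGap τ t → t.val = s := by
      intro t hg
      obtain ⟨hpos, hgap⟩ := hg
      by_contra hne
      rcases lt_or_gt_of_ne hne with hlt | hgt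
      · have ht := h1 t hlt
        by_cases h0 : t.val = 0
        · omega
        · set t' : Fin d := ⟨t.val - 1, by have := t.isLt; omega⟩ with ht'
          have ht'v : t'.val + 1 = t.val := by simp only [ht']; omega
          have h3 := hgap t' ht'v
          have h4 := h1 t' (by omega)
          omega
      · set t' : Fin d := ⟨t.val - 1, by have := t.isLt; omega⟩ with ht'
        have ht'v : t'.val + 1 = t.val := by simp only [ht']; omega
        have h3 := hgap t' ht'v
        have h4 := h2 t' t (by omega) ht'v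
        omega
    intro t t' hg hg'
    apply Fin.ext
    rw [key t hg, key t' hg']

theorem divisors_subsingleton_iff_shape (τ : Idx d n) :
    (divisors τ).Subsingleton ↔
      ∃ s : ℕ, (∀ t : Fin d, t.val < s → (τ.1 t).val = t.val) ∧
        ∀ t t' : Fin d, s ≤ t.val → t.val + 1 = t'.val → (τ.1 t).val + 1 = (τ.1 t').val :=
  (divisors_subsingleton_iff τ).trans (gap_subsingleton_iff τ)

end Groth.Agent.Lib.Helper6.Gr
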