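import Groth.Agent.Lib.Helper6.Grass.Quad
import Groth.Agent.Lib.Helper6.Grass.Struct
import Mathlib.LinearAlgebra.Matrix.Adjugate
import Mathlib.RingTheory.Adjoin.Basic

/-!
# Grassmannian: First Fundamental Theorem for `SL_d`, basic set-up (helper6)
-/

open scoped Classical
set_option linter.unusedSectionVars false
set_option autoImplicit false

universe u v

noncomputable section

namespace Groth.Agent.Lib.Helper6.Gr

open W4bk4grassmannian MvPolynomial

variable {d n : ℕ}

variable (K : Type u) [CommRing K]

/-- The generic `n × d` matrix. -/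
def genX : Matrix (Fin n) (Fin d) (MatRing K d n) := Matrix.of fun i t => X (i, t)

lemma minor_eq_pM (a : Fin d → Fin n) : minor K d n a = pM (genX K) a := rfl

lemma pluckerMap_eq : pluckerMap K d n = evalAt K (genX K (d := d) (n := n)) := rfl

/-- The subalgebra generated by the maximal minors. -/
abbrev R0 : Subalgebra K (MatRing K d n) :=
  Algebra.adjoin K (Set.range fun θ : Idx d n => minor K d n θ.1)

lemma R0_eq_range : R0 K (d := d) (n := n) = (pluckerMap K d n).range := by
  unfold R0 pluckerMap
  rw [Algebra.adjoin_range_eq_range_aeval]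

lemma minor_mem (a : Fin d → Fin n) : minor K d n a ∈ R0 K (d := d) (n := n) := by
  rw [minor_eq_pM]
  by_cases h : (Finset.univ.image a).card = d
  · rw [pM_eq_sort _ a h]
    apply Subalgebra.mul_mem
    · apply Subalgebra.pow_mem
      apply Subalgebra.neg_mem
      exact Subalgebra.one_mem _
    · apply Algebra.subset_adjoin
      exact ⟨sortIdx d n a h, rfl⟩
  · rw [pM_of_not_inj _ a h]
    exact Subalgebra.zero_mem _

/-- The matrix of constants of `g`. -/
def gC (g : Matrix (Fin d) (Fin d) K) : Matrix (Fin d) (Fin d) (MatRing K d n) :=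
  g.map (C : K → MatRing K d n)

/-- Right translation in matrix form. -/
lemma genX_map_rightTranslate (g : Matrix.SpecialLinearGroup (Fin d) K) :
    (genX K (d := d) (n := n)).map (rightTranslate K d n g) =
      Matrix.mulᵣ (genX K) (gC K (n := n) (g : Matrix (Fin d) (Fin d) K)) := by
  apply Matrix.ext
  intro i t
  rw [Matrix.mulᵣ_eq, Matrix.map_apply, Matrix.mul_apply]
  unfold genX rightTranslate gC
  rw [Matrix.of_apply, aeval_X]
  rfl

lemma rightTranslate_minor (g : Matrix.SpecialLinearGroup (Fin d) K) (a : Fin d → Fin n) :
    rightTranslate K d n g (minor K d n a) = minor K d n a := by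
  rw [minor_eq_pM]
  have := map_pM (rightTranslate K d n g).toRingHom (genX K) a
  have h2 : (genX K (d := d) (n := n)).map (rightTranslate K d n g).toRingHom =
      Matrix.mulᵣ (genX K) (gC K (n := n) (g : Matrix (Fin d) (Fin d) K)) :=
    genX_map_rightTranslate K g
  rw [h2, Matrix.mulᵣ_eq, pM_mul] at this
  have h3 : (gC K (n := n) (g : Matrix (Fin d) (Fin d) K)).det = 1 := by
    have h4 : gC K (n := n) (g : Matrix (Fin d) (Fin d) K) =
        (C : K →+* MatRing K d n).mapMatrix (g : Matrix (Fin d) (Fin d) K) := rfl
    rw [h4, ← RingHom.map_det, g.2, map_one]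
  rw [h3, mul_one] at this
  exact this

/-- The easy direction: polynomials in the minors are invariant. -/
theorem rightTranslate_of_mem (g : Matrix.SpecialLinearGroup (Fin d) K) (f : MatRing K d n)
    (hf : f ∈ R0 K (d := d) (n := n)) : rightTranslate K d n g f = f := by
  rw [R0_eq_range] at hf
  obtain ⟨F, rfl⟩ := hf
  have : (rightTranslate K d n g).comp (pluckerMap K d n) = pluckerMap K d n := by
    apply MvPolynomial.algHom_ext
    intro θ
    rw [AlgHom.comp_apply]
    unfold pluckerMap
    rw [aeval_X]
    exact rightTranslate_minor K g θ.1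
  exact DFunLike.congr_fun this F

/-- Evaluation after right translation is evaluation at the translated point. -/
lemma eval_rightTranslate (g : Matrix.SpecialLinearGroup (Fin d) K) (a : Fin n × Fin d → K)
    (f : MatRing K d n) :
    eval a (rightTranslate K d n g f) =
      eval (fun p : Fin n × Fin d => ∑ k, a (p.1, k) * (g : Matrix (Fin d) (Fin d) K) k p.2) f := by
  have : (aeval a : MatRing K d n →ₐ[K] K).comp (rightTranslate K d n g) =
      aeval (fun p : Fin n × Fin d => ∑ k, a (p.1, k) * (g : Matrix (Fin d) (Fin d) K) k p.2) := by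
    apply MvPolynomial.algHom_ext
    intro p
    rw [AlgHom.comp_apply]
    unfold rightTranslate
    rw [aeval_X, aeval_X, map_sum]
    apply Finset.sum_congr rfl
    intro k _
    rw [map_mul, aeval_X, aeval_C]
    rfl
  exact DFunLike.congr_fun this f

end Groth.Agent.Lib.Helper6.Gr
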