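import Groth.Agent.Lib.Helper6.Grass.FFT1

/-!
# Grassmannian: FFT for `SL_d`, the saturation step `p K[x] ∩ R0 = p R0` (helper6)
-/

open scoped Classical
set_option linter.unusedSectionVars false
set_option autoImplicit false

universe u v

noncomputable section

namespace Groth.Agent.Lib.Helper6.Gr

open W4bk4grassmannian MvPolynomial

variable {d n : ℕ}

variable (K : Type u) [Field K] (hd : 0 < d) (hdn : d < n)

/-- Specialization of the generic matrix to a band matrix. -/
def specB (v w : Idx d n) : MatRing K d n →ₐ[K] MvPolynomial (Var d n) K :=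
  aeval fun p : Fin n × Fin d => LmatB K v w p.1 p.2

lemma genX_map_specB (v w : Idx d n) : (genX K).map (specB K v w) = LmatB K v w := by
  apply Matrix.ext
  intro i t
  rw [Matrix.map_apply]
  unfold genX specB
  rw [Matrix.of_apply, aeval_X]

lemma specB_comp_pluckerMap (v w : Idx d n) :
    (specB K v w).comp (pluckerMap K d n) = phiB K v w := by
  apply MvPolynomial.algHom_ext
  intro θ
  rw [AlgHom.comp_apply, pluckerMap_eq]
  unfold phiB
  rw [evalAt_X, evalAt_X]
  have := map_pM (specB K v w).toRingHom (genX K) θ.1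
  have h2 : (genX K (d := d) (n := n)).map (specB K v w).toRingHom = LmatB K v w :=
    genX_map_specB K v w
  rw [h2] at this
  exact this

/-- The leading minor (rows `0, …, d-1`). -/
def pI : MatRing K d n := minor K d n (iotaB hdn).1

include hd in
lemma specB_pI : specB K (iotaA hdn) (topI (le_of_lt hdn)) (pI K hdn) = 0 := by
  unfold pI
  rw [minor_eq_pM]
  have := map_pM (specB K (iotaA hdn) (topI (le_of_lt hdn))).toRingHom (genX K) (iotaB hdn).1
  have h2 : (genX K (d := d) (n := n)).map (specB K (iotaA hdn) (topI (le_of_lt hdn))).toRingHom =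
      LmatB K (iotaA hdn) (topI (le_of_lt hdn)) := genX_map_specB K _ _
  rw [h2] at this
  refine this.trans ?_
  apply pM_LmatB_of_not_ge
  exact (not_iotaA_le_iff hd hdn _).mpr rfl

lemma plIdeal_topI_le_ker :
    plIdeal K (topI (le_of_lt hdn)) ≤ RingHom.ker (pluckerMap K d n).toRingHom := by
  unfold plIdeal
  rw [Ideal.span_le]
  rintro f (⟨i, j, r, _, rfl⟩ | ⟨φ, hφ, rfl⟩)
  · rw [SetLike.mem_coe, RingHom.mem_ker]
    show pluckerMap K d n (shuffleRel K i j r) = 0
    rw [pluckerMap_eq]
    exact evalAt_shuffleRel K _ i j r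
  · exact absurd (le_topI (le_of_lt hdn) φ) hφ

include hd in
lemma pI_ne_zero : pI K hdn ≠ 0 := by
  intro h
  -- specialize to the echelon matrix of the top index
  have h1 : (aeval (fun p : Fin n × Fin d => Lmat K (topI (le_of_lt hdn)) p.1 p.2) :
      MatRing K d n →ₐ[K] MvPolynomial (Var d n) K) (pI K hdn) =
      phi K (topI (le_of_lt hdn)) (X (iotaB hdn)) := by
    unfold pI phi
    rw [evalAt_X, minor_eq_pM]
    have := map_pM (aeval (fun p : Fin n × Fin d => Lmat K (topI (le_of_lt hdn)) p.1 p.2) :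
      MatRing K d n →ₐ[K] MvPolynomial (Var d n) K).toRingHom (genX K) (iotaB hdn).1
    refine this.trans ?_
    congr 1
    apply Matrix.ext
    intro i t
    rw [Matrix.map_apply]
    unfold genX
    rw [Matrix.of_apply]
    exact aeval_X _ _
  rw [h, map_zero] at h1
  have hm := (phi_X_monic K hd (topI (le_of_lt hdn)) (iotaB hdn) (le_topI _ _)).1
  rw [← h1] at hm
  exact (MonomialOrder.Monic.ne_zero hm) rfl

include hd in
/-- Saturation: `p f ∈ R0` implies `f ∈ R0`. -/
theorem mem_R0_of_pI_mul (f : MatRing K d n) (h : pI K hdn * f ∈ R0 K (d := d) (n := n)) :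
    f ∈ R0 K (d := d) (n := n) := by
  rw [R0_eq_range] at h ⊢
  obtain ⟨G, hG⟩ := h
  have hker : G ∈ RingHom.ker (phiB K (iotaA hdn) (topI (le_of_lt hdn))).toRingHom := by
    rw [RingHom.mem_ker]
    show phiB K (iotaA hdn) (topI (le_of_lt hdn)) G = 0
    rw [← specB_comp_pluckerMap, AlgHom.comp_apply]
    have hG' : pluckerMap K d n G = pI K hdn * f := hG
    rw [hG', map_mul, specB_pI K hd hdn, zero_mul]
  rw [ker_phiB_eq K hd] at hker
  unfold plIdealB at hker
  rw [span_not_iotaA K hd hdn] at hker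
  obtain ⟨j, hj, c, hc, rfl⟩ := Submodule.mem_sup.mp hker
  rw [Ideal.mem_span_singleton'] at hc
  obtain ⟨c', rfl⟩ := hc
  have hj0 : pluckerMap K d n j = 0 := plIdeal_topI_le_ker K hdn hj
  have hG' : pluckerMap K d n (j + c' * X (iotaB hdn)) = pI K hdn * f := hG
  rw [map_add, hj0, zero_add, map_mul] at hG'
  have hX : pluckerMap K d n (X (iotaB hdn)) = pI K hdn := by
    unfold pluckerMap pI
    rw [aeval_X]
  rw [hX, mul_comm] at hG'
  have := mul_left_cancel₀ (pI_ne_zero K hd hdn) hG'
  exact ⟨c', this⟩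

include hd in
theorem mem_R0_of_pI_pow_mul (N : ℕ) (f : MatRing K d n)
    (h : pI K hdn ^ N * f ∈ R0 K (d := d) (n := n)) : f ∈ R0 K (d := d) (n := n) := by
  induction N with
  | zero => rwa [pow_zero, one_mul] at h
  | succ N ih =>
    apply ih
    apply mem_R0_of_pI_mul K hd hdn
    rw [← mul_assoc, ← pow_succ']
    exact h

end Groth.Agent.Lib.Helper6.Gr
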