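import Groth.Agent.Lib.Helper6.Grass.FFT2

/-!
# Grassmannian: FFT for `SL_d`, invariants are fractions of polynomials in the minors (helper6)
-/

open scoped Classical
set_option linter.unusedSectionVars false
set_option autoImplicit false

universe u v

noncomputable section

namespace Groth.Agent.Lib.Helper6.Gr

open W4bk4grassmannian MvPolynomial

variable {d n : ℕ}

variable (K : Type u) [Field K] (hd : 0 < d) (hdn : d < n)

/-- The leading `d × d` block of the generic matrix. -/
def g0 : Matrix (Fin d) (Fin d) (MatRing K d n) := (genX K).submatrix (iotaB hdn).1 id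

lemma det_g0 : (g0 K hdn).det = pI K hdn := rfl

/-- The generic matrix times the adjugate of its leading block. -/
def Mp : Matrix (Fin n) (Fin d) (MatRing K d n) :=
  (genX K (d := d) (n := n)) * ((g0 K hdn).adjugate : Matrix (Fin d) (Fin d) (MatRing K d n))

lemma Mp_apply (i : Fin n) (t : Fin d) :
    Mp K hdn i t = minor K d n (Function.update (iotaB hdn).1 t i) := by
  have h1 : Mp K hdn i t = Matrix.cramer (g0 K hdn).transpose (genX K i) t := by
    rw [Matrix.cramer_eq_adjugate_mulVec, ← Matrix.adjugate_transpose]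
    unfold Mp
    rw [Matrix.mul_apply, Matrix.mulVec, dotProduct]
    apply Finset.sum_congr rfl
    intro s _
    rw [Matrix.transpose_apply, mul_comm]
  rw [h1, Matrix.cramer_transpose_apply, minor_eq_pM]
  unfold pM
  congr 1
  apply Matrix.ext
  intro s c
  rw [Matrix.updateRow_apply, Matrix.submatrix_apply, id_eq]
  by_cases hs : s = t
  · rw [if_pos hs, hs, Function.update_self]
  · rw [if_neg hs, Function.update_of_ne hs]
    rfl

lemma Mp_mem (i : Fin n) (t : Fin d) : Mp K hdn i t ∈ R0 K (d := d) (n := n) := by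
  rw [Mp_apply]
  exact minor_mem K _

/-- Column-zero degree of a monomial. -/
def e0 (m : Fin n × Fin d →₀ ℕ) : ℕ := ∑ i : Fin n, m (i, ⟨0, hd⟩)

lemma e0_le_totalDegree (f : MatRing K d n) (m : Fin n × Fin d →₀ ℕ) (hm : m ∈ f.support) :
    e0 hd m ≤ f.totalDegree := by
  refine le_trans ?_ (MvPolynomial.le_totalDegree hm)
  rw [Finsupp.sum_fintype _ _ (fun _ => rfl), Fintype.sum_prod_type]
  unfold e0
  apply Finset.sum_le_sum
  intro i _
  exact Finset.single_le_sum (f := fun t => m (i, t)) (fun _ _ => Nat.zero_le _)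
    (Finset.mem_univ (⟨0, hd⟩ : Fin d))

/-- The numerator: a polynomial in the minors. -/
def numF (f : MatRing K d n) : MatRing K d n :=
  ∑ m ∈ f.support, C (coeff m f) * pI K hdn ^ ((d - 1) * (f.totalDegree - e0 hd m)) *
    ∏ v : Fin n × Fin d, Mp K hdn v.1 v.2 ^ m v

lemma numF_mem (f : MatRing K d n) : numF K hd hdn f ∈ R0 K (d := d) (n := n) := by
  unfold numF
  apply Subalgebra.sum_mem
  intro m _
  apply Subalgebra.mul_mem
  · apply Subalgebra.mul_mem
    · exact Subalgebra.algebraMap_mem _ _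
    · apply Subalgebra.pow_mem
      exact minor_mem K _
  · apply Subalgebra.prod_mem
    intro v _
    apply Subalgebra.pow_mem
    exact Mp_mem K hdn _ _

/-- Evaluation of the numerator at points where the leading minor is nonzero. -/
theorem eval_numF (f : MatRing K d n)
    (hf : ∀ g : Matrix.SpecialLinearGroup (Fin d) K, rightTranslate K d n g f = f)
    (a : Fin n × Fin d → K) (ha : eval a (pI K hdn) ≠ 0) :
    eval a (numF K hd hdn f) = eval a (pI K hdn) ^ ((d - 1) * f.totalDegree) * eval a f := by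
  set pa := eval a (pI K hdn) with hpa
  set adjA : Matrix (Fin d) (Fin d) K := ((g0 K hdn).adjugate).map (eval a) with hadjA
  set D : Fin d → K := fun t => if t = ⟨0, hd⟩ then (pa⁻¹) ^ (d - 1) else 1 with hD
  set hA : Matrix (Fin d) (Fin d) K := adjA * Matrix.diagonal D with hhA
  have hdetadj : adjA.det = pa ^ (d - 1) := by
    have : adjA = (eval a).mapMatrix ((g0 K hdn).adjugate) := rfl
    rw [this, ← RingHom.map_det, Matrix.det_adjugate, det_g0, map_pow, Fintype.card_fin]
  have hdetD : (Matrix.diagonal D).det = (pa⁻¹) ^ (d - 1) := by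
    rw [Matrix.det_diagonal, hD,
      Finset.prod_ite_eq' Finset.univ (⟨0, hd⟩ : Fin d) (fun _ => (pa⁻¹) ^ (d - 1)),
      if_pos (Finset.mem_univ _)]
  have hdet : hA.det = 1 := by
    rw [hhA, Matrix.det_mul, hdetadj, hdetD, ← mul_pow, mul_inv_cancel₀ ha, one_pow]
  have hinv := hf ⟨hA, hdet⟩
  have h1 : eval a f = eval (fun p : Fin n × Fin d => ∑ k, a (p.1, k) * hA k p.2) f := by
    conv_lhs => rw [← hinv]
    exact eval_rightTranslate K ⟨hA, hdet⟩ a f
  -- the translated point
  have hpt : ∀ p : Fin n × Fin d, ∑ k, a (p.1, k) * hA k p.2 =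
      eval a (Mp K hdn p.1 p.2) * D p.2 := by
    intro p
    have hMp : eval a (Mp K hdn p.1 p.2) = ∑ k, a (p.1, k) * adjA k p.2 := by
      unfold Mp
      rw [Matrix.mul_apply, map_sum]
      apply Finset.sum_congr rfl
      intro k _
      rw [map_mul]
      congr 1
      unfold genX
      rw [Matrix.of_apply, eval_X]
    rw [hMp, Finset.sum_mul]
    apply Finset.sum_congr rfl
    intro k _
    rw [hhA, Matrix.mul_diagonal, mul_assoc]
  rw [h1, eval_eq' (fun p : Fin n × Fin d => ∑ k, a (p.1, k) * hA k p.2) f]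
  unfold numF
  rw [map_sum, Finset.mul_sum]
  apply Finset.sum_congr rfl
  intro m hm
  rw [map_mul, map_mul, eval_C, map_pow, map_prod]
  simp_rw [hpt, mul_pow, map_pow]
  rw [Finset.prod_mul_distrib]
  have hDprod : ∏ v : Fin n × Fin d, D v.2 ^ m v = ((pa⁻¹) ^ (d - 1)) ^ e0 hd m := by
    rw [Fintype.prod_prod_type]
    unfold e0
    rw [← Finset.prod_pow_eq_pow_sum]
    apply Finset.prod_congr rfl
    intro i _
    rw [Finset.prod_eq_single (⟨0, hd⟩ : Fin d)]
    · simp only [hD, if_pos]
    · intro t _ ht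
      simp only [hD, if_neg ht, one_pow]
    · intro h
      exact absurd (Finset.mem_univ _) h
  rw [hDprod]
  have hle := e0_le_totalDegree K hd f m hm
  have hsplit : pa ^ ((d - 1) * f.totalDegree) =
      pa ^ ((d - 1) * (f.totalDegree - e0 hd m)) * (pa ^ (d - 1)) ^ e0 hd m := by
    rw [← pow_mul, ← pow_add, ← Nat.mul_add, Nat.sub_add_cancel hle]
  rw [hsplit]
  have hcancel : (pa ^ (d - 1)) ^ e0 hd m * ((pa⁻¹) ^ (d - 1)) ^ e0 hd m = 1 := by
    rw [← mul_pow, ← mul_pow, mul_inv_cancel₀ ha, one_pow, one_pow]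
  calc coeff m f * pa ^ ((d - 1) * (f.totalDegree - e0 hd m)) *
        ∏ v : Fin n × Fin d, eval a (Mp K hdn v.1 v.2) ^ m v
      = coeff m f * pa ^ ((d - 1) * (f.totalDegree - e0 hd m)) *
        (∏ v : Fin n × Fin d, eval a (Mp K hdn v.1 v.2) ^ m v) *
        ((pa ^ (d - 1)) ^ e0 hd m * ((pa⁻¹) ^ (d - 1)) ^ e0 hd m) := by rw [hcancel, mul_one]
    _ = _ := by ring

variable [Infinite K]

include hd hdn in
/-- FFT, hard direction. -/
theorem mem_R0_of_invariant (f : MatRing K d n)
    (hf : ∀ g : Matrix.SpecialLinearGroup (Fin d) K, rightTranslate K d n g f = f) :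
    f ∈ R0 K (d := d) (n := n) := by
  apply mem_R0_of_pI_pow_mul K hd hdn ((d - 1) * f.totalDegree)
  have key : (numF K hd hdn f - pI K hdn ^ ((d - 1) * f.totalDegree) * f) * pI K hdn = 0 := by
    apply MvPolynomial.funext
    intro a
    rw [map_mul, map_zero, map_sub, map_mul, map_pow]
    by_cases ha : eval a (pI K hdn) = 0
    · rw [ha, mul_zero]
    · rw [eval_numF K hd hdn f hf a ha, sub_self, zero_mul]
  have h2 := (mul_eq_zero.mp key).resolve_right (pI_ne_zero K hd hdn)
  rw [sub_eq_zero] at h2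
  rw [← h2]
  exact numF_mem K hd hdn f

include hd hdn in
theorem fft_SL (f : MatRing K d n) :
    (∀ g : Matrix.SpecialLinearGroup (Fin d) K, rightTranslate K d n g f = f) ↔
      f ∈ Algebra.adjoin K (Set.range fun θ : Idx d n => minor K d n θ.1) :=
  ⟨mem_R0_of_invariant K hd hdn f, fun h g => rightTranslate_of_mem K g f h⟩

end Groth.Agent.Lib.Helper6.Gr
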