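import Groth.Agent.Lib.Helper6.Grass.SRDegen

/-!
# Grassmannian: toric degeneration of a Schubert cone to the Hibi ring of its poset (helper6)
-/

open scoped Classical
set_option linter.unusedSectionVars false
set_option autoImplicit false

universe u v

noncomputable section

namespace Groth.Agent.Lib.Helper6.Gr

open W4bk4grassmannian MvPolynomial Groth.Agent.Lib.Helper6.Rees
open scoped MonomialOrder

section Lam

variable {ι : Type*} [Fintype ι] [LinearOrder ι]

/-- Number of elements above `x`. -/
def rk (x : ι) : ℕ := (Finset.univ.filter (fun y => x < y)).card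

lemma geom_aux (S : Finset ι) :
    2 * ∑ x ∈ S, 3 ^ (S.filter (fun y => x < y)).card + 1 = 3 ^ S.card := by
  induction S using Finset.induction_on_min with
  | empty => simp
  | insert a s ha ih =>
    have hna : a ∉ s := fun h => lt_irrefl a (ha a h)
    rw [Finset.sum_insert hna, Finset.card_insert_of_notMem hna]
    have h1 : (insert a s).filter (fun y => a < y) = s := by
      ext y
      simp only [Finset.mem_filter, Finset.mem_insert]
      constructor
      · rintro ⟨h | h, h2⟩
        · rw [h] at h2; exact absurd h2 (lt_irrefl _)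
        · exact h
      · intro h
        exact ⟨Or.inr h, ha y h⟩
    have h2 : ∀ x ∈ s, (insert a s).filter (fun y => x < y) = s.filter (fun y => x < y) := by
      intro x hx
      ext y
      simp only [Finset.mem_filter, Finset.mem_insert]
      constructor
      · rintro ⟨h | h, h2⟩
        · rw [h] at h2; exact absurd (lt_trans h2 (ha x hx)) (lt_irrefl _)
        · exact ⟨h, h2⟩
      · rintro ⟨h, h2⟩
        exact ⟨Or.inr h, h2⟩
    rw [h1, Finset.sum_congr rfl (fun x hx => by rw [h2 x hx])]
    rw [pow_succ]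
    omega

/-- The lex-compatible weight of an exponent vector. -/
def lam (e : ι →₀ ℕ) : ℕ := ∑ x, 3 ^ rk x * e x

lemma lam_add (e e' : ι →₀ ℕ) : lam (e + e') = lam e + lam e' := by
  unfold lam
  rw [← Finset.sum_add_distrib]
  apply Finset.sum_congr rfl
  intro x _
  rw [Finsupp.add_apply, mul_add]

lemma lam_lt {e e' : ι →₀ ℕ} (h : toLex e < toLex e') (hb : ∀ x, e x ≤ 2) : lam e < lam e' := by
  obtain ⟨i, hi1, hi2⟩ := Finsupp.Lex.lt_iff.mp h
  have hi1' : ∀ j, j < i → e j = e' j := hi1
  have hi2' : e i < e' i := hi2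
  clear hi1 hi2
  set S := Finset.univ.filter (fun x : ι => i < x) with hS
  have hrk : ∀ x ∈ S, rk x = (S.filter (fun y => x < y)).card := by
    intro x hx
    unfold rk
    congr 1
    ext y
    simp only [hS, Finset.mem_filter, Finset.mem_univ, true_and] at hx ⊢
    constructor
    · intro h; exact ⟨lt_trans hx h, h⟩
    · intro h; exact h.2
  have hgeom := geom_aux S
  have hSi : S.card = rk i := rfl
  rw [hSi] at hgeom
  have hA : ∑ x ∈ S, 3 ^ rk x * e x ≤ 2 * ∑ x ∈ S, 3 ^ (S.filter (fun y => x < y)).card := by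
    rw [Finset.mul_sum]
    apply Finset.sum_le_sum
    intro x hx
    rw [hrk x hx, mul_comm]
    exact Nat.mul_le_mul_right _ (hb x)
  have hsplit : ∀ f : ι →₀ ℕ, lam f = ∑ x ∈ S, 3 ^ rk x * f x +
      ∑ x ∈ Finset.univ.filter (fun x : ι => ¬ i < x), 3 ^ rk x * f x := by
    intro f
    unfold lam
    rw [hS, Finset.sum_filter_add_sum_filter_not]
  have hB : ∑ x ∈ Finset.univ.filter (fun x : ι => ¬ i < x), 3 ^ rk x * e x + 3 ^ rk i ≤
      ∑ x ∈ Finset.univ.filter (fun x : ι => ¬ i < x), 3 ^ rk x * e' x := by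
    have hi : i ∈ Finset.univ.filter (fun x : ι => ¬ i < x) := by
      simp
    have : (3 : ℕ) ^ rk i = ∑ x ∈ Finset.univ.filter (fun x : ι => ¬ i < x),
        if x = i then 3 ^ rk i else 0 := by
      rw [Finset.sum_ite_eq' _ i, if_pos hi]
    rw [this, ← Finset.sum_add_distrib]
    apply Finset.sum_le_sum
    intro x hx
    simp only [Finset.mem_filter, Finset.mem_univ, true_and, not_lt] at hx
    by_cases hxi : x = i
    · rw [if_pos hxi, hxi]
      calc 3 ^ rk i * e i + 3 ^ rk i = 3 ^ rk i * (e i + 1) := by ring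
        _ ≤ 3 ^ rk i * e' i := Nat.mul_le_mul_left _ hi2'
    · rw [if_neg hxi, add_zero, hi1' x (lt_of_le_of_ne hx hxi)]
  rw [hsplit e, hsplit e']
  omega

end Lam

variable {d n : ℕ}

lemma expo_le_one (f : Fin d → Fin n) (x : Var d n) : expo f x ≤ 1 := by
  obtain ⟨⟨t, s⟩, rfl⟩ := toLex.surjective x
  rw [expo_apply]
  split_ifs <;> omega

/-- The Hibi weight. -/
def omH (θ : Idx d n) : ℕ := lam (expo θ.1) + 1

lemma omH_sup_inf (a b : Idx d n) :
    omH (W4bk4grassmannian.sup a b) + omH (W4bk4grassmannian.inf a b) = omH a + omH b := by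
  unfold omH
  have := congrArg lam (expo_sup_inf a b)
  rw [lam_add, lam_add] at this
  omega

lemma omH_lt {a b α β : Idx d n}
    (h : (expo α.1 + expo β.1) ≺[MonomialOrder.lex] (expo a.1 + expo b.1)) :
    omH α + omH β < omH a + omH b := by
  rw [MonomialOrder.lex_lt_iff] at h
  have := lam_lt h (fun x => by
    rw [Finsupp.add_apply]
    have h1 := expo_le_one α.1 x
    have h2 := expo_le_one β.1 x
    omega)
  rw [lam_add, lam_add] at this
  unfold omH
  omega

lemma omH_pos (a : Idx d n) : 0 < omH a := Nat.succ_pos _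

variable (K : Type u) [Field K] [Infinite K] (hd : 0 < d) (hdn : d < n) (w : Idx d n)

include hd hdn in
theorem pairHyp_H : PairHyp K (omH (d := d) (n := n)) := by
  intro a b hba
  by_cases hab : a ≤ b
  · apply Submodule.mem_sup_left
    apply Submodule.subset_span
    refine ⟨b, a, lt_of_le_of_ne hab (fun h => hba (by rw [h])), ?_, mul_comm _ _⟩
    omega
  · obtain ⟨g, hg, hmem⟩ := quad_full K hd (le_of_lt hdn) a b
    have hsplit : X a * X b = (X (W4bk4grassmannian.sup a b) * X (W4bk4grassmannian.inf a b) + g) +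
        (X a * X b - X (W4bk4grassmannian.sup a b) * X (W4bk4grassmannian.inf a b) - g) := by ring
    rw [hsplit]
    refine Submodule.add_mem _ (Submodule.mem_sup_left ?_) (Submodule.mem_sup_right hmem)
    apply Submodule.add_mem
    · apply Submodule.subset_span
      refine ⟨_, _, ?_, ?_, rfl⟩
      · refine lt_of_le_of_ne (le_sup_left' a b) ?_
        intro h
        apply hba
        rw [h]
        exact le_sup_right' a b
      · exact le_of_eq (omH_sup_inf a b)
    · refine (Submodule.span_mono ?_) hg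
      rintro _ ⟨α, β, _, hα, _, _, hlex, rfl⟩
      exact ⟨α, β, lt_of_le_of_lt (le_sup_left' a b) hα, le_of_lt (omH_lt hlex), rfl⟩

/-- Two elements of the same degree whose difference drops in the filtration agree in the special fibre. -/
lemma mk_el_eq_of_sub_mem {B : Type u} [CommRing B] [Algebra K B] {ι : Type v} (D : ReesData K B ι)
    (k k' : ℕ) (hkk : k = k') (y z : B) (hy : y ∈ D.Fil k) (hz : z ∈ D.Fil k') (hk : 0 < k)
    (h : y - z ∈ D.Fil (k - 1)) :
    Ideal.Quotient.mk (Ideal.span {algebraMap (Polynomial K) D.R Polynomial.X}) (D.el k y hy) =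
      Ideal.Quotient.mk (Ideal.span {algebraMap (Polynomial K) D.R Polynomial.X}) (D.el k' z hz) := by
  subst hkk
  rw [← sub_eq_zero, ← map_sub, D.el_sub]
  exact D.mk_el_of_lt k _ hk h

include hdn in
theorem psi_kill_H (f : MvPolynomial (Below w) K) (hf : f ∈ hibiIdeal K w) :
    psi K hd w omH (pairHyp_H K hd hdn) f = 0 := by
  have hle : hibiIdeal K w ≤ RingHom.ker (psi K hd w omH (pairHyp_H K hd hdn)).toRingHom := by
    unfold hibiIdeal
    rw [Ideal.span_le]
    rintro _ ⟨α, β, rfl⟩
    rw [SetLike.mem_coe, RingHom.mem_ker]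
    show psi K hd w omH (pairHyp_H K hd hdn) (X α * X β - X (Below.sup α β) * X (Below.inf α β)) = 0
    rw [map_sub, psi_X_mul, psi_X_mul, sub_eq_zero]
    obtain ⟨g, hg, hmem⟩ := quad_full K hd (le_of_lt hdn) α.1 β.1
    apply mk_el_eq_of_sub_mem K (reesData K hd w omH (pairHyp_H K hd hdn))
    · exact (omH_sup_inf α.1 β.1).symm
    · have := omH_pos α.1
      omega
    · rw [← map_sub]
      have hsplit : X α.1 * X β.1 - X (Below.sup α β).1 * X (Below.inf α β).1 = g +
          (X α.1 * X β.1 - X (W4bk4grassmannian.sup α.1 β.1) * X (W4bk4grassmannian.inf α.1 β.1) - g) := by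
        show X α.1 * X β.1 - X (W4bk4grassmannian.sup α.1 β.1) * X (W4bk4grassmannian.inf α.1 β.1) = _
        ring
      rw [hsplit, map_add, mkB_top_eq_zero K hd w _ hmem, add_zero]
      have hle2 : Submodule.span K {f : PlRing K d n | ∃ α' β' : Idx d n,
          β' ≤ α' ∧ W4bk4grassmannian.sup α.1 β.1 < α' ∧ β' < W4bk4grassmannian.inf α.1 β.1 ∧
          wt α' + wt β' = wt α.1 + wt β.1 ∧
          (expo α'.1 + expo β'.1) ≺[MonomialOrder.lex] (expo α.1.1 + expo β.1.1) ∧ f = X α' * X β'} ≤
          ((reesData K hd w omH (pairHyp_H K hd hdn)).Fil (omH α.1 + omH β.1 - 1)).comap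
            (Ideal.Quotient.mkₐ K (schubertVanishing K d n w)).toLinearMap := by
        rw [Submodule.span_le]
        rintro _ ⟨α', β', _, _, _, _, hlex, rfl⟩
        rw [SetLike.mem_coe, Submodule.mem_comap]
        show Ideal.Quotient.mk (schubertVanishing K d n w) (X α' * X β') ∈ _
        apply mkB_pair_mem K hd w omH (pairHyp_H K hd hdn)
        have := omH_lt hlex
        omega
      exact hle2 hg
  have := hle hf
  rw [RingHom.mem_ker] at this
  exact this

lemma sum_eq_add {m : ℕ} (f : Fin m → ℕ) (k l : Fin m) (hkl : k ≠ l) :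
    ∑ j, f j = f k + f l + ∑ j ∈ (Finset.univ.erase k).erase l, f j := by
  rw [← Finset.add_sum_erase _ _ (Finset.mem_univ k),
    ← Finset.add_sum_erase _ _ (Finset.mem_erase.mpr ⟨hkl.symm, Finset.mem_univ l⟩), add_assoc]

theorem span_mT_H :
    Submodule.span K (Set.range fun c : StdW w => Ideal.Quotient.mk (hibiIdeal K w) (mT K w c)) = ⊤ := by
  rw [eq_top_iff]
  intro y _
  obtain ⟨f, rfl⟩ := Ideal.Quotient.mk_surjective y
  have hf : f ∈ Submodule.span K {f : MvPolynomial (Below w) K |
      ∃ (m : ℕ) (θ : Fin m → Below w), f = seqMon K θ} := by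
    rw [span_seqMon]; trivial
  have : (Ideal.Quotient.mkₐ K (hibiIdeal K w)).toLinearMap f ∈
      Submodule.map (Ideal.Quotient.mkₐ K (hibiIdeal K w)).toLinearMap
      (Submodule.span K {f : MvPolynomial (Below w) K |
      ∃ (m : ℕ) (θ : Fin m → Below w), f = seqMon K θ}) := ⟨f, hf, rfl⟩
  rw [Submodule.map_span] at this
  refine (Submodule.span_le.mpr ?_) this
  rintro _ ⟨_, ⟨m, θ, rfl⟩, rfl⟩
  show Ideal.Quotient.mk (hibiIdeal K w) (seqMon K θ) ∈ _
  -- induction on the defect of the sum of squares of the weights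
  have hbound : ∀ θ : Fin m → Below w, ∑ k, (wt (θ k).1) ^ 2 ≤ m * (n * d) ^ 2 := by
    intro θ
    calc ∑ k, (wt (θ k).1) ^ 2 ≤ ∑ _k : Fin m, (n * d) ^ 2 :=
          Finset.sum_le_sum fun k _ => Nat.pow_le_pow_left (wt_le _) 2
      _ = m * (n * d) ^ 2 := by
          rw [Finset.sum_const, Finset.card_univ, Fintype.card_fin, smul_eq_mul]
  induction hN : m * (n * d) ^ 2 - ∑ k, (wt (θ k).1) ^ 2 using Nat.strong_induction_on
    generalizing θ with
  | _ N ih =>
    by_cases hcomp : ∀ k l, (θ k).1 ≤ (θ l).1 ∨ (θ l).1 ≤ (θ k).1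
    · obtain ⟨σ, hσ⟩ := exists_perm_antitone (fun k => (θ k).1) hcomp
      apply Submodule.subset_span
      refine ⟨⟨m, fun k => (θ (σ k)).1, hσ, fun k => (θ (σ k)).2⟩, ?_⟩
      show Ideal.Quotient.mk (hibiIdeal K w) (mT K w _) = _
      congr 1
      rw [← seqMon_perm K θ σ]
      rfl
    · push Not at hcomp
      obtain ⟨k, l, h1, h2⟩ := hcomp
      have hkl : k ≠ l := by
        intro h
        apply h1
        rw [h]
      set θ' : Fin m → Below w := Function.update (Function.update θ k (Below.sup (θ k) (θ l))) l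
        (Below.inf (θ k) (θ l)) with hθ'
      have hk' : θ' k = Below.sup (θ k) (θ l) := by
        rw [hθ', Function.update_of_ne hkl, Function.update_self]
      have hl' : θ' l = Below.inf (θ k) (θ l) := by
        rw [hθ', Function.update_self]
      have hj' : ∀ j ∈ (Finset.univ.erase k).erase l, θ' j = θ j := by
        intro j hj
        rw [Finset.mem_erase, Finset.mem_erase] at hj
        rw [hθ', Function.update_of_ne hj.1, Function.update_of_ne hj.2.1]
      have hmk : Ideal.Quotient.mk (hibiIdeal K w) (seqMon K θ) =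
          Ideal.Quotient.mk (hibiIdeal K w) (seqMon K θ') := by
        rw [← sub_eq_zero, ← map_sub, Ideal.Quotient.eq_zero_iff_mem,
          seqMon_eq_mul K θ k l hkl, seqMon_eq_mul K θ' k l hkl, hk', hl',
          Finset.prod_congr rfl (fun j hj => by rw [hj' j hj] :
            ∀ j ∈ (Finset.univ.erase k).erase l, (X (θ' j) : MvPolynomial (Below w) K) = X (θ j)),
          ← sub_mul]
        apply Ideal.mul_mem_right
        exact Ideal.subset_span ⟨θ k, θ l, rfl⟩
      rw [hmk]
      have hMα : (θ k).1 < W4bk4grassmannian.sup (θ k).1 (θ l).1 := by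
        refine lt_of_le_of_ne (le_sup_left' _ _) ?_
        intro h
        apply h2
        rw [h]
        exact le_sup_right' _ _
      have hMβ : (θ l).1 < W4bk4grassmannian.sup (θ k).1 (θ l).1 := by
        refine lt_of_le_of_ne (le_sup_right' _ _) ?_
        intro h
        apply h1
        rw [h]
        exact le_sup_left' _ _
      have hsq := sq_spread_lt (wt_lt_of_lt hMα) (wt_lt_of_lt hMβ) (wt_sup_inf (θ k).1 (θ l).1)
      have hQ : ∑ j, (wt (θ j).1) ^ 2 < ∑ j, (wt (θ' j).1) ^ 2 := by
        rw [sum_eq_add (fun j => (wt (θ j).1) ^ 2) k l hkl,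
          sum_eq_add (fun j => (wt (θ' j).1) ^ 2) k l hkl]
        rw [hk', hl', Finset.sum_congr rfl (fun j hj => by rw [hj' j hj] :
          ∀ j ∈ (Finset.univ.erase k).erase l, (wt (θ' j).1) ^ 2 = (wt (θ j).1) ^ 2)]
        show _ < (wt (W4bk4grassmannian.sup (θ k).1 (θ l).1)) ^ 2 +
          (wt (W4bk4grassmannian.inf (θ k).1 (θ l).1)) ^ 2 + _
        omega
      have hb := hbound θ'
      exact ih _ (by omega) θ' rfl

include hd hdn in
/-- Toric degeneration of the cone over a Schubert variety to the Hibi ring of `H(w)`. -/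
theorem hibi_degeneration :
    ∃ (R : Type u) (_ : CommRing R) (_ : Algebra K R) (_ : Algebra (Polynomial K) R)
      (_ : IsScalarTower K (Polynomial K) R),
      Module.Free (Polynomial K) R ∧
      Nonempty ((R ⧸ Ideal.span {algebraMap (Polynomial K) R Polynomial.X}) ≃ₐ[K]
        (MvPolynomial (Below w) K ⧸ hibiIdeal K w)) ∧
      ∀ c : K, c ≠ 0 →
        Nonempty ((R ⧸ Ideal.span {algebraMap (Polynomial K) R (Polynomial.X - Polynomial.C c)}) ≃ₐ[K]
          (PlRing K d n ⧸ schubertVanishing K d n w)) :=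
  ⟨(reesData K hd w omH (pairHyp_H K hd hdn)).R, inferInstance, inferInstance, inferInstance,
    inferInstance, (reesData K hd w omH (pairHyp_H K hd hdn)).free,
    degen_iso K hd w omH (pairHyp_H K hd hdn) (hibiIdeal K w) (psi_kill_H K hd hdn w)
      (span_mT_H K w),
    fun c hc => ⟨(reesData K hd w omH (pairHyp_H K hd hdn)).fibreEquiv c hc⟩⟩

end Groth.Agent.Lib.Helper6.Gr

end
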