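import Groth.Agent.Lib.Helper6.Grass.Lead

/-!
# Grassmannian: linear independence of standard monomials (helper6)
-/

open scoped Classical
set_option linter.unusedSectionVars false
set_option autoImplicit false

universe u v

noncomputable section

namespace Groth.Agent.Lib.Helper6.Gr

open W4bk4grassmannian MvPolynomial
open scoped MonomialOrder

/-- Monic polynomials with pairwise distinct degrees are linearly independent. -/
theorem linearIndependent_of_monic {σ : Type*} (m : MonomialOrder σ) {K : Type*} [CommRing K]
    {ι : Type*} (f : ι → MvPolynomial σ K) (hmonic : ∀ i, m.Monic (f i))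
    (hinj : Function.Injective fun i => m.degree (f i)) : LinearIndependent K f := by
  rw [linearIndependent_iff']
  intro s g hsum i hi
  by_contra hne
  set s' := s.filter (fun i => g i ≠ 0) with hs'
  have hne' : s'.Nonempty := ⟨i, by simp [hs', hi, hne]⟩
  obtain ⟨i0, hi0, hmax⟩ := Finset.exists_max_image s' (fun i => m.toSyn (m.degree (f i))) hne'
  have hi0s : i0 ∈ s := (Finset.mem_filter.mp hi0).1
  have hg0 : g i0 ≠ 0 := (Finset.mem_filter.mp hi0).2
  have hc := congrArg (coeff (m.degree (f i0))) hsum
  rw [coeff_sum, coeff_zero] at hc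
  rw [Finset.sum_eq_single i0] at hc
  · rw [coeff_smul, (hmonic i0).coeff_degree, smul_eq_mul, mul_one] at hc
    exact hg0 hc
  · intro j hj hji
    rw [coeff_smul]
    by_cases hgj : g j = 0
    · rw [hgj, zero_smul]
    · have hj' : j ∈ s' := by simp [hs', hj, hgj]
      have hle := hmax j hj'
      have hlt : m.toSyn (m.degree (f j)) < m.toSyn (m.degree (f i0)) := by
        refine lt_of_le_of_ne hle ?_
        intro heq
        exact hji (hinj (m.toSyn.injective heq))
      rw [m.coeff_eq_zero_of_lt hlt, smul_zero]
  · intro h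
    exact absurd hi0s h

variable {d n : ℕ}

lemma chainExpo_apply {m : ℕ} (c : Fin m → Idx d n) (t : Fin d) (s : Fin n) :
    chainExpo c (toLex (t, s)) = (Finset.univ.filter fun k => (c k).1 t = s).card := by
  unfold chainExpo
  rw [Finsupp.finsetSum_apply, Finset.card_filter]
  apply Finset.sum_congr rfl
  intro k _
  exact expo_apply _ t s

lemma card_ge_eq {m : ℕ} (c : Fin m → Idx d n) (t : Fin d) (a : Fin n) :
    (Finset.univ.filter fun k => a ≤ (c k).1 t).card =
      ∑ s ∈ Finset.Ici a, chainExpo c (toLex (t, s)) := by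
  simp_rw [chainExpo_apply, Finset.card_filter]
  rw [Finset.sum_comm]
  apply Finset.sum_congr rfl
  intro k _
  rw [Finset.sum_ite_eq]
  simp only [Finset.mem_Ici]

lemma card_eq_sum {m : ℕ} (c : Fin m → Idx d n) (t : Fin d) :
    m = ∑ s : Fin n, chainExpo c (toLex (t, s)) := by
  simp_rw [chainExpo_apply, Finset.card_filter]
  rw [Finset.sum_comm]
  simp

/-- The exponent of an antitone chain determines the chain. -/
theorem chainExpo_inj (hd : 0 < d) {m m' : ℕ} (c : Fin m → Idx d n) (c' : Fin m' → Idx d n)
    (hc : Antitone c) (hc' : Antitone c') (h : chainExpo c = chainExpo c') :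
    (⟨m, c⟩ : Σ m : ℕ, Fin m → Idx d n) = ⟨m', c'⟩ := by
  have hm : m = m' := by
    rw [card_eq_sum c ⟨0, hd⟩, card_eq_sum c' ⟨0, hd⟩, h]
  subst hm
  congr 1
  funext k
  apply idx_ext
  intro t
  have hf : Antitone fun k => (c k).1 t := fun x y hxy => hc hxy t
  have hf' : Antitone fun k => (c' k).1 t := fun x y hxy => hc' hxy t
  have key : ∀ a : Fin n, a ≤ (c k).1 t ↔ a ≤ (c' k).1 t := by
    intro a
    rw [← Tuple.lt_card_ge_iff_apply_ge_of_antitone hf (j := k) (a := a),
      ← Tuple.lt_card_ge_iff_apply_ge_of_antitone hf' (j := k) (a := a)]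
    have e1 := card_ge_eq c t a
    have e2 := card_ge_eq c' t a
    rw [h] at e1
    have : (Finset.univ.filter fun k => a ≤ (c k).1 t).card =
        (Finset.univ.filter fun k => a ≤ (c' k).1 t).card := e1.trans e2.symm
    constructor
    · intro hlt
      convert hlt using 1
      exact this.symm
    · intro hlt
      convert hlt using 1
  exact le_antisymm ((key _).mp (le_refl _)) ((key _).mpr (le_refl _))

variable (K : Type u) [CommRing K] [Nontrivial K]

/-- Linear independence of the images of the standard monomials on `X(τ)` under `phi τ`. -/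
theorem linearIndependent_phi (hd : 0 < d) (τ : Idx d n) :
    LinearIndependent K (fun c : (Σ m : ℕ, {c : Fin m → Idx d n // Antitone c ∧ ∀ k, c k ≤ τ}) =>
      phi K τ (chainMon K c.2.1)) := by
  apply linearIndependent_of_monic MonomialOrder.lex
  · intro c
    exact (phi_chainMon_monic K hd τ c.2.1 c.2.2.2).1
  · intro c c' h
    simp only at h
    rw [(phi_chainMon_monic K hd τ c.2.1 c.2.2.2).2, (phi_chainMon_monic K hd τ c'.2.1 c'.2.2.2).2] at h
    have := chainExpo_inj hd c.2.1 c'.2.1 c.2.2.1 c'.2.2.1 h
    obtain ⟨m, c, hc⟩ := c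
    obtain ⟨m', c', hc'⟩ := c'
    simp only at this
    have hm : m = m' := congrArg Sigma.fst this
    subst hm
    have hcc : c = c' := eq_of_heq (Sigma.mk.inj this).2
    subst hcc
    rfl

/-- General index version of `linearIndependent_phi`. -/
theorem linearIndependent_phi' (hd : 0 < d) (τ : Idx d n) {ι : Type*}
    (c : ι → Σ m : ℕ, Fin m → Idx d n) (hinj : Function.Injective c)
    (hanti : ∀ i, Antitone (c i).2) (hle : ∀ i k, (c i).2 k ≤ τ) :
    LinearIndependent K (fun i : ι => phi K τ (chainMon K (c i).2)) := by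
  apply linearIndependent_of_monic MonomialOrder.lex
  · intro i
    exact (phi_chainMon_monic K hd τ (c i).2 (hle i)).1
  · intro i i' h
    simp only at h
    rw [(phi_chainMon_monic K hd τ (c i).2 (hle i)).2,
      (phi_chainMon_monic K hd τ (c i').2 (hle i')).2] at h
    have := chainExpo_inj hd (c i).2 (c i').2 (hanti i) (hanti i') h
    exact hinj this

end Groth.Agent.Lib.Helper6.Gr

end
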