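import Groth.Agent.Lib.Helper6.Grass.Plucker

/-!
# Grassmannian: leading terms of minors of echelon generic matrices (helper6)
-/

open scoped Classical
set_option linter.unusedSectionVars false
set_option autoImplicit false

universe u v

noncomputable section

namespace Groth.Agent.Lib.Helper6.Gr

open W4bk4grassmannian MvPolynomial
open scoped MonomialOrder

variable {d n : ℕ}

/-- Variables `x_{s,t}`, ordered by column `t` first and then by row `s`. -/
abbrev Var (d n : ℕ) : Type := Lex (Fin d × Fin n)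

/-- The exponent vector `∑_t e_{(t, f t)}`. -/
def expo (f : Fin d → Fin n) : Var d n →₀ ℕ := ∑ t, Finsupp.single (toLex (t, f t)) 1

lemma expo_apply (f : Fin d → Fin n) (t : Fin d) (s : Fin n) :
    expo f (toLex (t, s)) = if f t = s then 1 else 0 := by
  unfold expo
  rw [Finsupp.finsetSum_apply]
  rw [Finset.sum_eq_single t]
  · rw [Finsupp.single_apply]
    by_cases h : f t = s
    · rw [if_pos h, if_pos (by rw [h])]
    · rw [if_neg h, if_neg]
      intro heq
      apply h
      have := toLex.injective heq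
      exact (Prod.ext_iff.mp this).2
  · intro t' _ hne
    rw [Finsupp.single_apply, if_neg]
    intro heq
    apply hne
    have := toLex.injective heq
    exact (Prod.ext_iff.mp this).1
  · intro h
    exact absurd (Finset.mem_univ t) h

/-- Lex comparison of a permuted diagonal with the diagonal. -/
lemma expo_perm_lt (θ : Idx d n) (σ : Equiv.Perm (Fin d)) (hσ : σ ≠ 1) :
    (toLex (expo (θ.1 ∘ σ)) : Lex (Var d n →₀ ℕ)) < toLex (expo θ.1) := by
  have hex : ∃ t, σ t ≠ t := by
    by_contra hcon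
    push Not at hcon
    exact hσ (Equiv.ext hcon)
  set S := Finset.univ.filter (fun t : Fin d => σ t ≠ t) with hS
  have hne : S.Nonempty := by
    obtain ⟨t, ht⟩ := hex
    exact ⟨t, by simp [hS, ht]⟩
  set t0 := S.min' hne with ht0
  have hfix : ∀ t, t < t0 → σ t = t := by
    intro t ht
    by_contra hcon
    have : t ∈ S := by simp [hS, hcon]
    exact absurd (Finset.min'_le S t this) (not_le.mpr ht)
  have hmov : σ t0 ≠ t0 := by
    have := Finset.min'_mem S hne
    simp only [hS, Finset.mem_filter, Finset.mem_univ, true_and] at this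
    exact this
  have hgt : t0 < σ t0 := by
    rcases lt_trichotomy (σ t0) t0 with h | h | h
    · exact absurd (σ.injective (hfix _ h)) hmov
    · exact absurd h hmov
    · exact h
  rw [Finsupp.Lex.lt_iff]
  refine ⟨toLex (t0, θ.1 t0), ?_, ?_⟩
  · intro j hj
    obtain ⟨⟨t, s⟩, rfl⟩ := toLex.surjective j
    rw [Prod.Lex.toLex_lt_toLex] at hj
    show expo (θ.1 ∘ σ) (toLex (t, s)) = expo θ.1 (toLex (t, s))
    rw [expo_apply, expo_apply]
    rcases hj with h | ⟨h1, h2⟩
    · simp only at h
      rw [Function.comp_apply, hfix t h]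
    · simp only at h1 h2
      subst h1
      rw [if_neg, if_neg]
      · exact ne_of_gt h2
      · rw [Function.comp_apply]
        exact ne_of_gt (lt_trans h2 (θ.2 hgt))
  · show expo (θ.1 ∘ σ) (toLex (t0, θ.1 t0)) < expo θ.1 (toLex (t0, θ.1 t0))
    rw [expo_apply, expo_apply, if_pos rfl, if_neg]
    · exact Nat.zero_lt_one
    · rw [Function.comp_apply]
      intro heq
      exact hmov (θ.2.injective heq)

variable (K : Type u) [CommRing K]

/-- The echelon generic matrix of `τ`: `x_{s,t}` for `s ≤ τ_t`, zero below. -/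
def Lmat (τ : Idx d n) : Matrix (Fin n) (Fin d) (MvPolynomial (Var d n) K) :=
  Matrix.of fun s t => if s ≤ τ.1 t then X (toLex (t, s)) else 0

/-- The comorphism `X_θ ↦` minor of the echelon generic matrix. -/
def phi (τ : Idx d n) : PlRing K d n →ₐ[K] MvPolynomial (Var d n) K := evalAt K (Lmat K τ)

lemma prod_diag (τ θ : Idx d n) (σ : Equiv.Perm (Fin d)) (h : ∀ t, θ.1 (σ t) ≤ τ.1 t) :
    ∏ t, (Lmat K τ).submatrix θ.1 id (σ t) t = monomial (expo (θ.1 ∘ σ)) 1 := by
  unfold expo
  rw [monomial_sum_one]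
  apply Finset.prod_congr rfl
  intro t _
  simp only [Lmat, Matrix.submatrix_apply, Matrix.of_apply, id_eq, Function.comp_apply]
  rw [if_pos (h t)]
  rfl

lemma prod_diag_zero (τ θ : Idx d n) (σ : Equiv.Perm (Fin d)) (h : ¬ ∀ t, θ.1 (σ t) ≤ τ.1 t) :
    ∏ t, (Lmat K τ).submatrix θ.1 id (σ t) t = 0 := by
  push Not at h
  obtain ⟨t, ht⟩ := h
  apply Finset.prod_eq_zero (Finset.mem_univ t)
  simp only [Lmat, Matrix.submatrix_apply, Matrix.of_apply, id_eq]
  rw [if_neg (not_le.mpr ht)]

/-- `phi τ (X θ)` is the diagonal monomial plus lex-smaller terms. -/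
lemma phi_X_eq (τ θ : Idx d n) (hθ : θ ≤ τ) :
    ∃ g : MvPolynomial (Var d n) K, phi K τ (X θ) = monomial (expo θ.1) 1 + g ∧
      ∀ c ∈ g.support, c ≺[MonomialOrder.lex] expo θ.1 := by
  refine ⟨∑ σ ∈ Finset.univ.erase (1 : Equiv.Perm (Fin d)),
    ((Equiv.Perm.sign σ : ℤ) : MvPolynomial (Var d n) K) * ∏ t, (Lmat K τ).submatrix θ.1 id (σ t) t, ?_, ?_⟩
  · unfold phi
    rw [evalAt_X]
    unfold pM
    rw [Matrix.det_apply', ← Finset.add_sum_erase _ _ (Finset.mem_univ (1 : Equiv.Perm (Fin d)))]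
    congr 1
    rw [Equiv.Perm.sign_one]
    have := prod_diag K τ θ 1 (fun t => hθ t)
    simp only [Equiv.Perm.coe_one, id_eq, Function.comp_id] at this
    simp only [Equiv.Perm.coe_one, id_eq, Units.val_one, Int.cast_one, one_mul]
    exact this
  · intro c hc
    have := MvPolynomial.support_sum hc
    rw [Finset.mem_biUnion] at this
    obtain ⟨σ, hσ, hcσ⟩ := this
    have hσ1 : σ ≠ 1 := Finset.ne_of_mem_erase hσ
    by_cases h : ∀ t, θ.1 (σ t) ≤ τ.1 t
    · rw [prod_diag K τ θ σ h] at hcσ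
      have e : ((Equiv.Perm.sign σ : ℤ) : MvPolynomial (Var d n) K) =
          C ((Equiv.Perm.sign σ : ℤ) : K) := by
        rw [map_intCast]
      rw [e, C_mul_monomial] at hcσ
      have := support_monomial_subset hcσ
      rw [Finset.mem_singleton] at this
      rw [this, MonomialOrder.lex_lt_iff]
      exact expo_perm_lt θ σ hσ1
    · rw [prod_diag_zero K τ θ σ h, mul_zero] at hcσ
      simp at hcσ

lemma expo_ne_zero (hd : 0 < d) (f : Fin d → Fin n) : expo f ≠ 0 := by
  intro h
  have := expo_apply f ⟨0, hd⟩ (f ⟨0, hd⟩)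
  rw [h, if_pos rfl] at this
  simp at this

variable [Nontrivial K]

lemma phi_X_monic (hd : 0 < d) (τ θ : Idx d n) (hθ : θ ≤ τ) :
    (MonomialOrder.lex).Monic (phi K τ (X θ)) ∧
      (MonomialOrder.lex).degree (phi K τ (X θ)) = expo θ.1 := by
  obtain ⟨g, hg1, hg2⟩ := phi_X_eq K τ θ hθ
  have hdeg : (MonomialOrder.lex).degree (monomial (expo θ.1) (1 : K)) = expo θ.1 := by
    rw [MonomialOrder.degree_monomial, if_neg one_ne_zero]
  have hpos : (0 : Var d n →₀ ℕ) ≺[MonomialOrder.lex] expo θ.1 := by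
    have h0 : (MonomialOrder.lex).toSyn (0 : Var d n →₀ ℕ) = 0 := map_zero _
    rw [h0]
    rw [MonomialOrder.toSyn_lt_iff_ne_zero]
    intro h
    exact expo_ne_zero hd θ.1 ((MonomialOrder.lex).toSyn_eq_zero_iff _ |>.mp h)
  have hlt : (MonomialOrder.lex).degree g ≺[MonomialOrder.lex]
      (MonomialOrder.lex).degree (monomial (expo θ.1) (1 : K)) := by
    rw [hdeg, MonomialOrder.degree_lt_iff hpos]
    exact hg2
  rw [hg1]
  refine ⟨MonomialOrder.Monic.add_of_lt MonomialOrder.monic_monomial_one hlt, ?_⟩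
  rw [MonomialOrder.degree_add_of_lt hlt, hdeg]

/-- Exponent of a chain. -/
def chainExpo {m : ℕ} (c : Fin m → Idx d n) : Var d n →₀ ℕ := ∑ k, expo (c k).1

lemma phi_chainMon_monic (hd : 0 < d) (τ : Idx d n) {m : ℕ} (c : Fin m → Idx d n)
    (hc : ∀ k, c k ≤ τ) :
    (MonomialOrder.lex).Monic (phi K τ (chainMon K c)) ∧
      (MonomialOrder.lex).degree (phi K τ (chainMon K c)) = chainExpo c := by
  unfold chainMon chainExpo
  rw [map_prod]
  refine ⟨MonomialOrder.Monic.prod fun k _ => (phi_X_monic K hd τ (c k) (hc k)).1, ?_⟩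
  rw [MonomialOrder.degree_prod_of_regular]
  · apply Finset.sum_congr rfl
    intro k _
    exact (phi_X_monic K hd τ (c k) (hc k)).2
  · intro k _
    rw [(phi_X_monic K hd τ (c k) (hc k)).1.leadingCoeff_eq_one]
    exact isRegular_one

end Groth.Agent.Lib.Helper6.Gr

end
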