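import Groth.Agent.Lib.Helper6.Grass.Shuffle

/-!
# Grassmannian: evaluation of signed Plücker coordinates at minors (helper6)
-/

open scoped Classical
set_option linter.unusedSectionVars false
set_option autoImplicit false

universe u v

noncomputable section

namespace Groth.Agent.Lib.Helper6.Gr

open W4bk4grassmannian MvPolynomial

variable {d n : ℕ}

theorem sign_eq_signAux (σ : Equiv.Perm (Fin d)) :
    Equiv.Perm.sign σ = Equiv.Perm.signAux σ := by
  have key : ∀ (s : Multiset (Fin d)) (hs : ∀ x, x ∈ s),
      Equiv.Perm.signAux3 σ hs = Equiv.Perm.signAux σ := by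
    intro s
    induction s using Quotient.inductionOn with
    | _ l =>
      intro hs
      show Equiv.Perm.signAux2 l σ = _
      rw [← Equiv.Perm.signAux_eq_signAux2 l σ (Equiv.refl _) (fun x _ => hs x)]
      rfl
  have h2 : Equiv.Perm.sign σ = Equiv.Perm.signAux3 σ (s := Finset.univ.val) Finset.mem_univ := rfl
  rw [h2]
  exact key _ _

/-- Inversions of a permutation of `Fin d`. -/
def invSet (σ : Fin d → Fin d) : Finset (Fin d × Fin d) :=
  Finset.univ.filter fun p : Fin d × Fin d => p.1 < p.2 ∧ σ p.2 < σ p.1

theorem signAux_eq_pow (σ : Equiv.Perm (Fin d)) :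
    Equiv.Perm.signAux σ = (-1 : ℤˣ) ^ (invSet σ).card := by
  unfold Equiv.Perm.signAux
  rw [Finset.prod_ite, Finset.prod_const_one, mul_one, Finset.prod_const]
  congr 1
  apply Finset.card_nbij' (fun x => (x.2, x.1)) (fun p => ⟨p.2, p.1⟩)
  · intro x hx
    simp only [Finset.coe_filter, Set.mem_ofPred_eq] at hx
    have h1 := Equiv.Perm.mem_finPairsLT.mp hx.1
    simp only [invSet, Finset.coe_filter, Finset.mem_univ, true_and, Set.mem_ofPred_eq]
    refine ⟨h1, lt_of_le_of_ne hx.2 ?_⟩
    intro heq
    exact absurd (σ.injective heq) (ne_of_gt h1)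
  · intro p hp
    simp only [invSet, Finset.coe_filter, Finset.mem_univ, true_and, Set.mem_ofPred_eq] at hp
    simp only [Finset.coe_filter, Set.mem_ofPred_eq]
    exact ⟨Equiv.Perm.mem_finPairsLT.mpr hp.1, le_of_lt hp.2⟩
  · intro x _; rfl
  · intro p _; rfl

/-- The sorting permutation of an injective tuple. -/
def sortPerm (a : Fin d → Fin n) (h : (Finset.univ.image a).card = d) : Equiv.Perm (Fin d) :=
  Equiv.ofBijective
    (fun t => ((Finset.univ.image a).orderIsoOfFin h).symm ⟨a t, by simp⟩)
    (Finite.injective_iff_bijective.mp (by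
      intro t t' htt
      have := ((Finset.univ.image a).orderIsoOfFin h).symm.injective htt
      exact inj_of_card_image a h (Subtype.ext_iff.mp this)))

lemma sortIdx_sortPerm (a : Fin d → Fin n) (h : (Finset.univ.image a).card = d) (t : Fin d) :
    (sortIdx d n a h).1 (sortPerm a h t) = a t := by
  rw [sortIdx_apply, ← Finset.coe_orderIsoOfFin_apply]
  unfold sortPerm
  simp

lemma invCount_eq (a : Fin d → Fin n) (h : (Finset.univ.image a).card = d) :
    invCount d n a = (invSet (sortPerm a h)).card := by
  unfold invCount invSet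
  congr 1
  ext p
  simp only [Finset.mem_filter, Finset.mem_univ, true_and]
  rw [← sortIdx_sortPerm a h p.1, ← sortIdx_sortPerm a h p.2]
  rw [(sortIdx d n a h).2.lt_iff_lt]

variable {R : Type v} [CommRing R]

/-- The `d × d` minor of `M` on the rows `a` (in the given order). -/
def pM (M : Matrix (Fin n) (Fin d) R) (a : Fin d → Fin n) : R := (M.submatrix a id).det

lemma pM_of_not_inj (M : Matrix (Fin n) (Fin d) R) (a : Fin d → Fin n)
    (h : ¬ (Finset.univ.image a).card = d) : pM M a = 0 := by
  have hni : ¬ Function.Injective a := fun hi => h (card_image_of_inj a hi)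
  rw [Function.Injective] at hni
  push Not at hni
  obtain ⟨t, t', htt, hne⟩ := hni
  unfold pM
  apply Matrix.det_zero_of_row_eq hne
  funext c
  simp [Matrix.submatrix_apply, htt]

lemma pM_eq_sort (M : Matrix (Fin n) (Fin d) R) (a : Fin d → Fin n)
    (h : (Finset.univ.image a).card = d) :
    pM M a = (-1) ^ invCount d n a * pM M (sortIdx d n a h).1 := by
  unfold pM
  have e : M.submatrix a id = (M.submatrix (sortIdx d n a h).1 id).submatrix (sortPerm a h) id := by
    ext s t
    simp only [Matrix.submatrix_apply, id_eq]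
    rw [sortIdx_sortPerm]
  rw [e, Matrix.det_permute, sign_eq_signAux, signAux_eq_pow, invCount_eq a h]
  congr 1
  simp

variable (K : Type u) [CommRing K] [Algebra K R]

/-- Evaluation of Plücker polynomials at the minors of a matrix over a `K`-algebra. -/
def evalAt (M : Matrix (Fin n) (Fin d) R) : PlRing K d n →ₐ[K] R :=
  MvPolynomial.aeval fun θ : Idx d n => pM M θ.1

lemma evalAt_X (M : Matrix (Fin n) (Fin d) R) (θ : Idx d n) : evalAt K M (X θ) = pM M θ.1 := by
  unfold evalAt
  rw [aeval_X]

/-- The signed coordinate of any tuple evaluates to the minor on that tuple. -/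
lemma evalAt_coord (M : Matrix (Fin n) (Fin d) R) (a : Fin d → Fin n) :
    evalAt K M (coord K d n a) = pM M a := by
  unfold coord
  by_cases h : (Finset.univ.image a).card = d
  · rw [dif_pos h, map_mul, map_pow, map_neg, map_one, evalAt_X, pM_eq_sort M a h]
  · rw [dif_neg h, map_zero, pM_of_not_inj M a h]

lemma evalMinors_eq_evalAt (A : Matrix (Fin n) (Fin d) K) : evalMinors K d n A = evalAt K A := rfl

end Groth.Agent.Lib.Helper6.Gr

end
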