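import Mathlib.RingTheory.UniqueFactorizationDomain.Basic
import Mathlib.RingTheory.UniqueFactorizationDomain.Multiplicity
import Mathlib.Algebra.GroupWithZero.Associated
import Mathlib.Algebra.Ring.Hom.Defs
import Mathlib.RingTheory.Ideal.Defs

/-!
# Nagata's criterion, embedding form (helper6)

`R ⊆ A` domains, `A` a UFD, `x ∈ R` prime in `R` and in `A`, `A[1/x] = R[1/x]`, `R` has
well-founded divisibility.  Then `R` is a UFD.
-/

open scoped Classical
set_option linter.unusedSectionVars false
set_option autoImplicit false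

noncomputable section

namespace Groth.Agent.Lib.Helper6.Gr

/-- Comparing prime powers. -/
lemma pow_cancel_of_not_dvd {R : Type*} [CommRing R] [IsDomain R] {x a b : R} (hx : Prime x)
    (ha : ¬ x ∣ a) (hb : ¬ x ∣ b) {m m' : ℕ} (h : a * x ^ m = x ^ m' * b) : m = m' ∧ a = b := by
  have hx0 : x ≠ 0 := hx.ne_zero
  rcases lt_trichotomy m m' with hlt | heq | hgt
  · exfalso
    apply ha
    obtain ⟨k, rfl⟩ := Nat.exists_eq_add_of_lt hlt
    have : a * x ^ m = x ^ m * (x ^ (k + 1) * b) := by rw [h]; ring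
    rw [mul_comm a] at this
    have h2 := mul_left_cancel₀ (pow_ne_zero m hx0) this
    rw [h2]
    exact ⟨x ^ k * b, by ring⟩
  · refine ⟨heq, ?_⟩
    rw [heq, mul_comm] at h
    exact mul_left_cancel₀ (pow_ne_zero m' hx0) h
  · exfalso
    apply hb
    obtain ⟨k, rfl⟩ := Nat.exists_eq_add_of_lt hgt
    have : x ^ m' * b = x ^ m' * (x ^ (k + 1) * a) := by rw [← h]; ring
    have h2 := mul_left_cancel₀ (pow_ne_zero m' hx0) this
    rw [h2]
    exact ⟨x ^ k * a, by ring⟩

theorem ufd_of_embedding {R A : Type*} [CommRing R] [IsDomain R] [WfDvdMonoid R]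
    [CommRing A] [IsDomain A] [UniqueFactorizationMonoid A]
    (f : R →+* A) (hf : Function.Injective f) (x : R) (hx : Prime x) (hy : Prime (f x))
    (hgen : ∀ a : A, ∃ (k : ℕ) (r : R), a * f x ^ k = f r) :
    UniqueFactorizationMonoid R := by
  refine { ‹WfDvdMonoid R› with irreducible_iff_prime := ?_ }
  intro q
  refine ⟨fun hq => ?_, Prime.irreducible⟩
  by_cases hxq : x ∣ q
  · obtain ⟨u, rfl⟩ := hxq
    have hu : IsUnit u := (hq.isUnit_or_isUnit rfl).resolve_left hx.not_isUnit
    obtain ⟨u, rfl⟩ := hu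
    exact (associated_mul_unit_right x u u.isUnit).prime hx
  have hq0 : q ≠ 0 := hq.ne_zero
  have hfq0 : f q ≠ 0 := fun h => hq0 (hf (by rw [h, map_zero]))
  have hy0 : f x ≠ 0 := hy.ne_zero
  obtain ⟨e, q', hyq', hfq⟩ := WfDvdMonoid.max_power_factor' hfq0 hy.not_isUnit
  have hq'0 : q' ≠ 0 := by
    rintro rfl
    rw [mul_zero] at hfq
    exact hfq0 hfq
  -- lifting divisibility
  have lift_dvd : ∀ a : R, q' ∣ f a → q ∣ a := by
    intro a ha
    obtain ⟨c, hc⟩ := ha
    obtain ⟨k, r, hkr⟩ := hgen c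
    have h1 : a * x ^ (e + k) = q * r := by
      apply hf
      rw [map_mul, map_mul, map_pow, hc, hfq, ← hkr]
      ring
    have h2 : x ^ (e + k) ∣ r := by
      apply hx.pow_dvd_of_dvd_mul_left (e + k) hxq
      rw [← h1]
      exact Dvd.intro_left _ rfl
    obtain ⟨r', rfl⟩ := h2
    refine ⟨r', ?_⟩
    have h3 : x ^ (e + k) * a = x ^ (e + k) * (q * r') := by rw [mul_comm, h1]; ring
    exact mul_left_cancel₀ (pow_ne_zero _ hx.ne_zero) h3
  -- a divisor of a power of `y` not divisible by `y` is a unit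
  have unit_of_dvd_pow : ∀ (b : A) (i : ℕ), b ∣ f x ^ i → ¬ f x ∣ b → IsUnit b := by
    intro b i hb hnb
    obtain ⟨i', _, hass⟩ := (dvd_prime_pow hy i).mp hb
    rcases Nat.eq_zero_or_pos i' with h0 | hpos
    · rw [h0, pow_zero] at hass
      exact associated_one_iff_isUnit.mp hass
    · exfalso
      apply hnb
      exact (dvd_pow_self (f x) (Nat.pos_iff_ne_zero.mp hpos)).trans hass.symm.dvd
  -- `q'` is irreducible
  have hq'irr : Irreducible q' := by
    constructor
    · intro hu
      obtain ⟨v, hv⟩ := isUnit_iff_exists_inv.mp hu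
      obtain ⟨k, r, hkr⟩ := hgen v
      have h1 : q * r = x ^ (e + k) := by
        apply hf
        rw [map_mul, map_pow, hfq, ← hkr]
        calc f x ^ e * q' * (v * f x ^ k) = (q' * v) * f x ^ (e + k) := by ring
          _ = f x ^ (e + k) := by rw [hv, one_mul]
      have h2 : q ∣ x ^ (e + k) := Dvd.intro _ h1
      obtain ⟨i, _, hass⟩ := (dvd_prime_pow hx _).mp h2
      rcases Nat.eq_zero_or_pos i with h0 | hpos
      · rw [h0, pow_zero] at hass
        exact hq.not_isUnit (associated_one_iff_isUnit.mp hass)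
      · apply hxq
        exact (dvd_pow_self x (Nat.pos_iff_ne_zero.mp hpos)).trans hass.symm.dvd
    · intro b c hbc
      have hb0 : b ≠ 0 := by
        rintro rfl
        rw [zero_mul] at hbc
        exact hq'0 hbc
      have hc0 : c ≠ 0 := by
        rintro rfl
        rw [mul_zero] at hbc
        exact hq'0 hbc
      obtain ⟨k, rb, hkb⟩ := hgen b
      obtain ⟨l, rc, hlc⟩ := hgen c
      have hrb0 : rb ≠ 0 := by
        rintro rfl
        rw [map_zero] at hkb
        exact (mul_ne_zero hb0 (pow_ne_zero _ hy0)) hkb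
      have hrc0 : rc ≠ 0 := by
        rintro rfl
        rw [map_zero] at hlc
        exact (mul_ne_zero hc0 (pow_ne_zero _ hy0)) hlc
      obtain ⟨i, rb', hrb', hrb⟩ := WfDvdMonoid.max_power_factor' hrb0 hx.not_isUnit
      obtain ⟨j, rc', hrc', hrc⟩ := WfDvdMonoid.max_power_factor' hrc0 hx.not_isUnit
      have h1 : q * x ^ (k + l) = x ^ (e + i + j) * (rb' * rc') := by
        apply hf
        have : f (x ^ (e + i + j) * (rb' * rc')) = f x ^ e * (f rb * f rc) := by
          rw [hrb, hrc]
          simp only [map_mul, map_pow]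
          ring
        rw [this, ← hkb, ← hlc, map_mul, map_pow, hfq, hbc]
        ring
      have hnd : ¬ x ∣ rb' * rc' := fun h => (hx.dvd_or_dvd h).elim hrb' hrc'
      obtain ⟨hm, hqeq⟩ := pow_cancel_of_not_dvd hx hxq hnd h1
      have hyb : ¬ f x ∣ b := fun h => hyq' (hbc ▸ Dvd.dvd.mul_right h c)
      have hyc : ¬ f x ∣ c := fun h => hyq' (hbc ▸ Dvd.dvd.mul_left h b)
      rcases hq.isUnit_or_isUnit hqeq with hu | hu
      · left
        obtain ⟨w, hw⟩ := isUnit_iff_exists_inv.mp (hu.map f)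
        apply unit_of_dvd_pow b i _ hyb
        refine ⟨f x ^ k * w, ?_⟩
        have : b * (f x ^ k * w) = (b * f x ^ k) * w := by ring
        rw [this, hkb, hrb, map_mul, map_pow, mul_assoc, hw, mul_one]
      · right
        obtain ⟨w, hw⟩ := isUnit_iff_exists_inv.mp (hu.map f)
        apply unit_of_dvd_pow c j _ hyc
        refine ⟨f x ^ l * w, ?_⟩
        have : c * (f x ^ l * w) = (c * f x ^ l) * w := by ring
        rw [this, hlc, hrc, map_mul, map_pow, mul_assoc, hw, mul_one]
  have hq'p : Prime q' := UniqueFactorizationMonoid.irreducible_iff_prime.mp hq'irr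
  refine ⟨hq0, hq.not_isUnit, ?_⟩
  intro a b hab
  have h1 : q' ∣ f a * f b := by
    have : f q ∣ f a * f b := by
      rw [← map_mul]
      exact map_dvd f hab
    exact (Dvd.intro_left _ hfq.symm).trans this
  rcases hq'p.dvd_or_dvd h1 with h | h
  · exact Or.inl (lift_dvd a h)
  · exact Or.inr (lift_dvd b h)

end Groth.Agent.Lib.Helper6.Gr
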