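import Groth.Agent.Lib.Helper6.Grass.Minor
import Groth.Agent.Lib.Helper6.Grass.AdjAlt

/-!
# Grassmannian: the Plücker shuffle relations vanish on minors (helper6)
-/

open scoped Classical
set_option linter.unusedSectionVars false
set_option autoImplicit false

universe u v

noncomputable section

namespace Groth.Agent.Lib.Helper6.Gr

open W4bk4grassmannian MvPolynomial

variable {d n : ℕ} {R : Type v} [CommRing R]

/-- Determinant of a tuple of rows. -/
abbrev D (w : Fin d → Fin d → R) : R := Matrix.detRowAlternating w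

lemma card_compl_of_card {r : Fin d} {A : Finset (Fin (d + 1))} (hA : A.card = r.val + 1) :
    Aᶜ.card = d - r.val := by
  rw [Finset.card_compl, hA, Fintype.card_fin]; omega

section Identity

variable (r : Fin d) (P Q : Fin d → Fin d → R)

/-- Rows of the first determinant. -/
def uI (v : Fin (d + 1) → Fin d → R) (A : Finset (Fin (d + 1))) (hA : A.card = r.val + 1) :
    Fin d → Fin d → R :=
  fun t => if h : t.val ≤ r.val then v (A.orderEmbOfFin hA ⟨t.val, by omega⟩) else P t

/-- Rows of the second determinant. -/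
def uJ (v : Fin (d + 1) → Fin d → R) (A : Finset (Fin (d + 1))) (hC : Aᶜ.card = d - r.val) :
    Fin d → Fin d → R :=
  fun t => if h : t.val < r.val then Q t
    else v (Aᶜ.orderEmbOfFin hC ⟨t.val - r.val, by have := t.isLt; omega⟩)

/-- One term of the Plücker sum. -/
def termF (v : Fin (d + 1) → Fin d → R) (A : Finset (Fin (d + 1))) : R :=
  if hA : A.card = r.val + 1 then
    (-1 : R) ^ shuffleSign r A * D (uI r P v A hA) * D (uJ r Q v A (card_compl_of_card hA))
  else 0

/-- The Plücker sum. -/
def sumF (v : Fin (d + 1) → Fin d → R) : R := ∑ A : Finset (Fin (d + 1)), termF r P Q v A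

variable {r P Q}

lemma uI_update_of_notMem (v : Fin (d + 1) → Fin d → R) (A : Finset (Fin (d + 1)))
    (hA : A.card = r.val + 1) (k : Fin (d + 1)) (hk : k ∉ A) (x : Fin d → R) :
    uI r P (Function.update v k x) A hA = uI r P v A hA := by
  funext t
  unfold uI
  by_cases h : t.val ≤ r.val
  · rw [dif_pos h, dif_pos h, Function.update_of_ne]
    intro heq
    exact hk (heq ▸ Finset.orderEmbOfFin_mem _ _ _)
  · rw [dif_neg h, dif_neg h]

lemma uJ_update_of_mem (v : Fin (d + 1) → Fin d → R) (A : Finset (Fin (d + 1)))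
    (hC : Aᶜ.card = d - r.val) (k : Fin (d + 1)) (hk : k ∈ A) (x : Fin d → R) :
    uJ r Q (Function.update v k x) A hC = uJ r Q v A hC := by
  funext t
  unfold uJ
  by_cases h : t.val < r.val
  · rw [dif_pos h, dif_pos h]
  · rw [dif_neg h, dif_neg h, Function.update_of_ne]
    intro heq
    have := Finset.orderEmbOfFin_mem Aᶜ hC ⟨t.val - r.val, by have := t.isLt; omega⟩
    rw [heq, Finset.mem_compl] at this
    exact this hk

lemma uI_update_of_eq (v : Fin (d + 1) → Fin d → R) (A : Finset (Fin (d + 1)))
    (hA : A.card = r.val + 1) (t0 : Fin d) (h0 : t0.val ≤ r.val) (x : Fin d → R) :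
    uI r P (Function.update v (A.orderEmbOfFin hA ⟨t0.val, by omega⟩) x) A hA =
      Function.update (uI r P v A hA) t0 x := by
  funext t
  by_cases htt : t = t0
  · subst htt
    rw [Function.update_self]
    unfold uI
    rw [dif_pos h0, Function.update_self]
  · rw [Function.update_of_ne htt]
    unfold uI
    by_cases h : t.val ≤ r.val
    · rw [dif_pos h, dif_pos h, Function.update_of_ne]
      intro heq
      have := (A.orderEmbOfFin hA).injective heq
      apply htt
      apply Fin.ext
      simpa using this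
    · rw [dif_neg h, dif_neg h]

lemma uJ_update_of_eq (v : Fin (d + 1) → Fin d → R) (A : Finset (Fin (d + 1)))
    (hC : Aᶜ.card = d - r.val) (t0 : Fin d) (h0 : ¬ t0.val < r.val) (x : Fin d → R) :
    uJ r Q (Function.update v (Aᶜ.orderEmbOfFin hC ⟨t0.val - r.val, by have := t0.isLt; omega⟩) x) A hC =
      Function.update (uJ r Q v A hC) t0 x := by
  funext t
  by_cases htt : t = t0
  · subst htt
    rw [Function.update_self]
    unfold uJ
    rw [dif_neg h0, Function.update_self]
  · rw [Function.update_of_ne htt]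
    unfold uJ
    by_cases h : t.val < r.val
    · rw [dif_pos h, dif_pos h]
    · rw [dif_neg h, dif_neg h, Function.update_of_ne]
      intro heq
      have := (Aᶜ.orderEmbOfFin hC).injective heq
      apply htt
      apply Fin.ext
      have h3 : t.val - r.val = t0.val - r.val := by simpa using this
      omega

/-- every element of `A` is `orderEmb` of some `t0 ≤ r` -/
lemma exists_of_mem (A : Finset (Fin (d + 1))) (hA : A.card = r.val + 1) (k : Fin (d + 1))
    (hk : k ∈ A) : ∃ (t0 : Fin d) (h0 : t0.val ≤ r.val),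
      A.orderEmbOfFin hA ⟨t0.val, by omega⟩ = k := by
  have hr := Finset.range_orderEmbOfFin A hA
  have : k ∈ (A : Set (Fin (d + 1))) := hk
  rw [← hr] at this
  obtain ⟨t, ht⟩ := this
  refine ⟨⟨t.val, by have := t.isLt; have := r.isLt; omega⟩, by have := t.isLt; simp only; omega, ?_⟩
  exact ht

lemma exists_of_notMem (A : Finset (Fin (d + 1))) (hC : Aᶜ.card = d - r.val) (k : Fin (d + 1))
    (hk : k ∉ A) : ∃ (t0 : Fin d) (h0 : ¬ t0.val < r.val),
      Aᶜ.orderEmbOfFin hC ⟨t0.val - r.val, by have := t0.isLt; omega⟩ = k := by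
  have hr := Finset.range_orderEmbOfFin Aᶜ hC
  have : k ∈ ((Aᶜ : Finset (Fin (d + 1))) : Set (Fin (d + 1))) := by simpa using hk
  rw [← hr] at this
  obtain ⟨t, ht⟩ := this
  refine ⟨⟨t.val + r.val, by have := t.isLt; have := r.isLt; omega⟩, by simp only; omega, ?_⟩
  rw [← ht]
  congr 1
  apply Fin.ext
  simp

lemma termF_update_add (v : Fin (d + 1) → Fin d → R) (A : Finset (Fin (d + 1))) (k : Fin (d + 1))
    (x y : Fin d → R) :
    termF r P Q (Function.update v k (x + y)) A =
      termF r P Q (Function.update v k x) A + termF r P Q (Function.update v k y) A := by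
  unfold termF
  by_cases hA : A.card = r.val + 1
  · rw [dif_pos hA, dif_pos hA, dif_pos hA]
    by_cases hk : k ∈ A
    · obtain ⟨t0, h0, rfl⟩ := exists_of_mem A hA k hk
      rw [uJ_update_of_mem _ _ _ _ hk, uJ_update_of_mem _ _ _ _ hk, uJ_update_of_mem _ _ _ _ hk,
        uI_update_of_eq _ _ _ _ h0, uI_update_of_eq _ _ _ _ h0, uI_update_of_eq _ _ _ _ h0]
      unfold D
      rw [(Matrix.detRowAlternating : (Fin d → R) [⋀^Fin d]→ₗ[R] R).map_update_add]
      ring
    · obtain ⟨t0, h0, rfl⟩ := exists_of_notMem A (card_compl_of_card hA) k hk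
      rw [uI_update_of_notMem _ _ _ _ hk, uI_update_of_notMem _ _ _ _ hk, uI_update_of_notMem _ _ _ _ hk,
        uJ_update_of_eq _ _ _ _ h0, uJ_update_of_eq _ _ _ _ h0, uJ_update_of_eq _ _ _ _ h0]
      unfold D
      rw [(Matrix.detRowAlternating : (Fin d → R) [⋀^Fin d]→ₗ[R] R).map_update_add]
      ring
  · rw [dif_neg hA, dif_neg hA, dif_neg hA, add_zero]

lemma termF_update_smul (v : Fin (d + 1) → Fin d → R) (A : Finset (Fin (d + 1))) (k : Fin (d + 1))
    (c : R) (x : Fin d → R) :
    termF r P Q (Function.update v k (c • x)) A = c * termF r P Q (Function.update v k x) A := by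
  unfold termF
  by_cases hA : A.card = r.val + 1
  · rw [dif_pos hA, dif_pos hA]
    by_cases hk : k ∈ A
    · obtain ⟨t0, h0, rfl⟩ := exists_of_mem A hA k hk
      rw [uJ_update_of_mem _ _ _ _ hk, uJ_update_of_mem _ _ _ _ hk,
        uI_update_of_eq _ _ _ _ h0, uI_update_of_eq _ _ _ _ h0]
      unfold D
      rw [(Matrix.detRowAlternating : (Fin d → R) [⋀^Fin d]→ₗ[R] R).map_update_smul, smul_eq_mul]
      ring
    · obtain ⟨t0, h0, rfl⟩ := exists_of_notMem A (card_compl_of_card hA) k hk
      rw [uI_update_of_notMem _ _ _ _ hk, uI_update_of_notMem _ _ _ _ hk,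
        uJ_update_of_eq _ _ _ _ h0, uJ_update_of_eq _ _ _ _ h0]
      unfold D
      rw [(Matrix.detRowAlternating : (Fin d → R) [⋀^Fin d]→ₗ[R] R).map_update_smul, smul_eq_mul]
      ring
  · rw [dif_neg hA, dif_neg hA, mul_zero]

variable (r P Q)

/-- The Plücker sum as a multilinear map in the moving rows. -/
def mulF : MultilinearMap R (fun _ : Fin (d + 1) => Fin d → R) R where
  toFun v := sumF r P Q v
  map_update_add' := by
    intro inst v k x y
    have : inst = instDecidableEqFin _ := Subsingleton.elim _ _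
    subst this
    unfold sumF
    rw [← Finset.sum_add_distrib]
    apply Finset.sum_congr rfl
    intro A _
    exact termF_update_add v A k x y
  map_update_smul' := by
    intro inst v k c x
    have : inst = instDecidableEqFin _ := Subsingleton.elim _ _
    subst this
    unfold sumF
    rw [smul_eq_mul, Finset.mul_sum]
    apply Finset.sum_congr rfl
    intro A _
    exact termF_update_smul v A k c x

lemma mulF_apply (v : Fin (d + 1) → Fin d → R) : mulF r P Q v = sumF r P Q v := rfl

end Identity

section Adjacent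

lemma swap_lt_of_lt (k : Fin d) (x y : Fin (d + 1)) (hxy : x < y)
    (hne : ¬ (x = k.castSucc ∧ y = k.succ)) :
    Equiv.swap k.castSucc k.succ x < Equiv.swap k.castSucc k.succ y := by
  rw [Equiv.swap_apply_def, Equiv.swap_apply_def]
  have hx := x.isLt
  have hy := y.isLt
  have hk := k.isLt
  simp only [Fin.ext_iff, Fin.lt_def, Fin.val_castSucc, Fin.val_succ] at hxy hne
  split_ifs with h1 h2 h3 h4 h5 h6 <;>
    simp only [Fin.ext_iff, Fin.lt_def, Fin.val_castSucc, Fin.val_succ] at * <;> omega

lemma swap_involutive' (k : Fin d) (x : Fin (d + 1)) :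
    Equiv.swap k.castSucc k.succ (Equiv.swap k.castSucc k.succ x) = x := Equiv.swap_apply_self _ _ _

lemma orderEmb_image (k : Fin d) (S S' : Finset (Fin (d + 1))) (m : ℕ) (h : S.card = m)
    (h' : S'.card = m) (hS' : S' = S.image (Equiv.swap k.castSucc k.succ))
    (hnot : ¬ (k.castSucc ∈ S ∧ k.succ ∈ S)) (t : Fin m) :
    S'.orderEmbOfFin h' t = Equiv.swap k.castSucc k.succ (S.orderEmbOfFin h t) := by
  subst hS'
  have := Finset.orderEmbOfFin_unique h'
    (f := fun t => Equiv.swap k.castSucc k.succ (S.orderEmbOfFin h t))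
    (fun x => Finset.mem_image_of_mem _ (Finset.orderEmbOfFin_mem _ _ _))
    (fun x y hxy => by
      apply swap_lt_of_lt k _ _ ((S.orderEmbOfFin h).strictMono hxy)
      rintro ⟨e1, e2⟩
      apply hnot
      exact ⟨e1 ▸ Finset.orderEmbOfFin_mem _ _ _, e2 ▸ Finset.orderEmbOfFin_mem _ _ _⟩)
  rw [← this]

lemma compl_image_swap (k : Fin d) (A : Finset (Fin (d + 1))) :
    (A.image (Equiv.swap k.castSucc k.succ))ᶜ = Aᶜ.image (Equiv.swap k.castSucc k.succ) := by
  ext x
  simp only [Finset.mem_compl, Finset.mem_image, not_exists, not_and]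
  constructor
  · intro h
    refine ⟨Equiv.swap k.castSucc k.succ x, ?_, swap_involutive' k x⟩
    intro hx
    exact h _ hx (swap_involutive' k x)
  · rintro ⟨y, hy, rfl⟩ z hz heq
    exact hy ((Equiv.swap k.castSucc k.succ).injective heq ▸ hz)

variable (r : Fin d) (P Q : Fin d → Fin d → R)

lemma uI_image (k : Fin d) (v : Fin (d + 1) → Fin d → R) (hv : v k.castSucc = v k.succ)
    (A : Finset (Fin (d + 1))) (hA : A.card = r.val + 1)
    (hA' : (A.image (Equiv.swap k.castSucc k.succ)).card = r.val + 1)
    (hnot : ¬ (k.castSucc ∈ A ∧ k.succ ∈ A)) :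
    uI r P v (A.image (Equiv.swap k.castSucc k.succ)) hA' = uI r P v A hA := by
  funext t
  unfold uI
  by_cases h : t.val ≤ r.val
  · rw [dif_pos h, dif_pos h, orderEmb_image k A _ _ hA hA' rfl hnot]
    have : ∀ x, v (Equiv.swap k.castSucc k.succ x) = v x := by
      intro x
      rw [Equiv.swap_apply_def]
      split_ifs with h1 h2
      · rw [h1, hv]
      · rw [h2, hv]
      · rfl
    rw [this]
  · rw [dif_neg h, dif_neg h]

lemma uJ_image (k : Fin d) (v : Fin (d + 1) → Fin d → R) (hv : v k.castSucc = v k.succ)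
    (A : Finset (Fin (d + 1))) (hC : Aᶜ.card = d - r.val)
    (hC' : (A.image (Equiv.swap k.castSucc k.succ))ᶜ.card = d - r.val)
    (hnot : ¬ (k.castSucc ∈ Aᶜ ∧ k.succ ∈ Aᶜ)) :
    uJ r Q v (A.image (Equiv.swap k.castSucc k.succ)) hC' = uJ r Q v A hC := by
  funext t
  unfold uJ
  by_cases h : t.val < r.val
  · rw [dif_pos h, dif_pos h]
  · rw [dif_neg h, dif_neg h, orderEmb_image k Aᶜ _ _ hC hC' (compl_image_swap k A) hnot]
    have : ∀ x, v (Equiv.swap k.castSucc k.succ x) = v x := by
      intro x
      rw [Equiv.swap_apply_def]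
      split_ifs with h1 h2
      · rw [h1, hv]
      · rw [h2, hv]
      · rfl
    rw [this]

lemma sum_val_ge (A : Finset (Fin (d + 1))) (hA : A.card = r.val + 1) :
    r.val * (r.val + 1) / 2 ≤ A.sum fun a => a.val := by
  have h1 : (A.sum fun a => a.val) = ∑ t : Fin (r.val + 1), (A.orderEmbOfFin hA t).val := by
    conv_lhs => rw [← Finset.image_orderEmbOfFin_univ A hA]
    rw [Finset.sum_image]
    intro x _ y _ hxy
    exact (A.orderEmbOfFin hA).injective hxy
  have h2 : ∑ t : Fin (r.val + 1), t.val ≤ ∑ t : Fin (r.val + 1), (A.orderEmbOfFin hA t).val := by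
    apply Finset.sum_le_sum
    intro t _
    exact val_le_of_strictMono _ (A.orderEmbOfFin hA).strictMono t
  have h3 : ∑ t : Fin (r.val + 1), t.val = r.val * (r.val + 1) / 2 := by
    rw [Fin.sum_univ_eq_sum_range (fun t => t) (r.val + 1), Finset.sum_range_id]
    have : (r.val + 1) * (r.val + 1 - 1) = r.val * (r.val + 1) := by
      rw [Nat.add_sub_cancel, mul_comm]
    rw [this]
  rw [h1, ← h3]
  exact h2

lemma sum_image_swap_of_mem (k : Fin d) (A : Finset (Fin (d + 1))) (h1 : k.castSucc ∈ A)
    (h2 : k.succ ∉ A) :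
    ((A.image (Equiv.swap k.castSucc k.succ)).sum fun a => a.val) = (A.sum fun a => a.val) + 1 := by
  rw [Finset.sum_image (fun x _ y _ hxy => (Equiv.swap k.castSucc k.succ).injective hxy)]
  rw [← Finset.add_sum_erase A _ h1, ← Finset.add_sum_erase A (fun a => a.val) h1]
  rw [Equiv.swap_apply_left]
  have : ∀ a ∈ A.erase k.castSucc, (Equiv.swap k.castSucc k.succ a).val = a.val := by
    intro a ha
    rw [Finset.mem_erase] at ha
    rw [Equiv.swap_apply_of_ne_of_ne ha.1]
    intro heq
    exact h2 (heq ▸ ha.2)
  rw [Finset.sum_congr rfl this]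
  simp only [Fin.val_succ, Fin.val_castSucc]
  ring

lemma sum_image_swap_of_notMem (k : Fin d) (A : Finset (Fin (d + 1))) (h1 : k.castSucc ∉ A)
    (h2 : k.succ ∈ A) :
    ((A.image (Equiv.swap k.castSucc k.succ)).sum fun a => a.val) + 1 = (A.sum fun a => a.val) := by
  rw [Finset.sum_image (fun x _ y _ hxy => (Equiv.swap k.castSucc k.succ).injective hxy)]
  rw [← Finset.add_sum_erase A _ h2, ← Finset.add_sum_erase A (fun a => a.val) h2]
  rw [Equiv.swap_apply_right]
  have : ∀ a ∈ A.erase k.succ, (Equiv.swap k.castSucc k.succ a).val = a.val := by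
    intro a ha
    rw [Finset.mem_erase] at ha
    rw [Equiv.swap_apply_of_ne_of_ne _ ha.1]
    intro heq
    exact h1 (heq ▸ ha.2)
  rw [Finset.sum_congr rfl this]
  simp only [Fin.val_succ, Fin.val_castSucc]
  ring

lemma card_image_swap (k : Fin d) (A : Finset (Fin (d + 1))) :
    (A.image (Equiv.swap k.castSucc k.succ)).card = A.card :=
  Finset.card_image_of_injective _ (Equiv.swap k.castSucc k.succ).injective

lemma image_image_swap (k : Fin d) (A : Finset (Fin (d + 1))) :
    (A.image (Equiv.swap k.castSucc k.succ)).image (Equiv.swap k.castSucc k.succ) = A := by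
  rw [Finset.image_image]
  have : (Equiv.swap k.castSucc k.succ : Fin (d + 1) → Fin (d + 1)) ∘ (Equiv.swap k.castSucc k.succ) = id := by
    funext x
    exact swap_involutive' k x
  rw [this, Finset.image_id]

/-- term vanishes if both adjacent positions are in `A`. -/
lemma termF_eq_zero_of_mem (k : Fin d) (v : Fin (d + 1) → Fin d → R) (hv : v k.castSucc = v k.succ)
    (A : Finset (Fin (d + 1))) (h1 : k.castSucc ∈ A) (h2 : k.succ ∈ A) : termF r P Q v A = 0 := by
  unfold termF
  by_cases hA : A.card = r.val + 1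
  · rw [dif_pos hA]
    obtain ⟨t1, ht1, e1⟩ := exists_of_mem (r := r) A hA _ h1
    obtain ⟨t2, ht2, e2⟩ := exists_of_mem (r := r) A hA _ h2
    have hne : t1 ≠ t2 := by
      intro h
      subst h
      have : k.castSucc = k.succ := e1.symm.trans e2
      exact absurd this (Fin.castSucc_lt_succ (i := k)).ne
    have : D (uI r P v A hA) = 0 := by
      unfold D
      apply (Matrix.detRowAlternating : (Fin d → R) [⋀^Fin d]→ₗ[R] R).map_eq_zero_of_eq _ _ hne
      unfold uI
      rw [dif_pos ht1, dif_pos ht2, e1, e2, hv]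
    rw [this, mul_zero, zero_mul]
  · rw [dif_neg hA]

lemma termF_eq_zero_of_notMem (k : Fin d) (v : Fin (d + 1) → Fin d → R)
    (hv : v k.castSucc = v k.succ)
    (A : Finset (Fin (d + 1))) (h1 : k.castSucc ∉ A) (h2 : k.succ ∉ A) : termF r P Q v A = 0 := by
  unfold termF
  by_cases hA : A.card = r.val + 1
  · rw [dif_pos hA]
    obtain ⟨t1, ht1, e1⟩ := exists_of_notMem (r := r) A (card_compl_of_card hA) _ h1
    obtain ⟨t2, ht2, e2⟩ := exists_of_notMem (r := r) A (card_compl_of_card hA) _ h2
    have hne : t1 ≠ t2 := by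
      intro h
      subst h
      have : k.castSucc = k.succ := e1.symm.trans e2
      exact absurd this (Fin.castSucc_lt_succ (i := k)).ne
    have : D (uJ r Q v A (card_compl_of_card hA)) = 0 := by
      unfold D
      apply (Matrix.detRowAlternating : (Fin d → R) [⋀^Fin d]→ₗ[R] R).map_eq_zero_of_eq _ _ hne
      unfold uJ
      rw [dif_neg ht1, dif_neg ht2, e1, e2, hv]
    rw [this, mul_zero]
  · rw [dif_neg hA]

lemma termF_image (k : Fin d) (v : Fin (d + 1) → Fin d → R) (hv : v k.castSucc = v k.succ)
    (A : Finset (Fin (d + 1))) (hx : (k.castSucc ∈ A ∧ k.succ ∉ A) ∨ (k.castSucc ∉ A ∧ k.succ ∈ A)) :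
    termF r P Q v A + termF r P Q v (A.image (Equiv.swap k.castSucc k.succ)) = 0 := by
  unfold termF
  by_cases hA : A.card = r.val + 1
  · have hA' : (A.image (Equiv.swap k.castSucc k.succ)).card = r.val + 1 := by
      rw [card_image_swap]; exact hA
    rw [dif_pos hA, dif_pos hA']
    have hnot1 : ¬ (k.castSucc ∈ A ∧ k.succ ∈ A) := by
      rintro ⟨a1, a2⟩
      rcases hx with ⟨_, b2⟩ | ⟨b1, _⟩
      · exact b2 a2
      · exact b1 a1
    have hnot2 : ¬ (k.castSucc ∈ Aᶜ ∧ k.succ ∈ Aᶜ) := by
      rintro ⟨a1, a2⟩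
      rw [Finset.mem_compl] at a1 a2
      rcases hx with ⟨b1, _⟩ | ⟨_, b2⟩
      · exact a1 b1
      · exact a2 b2
    rw [uI_image r P k v hv A hA hA' hnot1,
      uJ_image r Q k v hv A (card_compl_of_card hA) (card_compl_of_card hA') hnot2]
    have hs : (-1 : R) ^ shuffleSign r (A.image (Equiv.swap k.castSucc k.succ)) =
        - (-1 : R) ^ shuffleSign r A := by
      unfold shuffleSign
      have hge := sum_val_ge r A hA
      have hge' := sum_val_ge r _ hA'
      rcases hx with ⟨b1, b2⟩ | ⟨b1, b2⟩
      · have := sum_image_swap_of_mem k A b1 b2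
        have e : ((A.image (Equiv.swap k.castSucc k.succ)).sum fun a => a.val) - r.val * (r.val + 1) / 2 =
            ((A.sum fun a => a.val) - r.val * (r.val + 1) / 2) + 1 := by omega
        rw [e, pow_succ]; ring
      · have := sum_image_swap_of_notMem k A b1 b2
        have e : ((A.sum fun a => a.val) - r.val * (r.val + 1) / 2) =
            (((A.image (Equiv.swap k.castSucc k.succ)).sum fun a => a.val) - r.val * (r.val + 1) / 2) + 1 := by
          omega
        rw [e, pow_succ]; ring
    rw [hs]; ring
  · have hA' : ¬ (A.image (Equiv.swap k.castSucc k.succ)).card = r.val + 1 := by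
      rw [card_image_swap]; exact hA
    rw [dif_neg hA, dif_neg hA', add_zero]

/-- The Plücker sum vanishes when two adjacent moving rows coincide. -/
lemma sumF_adj (k : Fin d) (v : Fin (d + 1) → Fin d → R) (hv : v k.castSucc = v k.succ) :
    sumF r P Q v = 0 := by
  unfold sumF
  apply Finset.sum_involution (fun A _ => A.image (Equiv.swap k.castSucc k.succ))
  · intro A _
    by_cases h1 : k.castSucc ∈ A
    · by_cases h2 : k.succ ∈ A
      · have e : A.image (Equiv.swap k.castSucc k.succ) = A := by
          ext x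
          rw [Finset.mem_image]
          constructor
          · rintro ⟨y, hy, rfl⟩
            rw [Equiv.swap_apply_def]
            split_ifs with e1 e2
            · exact h2
            · exact h1
            · exact hy
          · intro hx
            refine ⟨Equiv.swap k.castSucc k.succ x, ?_, swap_involutive' k x⟩
            rw [Equiv.swap_apply_def]
            split_ifs with e1 e2
            · exact h2
            · exact h1
            · exact hx
        rw [e, termF_eq_zero_of_mem r P Q k v hv A h1 h2, add_zero]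
      · exact termF_image r P Q k v hv A (Or.inl ⟨h1, h2⟩)
    · by_cases h2 : k.succ ∈ A
      · exact termF_image r P Q k v hv A (Or.inr ⟨h1, h2⟩)
      · have e : A.image (Equiv.swap k.castSucc k.succ) = A := by
          ext x
          rw [Finset.mem_image]
          constructor
          · rintro ⟨y, hy, rfl⟩
            rw [Equiv.swap_apply_of_ne_of_ne (fun h => h1 (by rw [← h]; exact hy))
              (fun h => h2 (by rw [← h]; exact hy))]
            exact hy
          · intro hx
            refine ⟨x, hx, ?_⟩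
            rw [Equiv.swap_apply_of_ne_of_ne (fun h => h1 (by rw [← h]; exact hx))
              (fun h => h2 (by rw [← h]; exact hx))]
        rw [e, termF_eq_zero_of_notMem r P Q k v hv A h1 h2, add_zero]
  · intro A _ hne
    by_cases h1 : k.castSucc ∈ A
    · by_cases h2 : k.succ ∈ A
      · exact absurd (termF_eq_zero_of_mem r P Q k v hv A h1 h2) hne
      · intro heq
        apply h2
        rw [← heq]
        exact Finset.mem_image.mpr ⟨k.castSucc, h1, Equiv.swap_apply_left _ _⟩
    · by_cases h2 : k.succ ∈ A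
      · intro heq
        apply h1
        rw [← heq]
        exact Finset.mem_image.mpr ⟨k.succ, h2, Equiv.swap_apply_right _ _⟩
      · exact absurd (termF_eq_zero_of_notMem r P Q k v hv A h1 h2) hne
  · intro A _
    exact image_image_swap k A
  · intro A _
    exact Finset.mem_univ _

/-- **The Plücker identity**: the Plücker sum vanishes identically. -/
theorem sumF_eq_zero (v : Fin (d + 1) → Fin d → R) : sumF r P Q v = 0 := by
  have hmul : mulF r P Q = 0 := by
    apply Module.Basis.ext_multilinear (fun _ => Pi.basisFun R (Fin d))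
    intro c
    rw [zero_apply]
    obtain ⟨p, q, hpq, hc⟩ := Fintype.exists_ne_map_eq_of_card_lt c (by simp)
    apply vanish_of_adj (mulF r P Q) _ _ p q hpq
    · show (Pi.basisFun R (Fin d)) (c p) = (Pi.basisFun R (Fin d)) (c q)
      rw [hc]
    · intro v k hv
      exact sumF_adj r P Q k v hv
  rw [← mulF_apply, hmul, zero_apply]

end Adjacent

section Apply

variable (K : Type u) [CommRing K] [Algebra K R]

lemma pM_shuffleI (M : Matrix (Fin n) (Fin d) R) (i j : Idx d n) (r : Fin d)
    (A : Finset (Fin (d + 1))) (hA : A.card = r.val + 1) :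
    pM M (shuffleI i j r A hA) =
      D (uI r (fun t => M (i.1 t)) (fun k => M (movingRows i j r k)) A hA) := by
  unfold pM D
  show Matrix.detRowAlternating _ = Matrix.detRowAlternating _
  congr 1
  funext t
  unfold uI shuffleI
  by_cases h : t.val ≤ r.val
  · simp only [dif_pos h]
    funext c
    simp only [Matrix.submatrix_apply, id_eq]
    rw [dif_pos h]
  · simp only [dif_neg h]
    funext c
    simp only [Matrix.submatrix_apply, id_eq]
    rw [dif_neg h]

lemma pM_shuffleJ (M : Matrix (Fin n) (Fin d) R) (i j : Idx d n) (r : Fin d)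
    (A : Finset (Fin (d + 1))) (hA : A.card = r.val + 1) :
    pM M (shuffleJ i j r A hA) =
      D (uJ r (fun t => M (j.1 t)) (fun k => M (movingRows i j r k)) A (card_compl_of_card hA)) := by
  unfold pM D
  show Matrix.detRowAlternating _ = Matrix.detRowAlternating _
  congr 1
  funext t
  unfold uJ shuffleJ
  by_cases h : t.val < r.val
  · simp only [dif_pos h]
    funext c
    simp only [Matrix.submatrix_apply, id_eq]
    rw [dif_pos h]
  · simp only [dif_neg h]
    funext c
    simp only [Matrix.submatrix_apply, id_eq]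
    rw [dif_neg h]

/-- The shuffle relations vanish at the minors of any matrix. -/
theorem evalAt_shuffleRel (M : Matrix (Fin n) (Fin d) R) (i j : Idx d n) (r : Fin d) :
    evalAt K M (shuffleRel K i j r) = 0 := by
  unfold shuffleRel
  rw [map_sum]
  rw [← sumF_eq_zero r (fun t => M (i.1 t)) (fun t => M (j.1 t)) (fun k => M (movingRows i j r k))]
  unfold sumF
  apply Finset.sum_congr rfl
  intro A _
  unfold shuffleTerm termF
  by_cases hA : A.card = r.val + 1
  · rw [dif_pos hA, dif_pos hA, map_mul, map_mul, map_pow, map_neg, map_one, evalAt_coord,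
      evalAt_coord, pM_shuffleI, pM_shuffleJ]
  · rw [dif_neg hA, dif_neg hA, map_zero]

end Apply

end Groth.Agent.Lib.Helper6.Gr

end
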