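import Groth.Agent.Lib.Helper6.Grass.Quad

/-!
# Grassmannian: full shape of the quadratic straightening relations, with weights and lexicographic bound (helper6)
-/

open scoped Classical
set_option linter.unusedSectionVars false
set_option autoImplicit false

universe u v

noncomputable section

namespace Groth.Agent.Lib.Helper6.Gr

open W4bk4grassmannian MvPolynomial
open scoped MonomialOrder

variable {d n : ℕ}

variable (K : Type u) [CommRing K]

variable [IsDomain K] [Infinite K]

/-- Shape of the quadratic straightening relation of a pair. -/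
theorem quad_full (hd : 0 < d) (hdn : d ≤ n) (τ φ : Idx d n) :
    ∃ g ∈ Submodule.span K {f : PlRing K d n | ∃ α β : Idx d n,
        β ≤ α ∧ W4bk4grassmannian.sup τ φ < α ∧ β < W4bk4grassmannian.inf τ φ ∧
        wt α + wt β = wt τ + wt φ ∧
        (expo α.1 + expo β.1) ≺[MonomialOrder.lex] (expo τ.1 + expo φ.1) ∧ f = X α * X β},
      X τ * X φ - X (W4bk4grassmannian.sup τ φ) * X (W4bk4grassmannian.inf τ φ) - g ∈
        plIdealTop (d := d) (n := n) K := by
  set W := wt τ + wt φ with hW
  have hqs := quad_straighten K τ φ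
  rw [Submodule.mem_sup] at hqs
  obtain ⟨s, hs, ι, hι, hsum⟩ := hqs
  have hι' : ι ∈ plIdealTop (d := d) (n := n) K := hι
  -- index type of standard pairs of weight W
  let P2 := {p : Idx d n × Idx d n // p.2 ≤ p.1 ∧ wt p.1 + wt p.2 = W}
  have hstd : std2 K (d := d) (n := n) W =
      Submodule.span K (Set.range fun p : P2 => (X p.1.1 * X p.1.2 : PlRing K d n)) := by
    unfold std2
    congr 1
    ext f
    constructor
    · rintro ⟨α, β, h1, h2, rfl⟩
      exact ⟨⟨(α, β), h1, h2⟩, rfl⟩
    · rintro ⟨⟨⟨α, β⟩, h1, h2⟩, rfl⟩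
      exact ⟨α, β, h1, h2, rfl⟩
  rw [hstd, Finsupp.mem_span_range_iff_exists_finsupp] at hs
  obtain ⟨a, ha⟩ := hs
  -- the chain map
  let cm : P2 → Σ m : ℕ, Fin m → Idx d n := fun p => ⟨2, ![p.1.1, p.1.2]⟩
  have hcm_inj : Function.Injective cm := by
    rintro ⟨⟨α, β⟩, h1⟩ ⟨⟨α', β'⟩, h1'⟩ h
    simp only [cm, Sigma.mk.injEq, heq_eq_eq, true_and] at h
    have e1 := congrFun h 0
    have e2 := congrFun h 1
    simp only [Matrix.cons_val_zero, Matrix.cons_val_one] at e1 e2
    subst e1; subst e2; rfl
  have hcm_anti : ∀ p, Antitone (cm p).2 := fun p => antitone_pair _ _ p.2.1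
  have ha' : (a.sum fun p r => r • chainMon K (cm p).2) = s := by
    rw [← ha]
    apply Finsupp.sum_congr
    intro p _
    simp only [cm]
    rw [chainMon_pair]
  -- E := X τ X φ - ι = s
  have hE : s = X τ * X φ - ι := by rw [← hsum]; ring
  -- (1) upper bounds
  have hup : ∀ p : P2, a p ≠ 0 → τ ≤ p.1.1 ∧ φ ≤ p.1.1 := by
    intro p hp
    have key : ∀ ψ : Idx d n, (ψ = τ ∨ ψ = φ) → ψ ≤ p.1.1 := by
      intro ψ hψ
      by_contra hnot
      apply hp
      apply coeff_eq_zero_of_phi K hd p.1.1 cm hcm_inj hcm_anti a _ p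
      · intro k
        fin_cases k
        · exact le_refl _
        · exact p.2.1
      · rw [ha', hE, map_sub]
        have h1 : phi K p.1.1 ι = 0 := by
          have := plIdeal_le_ker K p.1.1 (plIdealTop_le_plIdeal K p.1.1 hι')
          rwa [RingHom.mem_ker] at this
        have h2 : phi K p.1.1 (X ψ) = 0 := by
          have := plIdeal_le_ker K p.1.1 (X_mem_plIdeal K p.1.1 ψ hnot)
          rwa [RingHom.mem_ker] at this
        rw [h1, sub_zero, map_mul]
        rcases hψ with rfl | rfl
        · rw [h2, zero_mul]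
        · rw [h2, mul_zero]
    exact ⟨key τ (Or.inl rfl), key φ (Or.inr rfl)⟩
  -- (2) lower bounds
  have hlow : ∀ p : P2, a p ≠ 0 → p.1.2 ≤ τ ∧ p.1.2 ≤ φ := by
    intro p hp
    have key : ∀ ψ : Idx d n, (ψ = τ ∨ ψ = φ) → p.1.2 ≤ ψ := by
      intro ψ hψ
      by_contra hnot
      apply hp
      apply coeff_eq_zero_of_phiB K hd p.1.2 (topI hdn) cm hcm_inj hcm_anti a _ p
      · intro k
        fin_cases k
        · exact p.2.1
        · exact le_refl _
      · intro k
        exact le_topI hdn _
      · rw [ha', hE, map_sub]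
        have h1 : phiB K p.1.2 (topI hdn) ι = 0 := by
          have := plIdealB_le_ker K p.1.2 (topI hdn)
            (Ideal.mem_sup_left (plIdealTop_le_plIdeal K (topI hdn) hι'))
          rwa [RingHom.mem_ker] at this
        have h2 : phiB K p.1.2 (topI hdn) (X ψ) = 0 := by
          have := plIdealB_le_ker K p.1.2 (topI hdn)
            (Ideal.mem_sup_right (Ideal.subset_span ⟨ψ, hnot, rfl⟩))
          rwa [RingHom.mem_ker] at this
        rw [h1, sub_zero, map_mul]
        rcases hψ with rfl | rfl
        · rw [h2, zero_mul]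
        · rw [h2, mul_zero]
    exact ⟨key τ (Or.inl rfl), key φ (Or.inr rfl)⟩
  -- the distinguished pair
  let pstar : P2 := ⟨(W4bk4grassmannian.sup τ φ, W4bk4grassmannian.inf τ φ),
    fun t => le_trans (min_le_left _ _) (le_max_left _ _), wt_sup_inf τ φ⟩
  -- pairs in the support other than pstar are strictly above/below
  have hstrict : ∀ p : P2, a p ≠ 0 → p ≠ pstar →
      W4bk4grassmannian.sup τ φ < p.1.1 ∧ p.1.2 < W4bk4grassmannian.inf τ φ := by
    intro p hp hne
    have h1 := sup_le' (hup p hp).1 (hup p hp).2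
    have h2 := le_inf' (hlow p hp).1 (hlow p hp).2
    have hw := p.2.2
    have hw' := wt_sup_inf τ φ
    constructor
    · refine lt_of_le_of_ne h1 ?_
      intro heq
      apply hne
      have hwβ : wt p.1.2 = wt (W4bk4grassmannian.inf τ φ) := by
        rw [← heq] at hw; omega
      have hβ : p.1.2 = W4bk4grassmannian.inf τ φ := by
        by_contra hneβ
        have := wt_lt_of_lt (lt_of_le_of_ne h2 hneβ)
        omega
      apply Subtype.ext
      exact Prod.ext heq.symm hβ
    · refine lt_of_le_of_ne h2 ?_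
      intro heq
      apply hne
      have hwα : wt p.1.1 = wt (W4bk4grassmannian.sup τ φ) := by
        rw [heq] at hw; omega
      have hα : W4bk4grassmannian.sup τ φ = p.1.1 := by
        by_contra hneα
        have := wt_lt_of_lt (lt_of_le_of_ne h1 hneα)
        omega
      apply Subtype.ext
      exact Prod.ext hα.symm heq
  -- (3) the coefficient of pstar is one
  have hone : a pstar = 1 := by
    set Φ := phi K (W4bk4grassmannian.sup τ φ) with hΦ
    have hΦι : Φ ι = 0 := by
      have := plIdeal_le_ker K (W4bk4grassmannian.sup τ φ) (plIdealTop_le_plIdeal K _ hι')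
      rwa [RingHom.mem_ker] at this
    have hΦs : Φ s = Φ (X τ) * Φ (X φ) := by
      rw [hE, map_sub, hΦι, sub_zero, map_mul]
    have hΦs2 : Φ s = a pstar • Φ (X (W4bk4grassmannian.sup τ φ) * X (W4bk4grassmannian.inf τ φ)) := by
      rw [← ha, map_finsuppSum]
      rw [Finsupp.sum, Finset.sum_eq_single pstar]
      · rw [map_smul]
      · intro p hp hne
        rw [map_smul]
        have hp' : a p ≠ 0 := Finsupp.mem_support_iff.mp hp
        have hlt := (hstrict p hp' hne).1
        have : Φ (X p.1.1) = 0 := by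
          have := plIdeal_le_ker K (W4bk4grassmannian.sup τ φ)
            (X_mem_plIdeal K _ p.1.1 (not_le_of_gt hlt))
          rwa [RingHom.mem_ker] at this
        rw [map_mul, this, zero_mul, smul_zero]
      · intro hnot
        rw [Finsupp.notMem_support_iff.mp hnot, zero_smul, map_zero]
    have m1 := phi_X_monic K hd (W4bk4grassmannian.sup τ φ) τ (le_sup_left' τ φ)
    have m2 := phi_X_monic K hd (W4bk4grassmannian.sup τ φ) φ (le_sup_right' τ φ)
    have m3 := phi_X_monic K hd (W4bk4grassmannian.sup τ φ) (W4bk4grassmannian.sup τ φ) (le_refl _)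
    have m4 := phi_X_monic K hd (W4bk4grassmannian.sup τ φ) (W4bk4grassmannian.inf τ φ)
      (fun t => le_trans (min_le_left _ _) (le_max_left _ _))
    have mL := MonomialOrder.Monic.mul m1.1 m2.1
    have mR := MonomialOrder.Monic.mul m3.1 m4.1
    have dL : (MonomialOrder.lex).degree (Φ (X τ) * Φ (X φ)) = expo τ.1 + expo φ.1 := by
      rw [MonomialOrder.degree_mul_of_isRegular_left, m1.2, m2.2]
      · rw [m1.1.leadingCoeff_eq_one]; exact isRegular_one
      · exact m2.1.ne_zero
    have dR : (MonomialOrder.lex).degree (Φ (X (W4bk4grassmannian.sup τ φ)) *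
        Φ (X (W4bk4grassmannian.inf τ φ))) = expo τ.1 + expo φ.1 := by
      rw [MonomialOrder.degree_mul_of_isRegular_left, m3.2, m4.2, expo_sup_inf]
      · rw [m3.1.leadingCoeff_eq_one]; exact isRegular_one
      · exact m4.1.ne_zero
    have hc := congrArg (coeff (expo τ.1 + expo φ.1)) (hΦs.symm.trans hΦs2)
    rw [coeff_smul, map_mul] at hc
    have cL : coeff (expo τ.1 + expo φ.1) (Φ (X τ) * Φ (X φ)) = 1 := by
      rw [← dL]; exact mL.coeff_degree
    have cR : coeff (expo τ.1 + expo φ.1) (Φ (X (W4bk4grassmannian.sup τ φ)) *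
        Φ (X (W4bk4grassmannian.inf τ φ))) = 1 := by
      rw [← dR]; exact mR.coeff_degree
    rw [cL, cR, smul_eq_mul, mul_one] at hc
    exact hc.symm
  -- (4) the lexicographic bound
  have hsplit0 : s = X (W4bk4grassmannian.sup τ φ) * X (W4bk4grassmannian.inf τ φ) +
      ∑ p ∈ a.support.erase pstar, a p • (X p.1.1 * X p.1.2) := by
    rw [← ha, Finsupp.sum]
    have hmem : pstar ∈ a.support := by
      rw [Finsupp.mem_support_iff, hone]; exact one_ne_zero
    rw [← Finset.add_sum_erase _ _ hmem, hone, one_smul]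
  set Ψ := phi K (topI hdn) with hΨ
  have hΨι : Ψ ι = 0 := by
    have := plIdeal_le_ker K (topI hdn) (plIdealTop_le_plIdeal K _ hι')
    rwa [RingHom.mem_ker] at this
  set E0 := expo τ.1 + expo φ.1 with hE0
  have monicPair : ∀ α β : Idx d n, (MonomialOrder.lex).Monic (Ψ (X α) * Ψ (X β)) ∧
      (MonomialOrder.lex).degree (Ψ (X α) * Ψ (X β)) = expo α.1 + expo β.1 := by
    intro α β
    have m1 := phi_X_monic K hd (topI hdn) α (le_topI hdn α)
    have m2 := phi_X_monic K hd (topI hdn) β (le_topI hdn β)
    refine ⟨MonomialOrder.Monic.mul m1.1 m2.1, ?_⟩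
    rw [MonomialOrder.degree_mul_of_isRegular_left, m1.2, m2.2]
    · rw [m1.1.leadingCoeff_eq_one]; exact isRegular_one
    · exact m2.1.ne_zero
  have hidentity : Ψ (X τ) * Ψ (X φ) - Ψ (X (W4bk4grassmannian.sup τ φ)) * Ψ (X (W4bk4grassmannian.inf τ φ)) =
      ∑ p ∈ a.support.erase pstar, a p • (Ψ (X p.1.1) * Ψ (X p.1.2)) := by
    have h1 : Ψ s = Ψ (X τ) * Ψ (X φ) := by
      rw [hE, map_sub, hΨι, sub_zero, map_mul]
    rw [hsplit0, map_add, map_mul, map_sum] at h1
    rw [← h1]
    simp only [map_smul, map_mul]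
    ring
  have hlex : ∀ p ∈ a.support.erase pstar,
      (expo p.1.1.1 + expo p.1.2.1) ≺[MonomialOrder.lex] E0 := by
    by_contra hcon
    push Not at hcon
    obtain ⟨pbad, hpbad, hbad⟩ := hcon
    obtain ⟨p1, hp1, hmax⟩ := Finset.exists_max_image (a.support.erase pstar)
      (fun p : P2 => (MonomialOrder.lex).toSyn (expo p.1.1.1 + expo p.1.2.1)) ⟨pbad, hpbad⟩
    set E1 := expo p1.1.1.1 + expo p1.1.2.1 with hE1
    have hE1ge : ¬ E1 ≺[MonomialOrder.lex] E0 := by
      intro hlt
      exact absurd (lt_of_le_of_lt (hmax pbad hpbad) hlt) (not_lt.mpr hbad)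
    have hc := congrArg (coeff E1) hidentity
    rw [coeff_sub, coeff_sum] at hc
    -- left side
    have hLzero : coeff E1 (Ψ (X τ) * Ψ (X φ)) -
        coeff E1 (Ψ (X (W4bk4grassmannian.sup τ φ)) * Ψ (X (W4bk4grassmannian.inf τ φ))) = 0 := by
      have d1 := (monicPair τ φ).2
      have d2 := (monicPair (W4bk4grassmannian.sup τ φ) (W4bk4grassmannian.inf τ φ)).2
      rw [expo_sup_inf] at d2
      by_cases heq : E1 = E0
      · have c1 : coeff E1 (Ψ (X τ) * Ψ (X φ)) = 1 := by
          rw [heq, hE0, ← d1]; exact (monicPair τ φ).1.coeff_degree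
        have c2 : coeff E1 (Ψ (X (W4bk4grassmannian.sup τ φ)) *
            Ψ (X (W4bk4grassmannian.inf τ φ))) = 1 := by
          rw [heq, hE0, ← d2]
          exact (monicPair (W4bk4grassmannian.sup τ φ) (W4bk4grassmannian.inf τ φ)).1.coeff_degree
        rw [c1, c2, sub_self]
      · have hgt : E0 ≺[MonomialOrder.lex] E1 := by
          rcases lt_trichotomy ((MonomialOrder.lex).toSyn E1) ((MonomialOrder.lex).toSyn E0) with h | h | h
          · exact absurd h hE1ge
          · exact absurd ((MonomialOrder.lex).toSyn.injective h) heq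
          · exact h
        have c1 : coeff E1 (Ψ (X τ) * Ψ (X φ)) = 0 := by
          apply MonomialOrder.coeff_eq_zero_of_lt (m := MonomialOrder.lex)
          rw [d1]; exact hgt
        have c2 : coeff E1 (Ψ (X (W4bk4grassmannian.sup τ φ)) *
            Ψ (X (W4bk4grassmannian.inf τ φ))) = 0 := by
          apply MonomialOrder.coeff_eq_zero_of_lt (m := MonomialOrder.lex)
          rw [d2]; exact hgt
        rw [c1, c2, sub_self]
    -- right side
    have hR : ∑ p ∈ a.support.erase pstar, coeff E1 (a p • (Ψ (X p.1.1) * Ψ (X p.1.2))) = a p1 := by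
      rw [Finset.sum_eq_single p1]
      · rw [coeff_smul, smul_eq_mul]
        have := (monicPair p1.1.1 p1.1.2)
        rw [hE1, ← this.2, this.1.coeff_degree, mul_one]
      · intro p hp hne
        rw [coeff_smul]
        have hdeg := (monicPair p.1.1 p.1.2).2
        have hlt : (expo p.1.1.1 + expo p.1.2.1) ≺[MonomialOrder.lex] E1 := by
          refine lt_of_le_of_ne (hmax p hp) ?_
          intro heq
          apply hne
          have heq' := (MonomialOrder.lex).toSyn.injective heq
          have hce : chainExpo (cm p).2 = chainExpo (cm p1).2 := by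
            unfold chainExpo
            simp only [cm]
            rw [Fin.sum_univ_two, Fin.sum_univ_two]
            exact heq'
          exact hcm_inj (chainExpo_inj hd _ _ (hcm_anti p) (hcm_anti p1) hce)
        have : coeff E1 (Ψ (X p.1.1) * Ψ (X p.1.2)) = 0 := by
          apply MonomialOrder.coeff_eq_zero_of_lt (m := MonomialOrder.lex)
          rw [hdeg]; exact hlt
        rw [this, smul_zero]
      · intro h
        exact absurd hp1 h
    rw [hLzero, hR] at hc
    have : a p1 ≠ 0 := Finsupp.mem_support_iff.mp (Finset.mem_of_mem_erase hp1)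
    exact this hc.symm
  -- conclusion
  refine ⟨∑ p ∈ a.support.erase pstar, a p • (X p.1.1 * X p.1.2), ?_, ?_⟩
  · apply Submodule.sum_mem
    intro p hp
    apply Submodule.smul_mem
    apply Submodule.subset_span
    have hp' : a p ≠ 0 := Finsupp.mem_support_iff.mp (Finset.mem_of_mem_erase hp)
    have hne : p ≠ pstar := Finset.ne_of_mem_erase hp
    exact ⟨p.1.1, p.1.2, p.2.1, (hstrict p hp' hne).1, (hstrict p hp' hne).2, p.2.2, hlex p hp, rfl⟩
  · have hsplit : s = X (W4bk4grassmannian.sup τ φ) * X (W4bk4grassmannian.inf τ φ) +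
        ∑ p ∈ a.support.erase pstar, a p • (X p.1.1 * X p.1.2) := by
      rw [← ha, Finsupp.sum]
      have hmem : pstar ∈ a.support := by
        rw [Finsupp.mem_support_iff, hone]; exact one_ne_zero
      rw [← Finset.add_sum_erase _ _ hmem, hone, one_smul]
    have : X τ * X φ - X (W4bk4grassmannian.sup τ φ) * X (W4bk4grassmannian.inf τ φ) -
        ∑ p ∈ a.support.erase pstar, a p • (X p.1.1 * X p.1.2) = ι := by
      rw [← hsum, hsplit]; ring
    rw [this]
    exact hι'

end Groth.Agent.Lib.Helper6.Gr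

end
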