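import Groth.Agent.Lib.Helper6.Grass.Struct
import Mathlib.LinearAlgebra.Matrix.ToLinearEquiv

/-!
# Grassmannian: minors satisfy the three-term-type quadrics (helper6)
-/

open scoped Classical
set_option linter.unusedSectionVars false
set_option autoImplicit false

universe u v

noncomputable section

namespace Groth.Agent.Lib.Helper6.Gr

open W4bk4grassmannian MvPolynomial

variable {e n : ℕ}

variable (K : Type u) [Field K]

/-- Cofactor vector of the rows `i'`. -/
def gammaV (A : Matrix (Fin n) (Fin (e + 1)) K) (i' : Idx e n) (c : Fin (e + 1)) : K :=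
  (-1) ^ (e + c.val) * ((A.submatrix i'.1 id).submatrix id c.succAbove).det

lemma pM_snoc (A : Matrix (Fin n) (Fin (e + 1)) K) (i' : Idx e n) (y : Fin n) :
    pM A (Fin.snoc i'.1 y) = ∑ c, A y c * gammaV K A i' c := by
  unfold pM
  rw [Matrix.det_succ_row _ (Fin.last e)]
  apply Finset.sum_congr rfl
  intro c _
  unfold gammaV
  have h1 : (A.submatrix (Fin.snoc i'.1 y : Fin (e + 1) → Fin n) id) (Fin.last e) c = A y c := by
    rw [Matrix.submatrix_apply, Fin.snoc_last, id_eq]
  have h2 : (A.submatrix (Fin.snoc i'.1 y : Fin (e + 1) → Fin n) id).submatrix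
      (Fin.last e).succAbove c.succAbove = (A.submatrix i'.1 id).submatrix id c.succAbove := by
    apply Matrix.ext
    intro s t
    simp only [Matrix.submatrix_apply, id_eq, Fin.succAbove_last, Fin.snoc_castSucc]
  rw [h1, h2, Fin.val_last]
  ring

/-- The three-term-type quadric vanishes at the minors of a matrix. -/
theorem quadric_minors (A : Matrix (Fin n) (Fin (e + 1)) K) (i' : Idx e n) (j' : Idx (e + 2) n) :
    ∑ h : Fin (e + 2), (-1 : K) ^ (h.val + 1) * pM A (Fin.snoc i'.1 (j'.1 h)) *
      pM A (j'.1 ∘ h.succAbove) = 0 := by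
  set M : Matrix (Fin (e + 2)) (Fin (e + 2)) K :=
    Matrix.of fun h => (Fin.snoc (fun c : Fin (e + 1) => A (j'.1 h) c)
      (pM A (Fin.snoc i'.1 (j'.1 h))) : Fin (e + 2) → K) with hM
  have hdet : M.det = 0 := by
    rw [← Matrix.exists_mulVec_eq_zero_iff]
    refine ⟨(Fin.snoc (gammaV K A i') (-1) : Fin (e + 2) → K), ?_, ?_⟩
    · intro h0
      have := congrFun h0 (Fin.last (e + 1))
      rw [Fin.snoc_last] at this
      simp at this
    · funext h
      rw [Matrix.mulVec, dotProduct, Fin.sum_univ_castSucc]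
      simp only [hM, Matrix.of_apply, Fin.snoc_castSucc, Fin.snoc_last, Pi.zero_apply]
      rw [pM_snoc]
      ring
  rw [Matrix.det_succ_column M (Fin.last (e + 1))] at hdet
  have key : ∀ h : Fin (e + 2), (-1 : K) ^ (h.val + 1) * pM A (Fin.snoc i'.1 (j'.1 h)) *
      pM A (j'.1 ∘ h.succAbove) = (-1) ^ e * ((-1) ^ (h.val + (Fin.last (e + 1)).val) *
        M h (Fin.last (e + 1)) * (M.submatrix h.succAbove (Fin.last (e + 1)).succAbove).det) := by
    intro h
    have h1 : M h (Fin.last (e + 1)) = pM A (Fin.snoc i'.1 (j'.1 h)) := by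
      simp only [hM, Matrix.of_apply, Fin.snoc_last]
    have h2 : M.submatrix h.succAbove (Fin.last (e + 1)).succAbove =
        A.submatrix (j'.1 ∘ h.succAbove) id := by
      apply Matrix.ext
      intro s t
      simp only [hM, Matrix.submatrix_apply, Matrix.of_apply, Fin.succAbove_last, Fin.snoc_castSucc,
        Function.comp_apply, id_eq]
    rw [h1, h2, Fin.val_last]
    unfold pM
    have h3 : (-1 : K) ^ e * (-1) ^ (h.val + (e + 1)) = (-1) ^ (h.val + 1) := by
      rw [← pow_add]
      have : e + (h.val + (e + 1)) = 2 * e + (h.val + 1) := by ring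
      rw [this, pow_add, pow_mul]
      simp
    rw [← h3]
    ring
  simp_rw [key]
  rw [← Finset.mul_sum, hdet, mul_zero]

/-- Evaluation of a signed coordinate at the vector of minors. -/
lemma eval_coord_minors (A : Matrix (Fin n) (Fin (e + 1)) K) (a : Fin (e + 1) → Fin n) :
    eval (fun θ : Idx (e + 1) n => pM A θ.1) (coord K (e + 1) n a) = pM A a :=
  evalAt_coord K A a

theorem eval_quadric_minors (A : Matrix (Fin n) (Fin (e + 1)) K) (i' : Idx e n)
    (j' : Idx (e + 2) n) :
    eval (fun θ : Idx (e + 1) n => pM A θ.1) (quadric K i' j') = 0 := by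
  unfold quadric
  rw [map_sum]
  rw [← quadric_minors K A i' j']
  apply Finset.sum_congr rfl
  intro h _
  rw [map_mul, map_mul, map_pow, map_neg, map_one, eval_coord_minors, eval_coord_minors]

end Groth.Agent.Lib.Helper6.Gr
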