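import Groth.Agent.Lib.Helper6.Grass.Quadric2

/-!
# Grassmannian: the Plücker quadrics cut out the Grassmannian set-theoretically (helper6)
-/

open scoped Classical
set_option linter.unusedSectionVars false
set_option autoImplicit false

universe u v

noncomputable section

namespace Groth.Agent.Lib.Helper6.Gr

open W4bk4grassmannian MvPolynomial

variable {e n : ℕ}

variable (K : Type u) [Field K]

/-- Column scalings. -/
def lamV (c : K) (t : Fin (e + 1)) : K := if t = 0 then 1 else c⁻¹

/-- Diagonal of the `θ0`-block. -/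
def DV (c : K) (t : Fin (e + 1)) : K := if t = 0 then c else 1

lemma mul_lamV (c : K) (hc : c ≠ 0) (t : Fin (e + 1)) : c * lamV K c t = DV K c t := by
  unfold lamV DV
  by_cases ht : t = 0
  · rw [if_pos ht, if_pos ht, mul_one]
  · rw [if_neg ht, if_neg ht, mul_inv_cancel₀ hc]

lemma lamV_mul_prod (c : K) (hc : c ≠ 0) (t : Fin (e + 1)) :
    lamV K c t * ∏ s ∈ Finset.univ.erase t, DV K c s = 1 := by
  have hprod : ∏ s ∈ Finset.univ.erase t, DV K c s = if t = 0 then 1 else c := by
    unfold DV
    rw [Finset.prod_ite_eq' (Finset.univ.erase t) (0 : Fin (e + 1)) (fun _ => c)]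
    by_cases ht : t = 0
    · rw [if_pos ht, if_neg]
      rw [ht]
      exact Finset.notMem_erase _ _
    · rw [if_neg ht, if_pos]
      exact Finset.mem_erase.mpr ⟨fun h => ht h.symm, Finset.mem_univ _⟩
  rw [hprod]
  unfold lamV
  by_cases ht : t = 0
  · rw [if_pos ht, if_pos ht, mul_one]
  · rw [if_neg ht, if_neg ht, inv_mul_cancel₀ hc]

/-- The candidate matrix. -/
def Amat (q : Idx (e + 1) n → K) (θ0 : Idx (e + 1) n) : Matrix (Fin n) (Fin (e + 1)) K :=
  Matrix.of fun s t => Qf K q (Function.update θ0.1 t s) * lamV K (q θ0) t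

lemma Amat_theta0 (q : Idx (e + 1) n → K) (θ0 : Idx (e + 1) n) (h0 : q θ0 ≠ 0) (s t : Fin (e + 1)) :
    Amat K q θ0 (θ0.1 s) t = if s = t then DV K (q θ0) s else 0 := by
  unfold Amat
  rw [Matrix.of_apply]
  by_cases hst : s = t
  · rw [if_pos hst, hst, Function.update_eq_self, Qf_idx, mul_lamV K _ h0]
  · rw [if_neg hst, Qf_of_not_inj, zero_mul]
    intro hc
    have hinj := inj_of_card_image _ hc
    have : Function.update θ0.1 t (θ0.1 s) t = Function.update θ0.1 t (θ0.1 s) s := by
      rw [Function.update_self, Function.update_of_ne hst]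
    exact hst (hinj this).symm

lemma pM_Amat_update (q : Idx (e + 1) n → K) (θ0 : Idx (e + 1) n) (h0 : q θ0 ≠ 0)
    (t : Fin (e + 1)) (x : Fin n) :
    pM (Amat K q θ0) (Function.update θ0.1 t x) = Qf K q (Function.update θ0.1 t x) := by
  unfold pM
  have : (Amat K q θ0).submatrix (Function.update θ0.1 t x) id =
      Matrix.of fun s c : Fin (e + 1) => if s = t then Amat K q θ0 x c else
        if s = c then DV K (q θ0) s else 0 := by
    apply Matrix.ext
    intro s c
    rw [Matrix.submatrix_apply, id_eq, Matrix.of_apply]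
    by_cases hst : s = t
    · rw [if_pos hst, hst, Function.update_self]
    · rw [if_neg hst, Function.update_of_ne hst, Amat_theta0 K q θ0 h0]
  rw [this, det_diag_except_row]
  unfold Amat
  rw [Matrix.of_apply, mul_assoc, lamV_mul_prod K _ h0, mul_one]

lemma pM_Amat_theta0 (q : Idx (e + 1) n → K) (θ0 : Idx (e + 1) n) (h0 : q θ0 ≠ 0) :
    pM (Amat K q θ0) θ0.1 = q θ0 := by
  have := pM_Amat_update K q θ0 h0 0 (θ0.1 0)
  rw [Function.update_eq_self, Qf_idx] at this
  exact this

/-- The minors of the candidate matrix agree with `q` near `θ0`. -/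
theorem pM_Amat_near (q : Idx (e + 1) n → K) (θ0 : Idx (e + 1) n) (h0 : q θ0 ≠ 0)
    (θ : Idx (e + 1) n) (hθ : kk θ0 θ.1 ≤ 1) : q θ = pM (Amat K q θ0) θ.1 := by
  have hcθ : (Finset.univ.image θ.1).card = e + 1 := card_image_of_inj θ.1 θ.2.injective
  have hcθ0 : (Finset.univ.image θ0.1).card = e + 1 := card_image_of_inj θ0.1 θ0.2.injective
  unfold kk at hθ
  rcases Nat.eq_zero_or_pos ((Finset.univ.image θ.1) \ (Finset.univ.image θ0.1)).card with h | h
  · -- θ = θ0
    rw [Finset.card_eq_zero, Finset.sdiff_eq_empty_iff_subset] at h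
    have heq : Finset.univ.image θ.1 = Finset.univ.image θ0.1 :=
      Finset.eq_of_subset_of_card_le h (by rw [hcθ, hcθ0])
    have : θ = θ0 := idx_eq_of_image_eq θ θ0 heq
    rw [this, pM_Amat_theta0 K q θ0 h0]
  · have h1 : ((Finset.univ.image θ.1) \ (Finset.univ.image θ0.1)).card = 1 := by omega
    have h2 : ((Finset.univ.image θ0.1) \ (Finset.univ.image θ.1)).card = 1 := by
      rw [← Finset.card_sdiff_comm (by rw [hcθ, hcθ0]), h1]
    obtain ⟨x, hx⟩ := Finset.card_eq_one.mp h1
    obtain ⟨y, hy⟩ := Finset.card_eq_one.mp h2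
    have hxmem : x ∈ (Finset.univ.image θ.1) \ (Finset.univ.image θ0.1) := by
      rw [hx]; exact Finset.mem_singleton_self x
    have hymem : y ∈ (Finset.univ.image θ0.1) \ (Finset.univ.image θ.1) := by
      rw [hy]; exact Finset.mem_singleton_self y
    rw [Finset.mem_sdiff] at hxmem hymem
    obtain ⟨t, -, ht⟩ := Finset.mem_image.mp hymem.1
    -- image of the updated tuple
    have himg : Finset.univ.image (Function.update θ0.1 t x) = Finset.univ.image θ.1 := by
      ext z
      simp only [Finset.mem_image, Finset.mem_univ, true_and]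
      constructor
      · rintro ⟨s, rfl⟩
        by_cases hs : s = t
        · rw [hs, Function.update_self]
          obtain ⟨u, -, hu⟩ := Finset.mem_image.mp hxmem.1
          exact ⟨u, hu⟩
        · rw [Function.update_of_ne hs]
          by_contra hcon
          have hmem : θ0.1 s ∈ (Finset.univ.image θ0.1) \ (Finset.univ.image θ.1) := by
            rw [Finset.mem_sdiff]
            refine ⟨Finset.mem_image_of_mem _ (Finset.mem_univ _), ?_⟩
            intro hm
            obtain ⟨u, -, hu⟩ := Finset.mem_image.mp hm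
            exact hcon ⟨u, hu⟩
          rw [hy, Finset.mem_singleton, ← ht] at hmem
          exact hs (θ0.2.injective hmem)
      · rintro ⟨u, rfl⟩
        by_cases hu : θ.1 u ∈ Finset.univ.image θ0.1
        · obtain ⟨s, -, hs⟩ := Finset.mem_image.mp hu
          have hst : s ≠ t := by
            intro hst
            rw [hst, ht] at hs
            exact hymem.2 (hs ▸ Finset.mem_image_of_mem _ (Finset.mem_univ _))
          exact ⟨s, by rw [Function.update_of_ne hst, hs]⟩
        · have hmem : θ.1 u ∈ (Finset.univ.image θ.1) \ (Finset.univ.image θ0.1) :=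
            Finset.mem_sdiff.mpr ⟨Finset.mem_image_of_mem _ (Finset.mem_univ _), hu⟩
          rw [hx, Finset.mem_singleton] at hmem
          exact ⟨t, by rw [Function.update_self, hmem]⟩
    have hca : (Finset.univ.image (Function.update θ0.1 t x)).card = e + 1 := by rw [himg, hcθ]
    have hsort : sortIdx (e + 1) n (Function.update θ0.1 t x) hca = θ := by
      apply idx_eq_of_image_eq
      rw [image_sortIdx, himg]
    have e1 := pM_Amat_update K q θ0 h0 t x
    rw [pM_eq_sort _ _ hca, Qf_sort K q _ hca, hsort] at e1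
    have hu2 : (-1 : K) ^ invCount (e + 1) n (Function.update θ0.1 t x) ≠ 0 :=
      pow_ne_zero _ (neg_ne_zero.mpr one_ne_zero)
    exact (mul_left_cancel₀ hu2 e1).symm

theorem quadric_iff_exists_matrix (q : Idx (e + 1) n → K) (hq : q ≠ 0) :
    (∀ (i' : Idx e n) (j' : Idx (e + 2) n), MvPolynomial.eval q (quadric K i' j') = 0) ↔
      ∃ A : Matrix (Fin n) (Fin (e + 1)) K, ∀ θ : Idx (e + 1) n, q θ = (A.submatrix θ.1 id).det := by
  constructor
  · intro h
    have : ∃ θ0, q θ0 ≠ 0 := by
      by_contra hcon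
      push Not at hcon
      exact hq (funext hcon)
    obtain ⟨θ0, h0⟩ := this
    refine ⟨Amat K q θ0, ?_⟩
    exact quadric_uniq K q (fun θ => pM (Amat K q θ0) θ.1) h
      (fun i' j' => eval_quadric_minors K (Amat K q θ0) i' j') θ0 h0
      (fun θ hθ => pM_Amat_near K q θ0 h0 θ hθ)
  · rintro ⟨A, hA⟩ i' j'
    have : q = fun θ : Idx (e + 1) n => pM A θ.1 := funext hA
    rw [this]
    exact eval_quadric_minors K A i' j'

end Groth.Agent.Lib.Helper6.Gr
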