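import Groth.Agent.Lib.Helper6.Grass.Struct

/-!
# Grassmannian: injectivity of the opposite-cell comorphism modulo `J(τ)` (helper6)
-/

open scoped Classical
set_option linter.unusedSectionVars false
set_option autoImplicit false

universe u v

noncomputable section

namespace Groth.Agent.Lib.Helper6.Gr

open W4bk4grassmannian MvPolynomial

variable {d n : ℕ}

variable (K : Type u) [Field K] (hd : 0 < d) (τ : Idx d n)

/-- The fraction field of the polynomial ring of matrix entries. -/
abbrev FF (K : Type u) [Field K] (d n : ℕ) : Type u := FractionRing (MvPolynomial (Var d n) K)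

/-- The embedding into the fraction field. -/
abbrev iF : MvPolynomial (Var d n) K →+* FF K d n := algebraMap _ _

lemma iF_injective : Function.Injective (iF K (d := d) (n := n)) :=
  IsFractionRing.injective _ _

/-- The generic echelon matrix over the fraction field. -/
def LF : Matrix (Fin n) (Fin d) (FF K d n) := (Lmat K τ).map (iF K)

/-- Its `τ`-rows. -/
def gF : Matrix (Fin d) (Fin d) (FF K d n) := (LF K τ).submatrix τ.1 id

lemma det_gF : (gF K τ).det = iF K (phi K τ (X τ)) := by
  unfold gF LF phi
  rw [evalAt_X]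
  exact (map_pM (iF K) (Lmat K τ) τ.1).symm

include hd in
lemma det_gF_ne_zero : (gF K τ).det ≠ 0 := by
  rw [det_gF]
  intro h
  have h0 : phi K τ (X τ) = 0 := iF_injective K (by rw [h, map_zero])
  have hm := (phi_X_monic K hd τ τ (le_refl τ)).1
  rw [h0] at hm
  exact (MonomialOrder.Monic.ne_zero hm) rfl

lemma gF_tri : Matrix.BlockTriangular (gF K τ) id := by
  intro s t hts
  simp only [id_eq] at hts
  unfold gF LF Lmat
  simp only [Matrix.submatrix_apply, Matrix.map_apply, Matrix.of_apply, id_eq]
  rw [if_neg, map_zero]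
  rw [not_le]
  exact τ.2 hts

/-- `diag(det g, 1, …, 1)`. -/
def DF : Matrix (Fin d) (Fin d) (FF K d n) :=
  Matrix.diagonal fun t => if t = ⟨0, hd⟩ then (gF K τ).det else 1

lemma det_DF : (DF K hd τ).det = (gF K τ).det := by
  unfold DF
  rw [Matrix.det_diagonal, Finset.prod_ite_eq' Finset.univ (⟨0, hd⟩ : Fin d) (fun _ => (gF K τ).det),
    if_pos (Finset.mem_univ _)]

/-- The unimodular column transformation normalizing the echelon matrix. -/
def hF : Matrix (Fin d) (Fin d) (FF K d n) := (gF K τ)⁻¹ * DF K hd τ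

lemma det_hF : (hF K hd τ).det = 1 := by
  unfold hF
  rw [Matrix.det_mul, Matrix.det_nonsing_inv, det_DF, Ring.inverse_eq_inv',
    inv_mul_cancel₀ (det_gF_ne_zero K hd τ)]

lemma hF_tri : Matrix.BlockTriangular (hF K hd τ) id := by
  unfold hF
  have hu : IsUnit (gF K τ).det := (det_gF_ne_zero K hd τ).isUnit
  letI : Invertible (gF K τ) := Matrix.invertibleOfIsUnitDet _ hu
  apply Matrix.BlockTriangular.mul
  · exact Matrix.blockTriangular_inv_of_blockTriangular (gF_tri K τ)
  · exact Matrix.blockTriangular_diagonal _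

/-- The normalized matrix over the fraction field. -/
def NF : Matrix (Fin n) (Fin d) (FF K d n) := LF K τ * hF K hd τ

lemma pM_NF (a : Fin d → Fin n) : pM (NF K hd τ) a = pM (LF K τ) a := by
  unfold NF
  rw [pM_mul, det_hF, mul_one]

lemma NF_tau (s t : Fin d) : NF K hd τ (τ.1 s) t = DF K hd τ s t := by
  have h1 : NF K hd τ (τ.1 s) t = (gF K τ * hF K hd τ) s t := by
    unfold NF gF
    rw [Matrix.mul_apply, Matrix.mul_apply]
    rfl
  rw [h1]
  unfold hF
  rw [← Matrix.mul_assoc, Matrix.mul_nonsing_inv _ (det_gF_ne_zero K hd τ).isUnit, Matrix.one_mul]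

lemma NF_zero (i : Fin n) (t : Fin d) (h : τ.1 t < i) : NF K hd τ i t = 0 := by
  unfold NF
  rw [Matrix.mul_apply]
  apply Finset.sum_eq_zero
  intro s _
  by_cases hst : t < s
  · rw [hF_tri K hd τ hst, mul_zero]
  · rw [not_lt] at hst
    have : LF K τ i s = 0 := by
      unfold LF Lmat
      simp only [Matrix.map_apply, Matrix.of_apply]
      rw [if_neg, map_zero]
      rw [not_le]
      exact lt_of_le_of_lt (τ.2.monotone hst) h
    rw [this, zero_mul]

/-- The retraction to the fraction field. -/
def Psi : MvPolynomial (FV hd τ) K →+* FF K d n :=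
  eval₂Hom ((iF K).comp C) fun v => NF K hd τ (ofLex v.1).2 (ofLex v.1).1

lemma Cmat_map_Psi : (Cmat K hd τ).map (Psi K hd τ) = NF K hd τ := by
  ext i t
  rw [Matrix.map_apply]
  unfold Cmat
  rw [Matrix.of_apply]
  by_cases hf : IsFree hd τ (toLex (t, i))
  · rw [dif_pos hf]
    unfold Psi
    rw [eval₂Hom_X']
    rfl
  · rw [dif_neg hf]
    by_cases hit : i = τ.1 t
    · rw [if_pos hit, map_one, hit, NF_tau]
      unfold DF
      rw [Matrix.diagonal_apply_eq, if_neg]
      intro h0
      apply hf
      rw [hit, h0]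
      exact ⟨le_refl _, Or.inr rfl⟩
    · rw [if_neg hit, map_zero]
      by_cases hle : i ≤ τ.1 t
      · have : ∃ s, τ.1 s = i := by
          by_contra hcon
          push Not at hcon
          exact hf ⟨hle, Or.inl hcon⟩
        obtain ⟨s, hs⟩ := this
        rw [← hs, NF_tau]
        unfold DF
        rw [Matrix.diagonal_apply_ne]
        intro hst
        apply hit
        rw [← hs, hst]
      · rw [NF_zero K hd τ i t (not_le.mp hle)]

lemma Psi_fC (F : PlRing K d n) : Psi K hd τ (fC K hd τ F) = iF K (phi K τ F) := by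
  have : (Psi K hd τ).comp (fC K hd τ).toRingHom = (iF K).comp (phi K τ).toRingHom := by
    apply MvPolynomial.ringHom_ext
    · intro c
      simp only [RingHom.comp_apply, AlgHom.toRingHom_eq_coe, RingHom.coe_coe]
      have h1 : fC K hd τ (C c) = C c := (fC K hd τ).commutes c
      have h2 : phi K τ (C c) = C c := (phi K τ).commutes c
      rw [h1, h2]
      unfold Psi
      rw [eval₂Hom_C]
      rfl
    · intro θ
      simp only [RingHom.comp_apply, AlgHom.toRingHom_eq_coe, RingHom.coe_coe]
      unfold fC phi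
      rw [evalAt_X, evalAt_X, map_pM, map_pM, Cmat_map_Psi, pM_NF]
      rfl
  exact RingHom.congr_fun this F

theorem ker_fC_eq : RingHom.ker (fC K hd τ).toRingHom = RingHom.ker (phi K τ).toRingHom := by
  apply le_antisymm _ (ker_phi_le_ker_fC K hd τ)
  intro F hF
  rw [RingHom.mem_ker] at hF ⊢
  have hF' : fC K hd τ F = 0 := hF
  show phi K τ F = 0
  apply iF_injective K
  rw [← Psi_fC K hd τ, hF', map_zero, map_zero]

end Groth.Agent.Lib.Helper6.Gr
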