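import Groth.Agent.Lib.Helper6.Grass.SeqMon

/-!
# Grassmannian: degeneration of a Schubert cone to the Stanley–Reisner ring of its poset (helper6)
-/

open scoped Classical
set_option linter.unusedSectionVars false
set_option autoImplicit false

universe u v

noncomputable section

namespace Groth.Agent.Lib.Helper6.Gr

open W4bk4grassmannian MvPolynomial Groth.Agent.Lib.Helper6.Rees
open scoped MonomialOrder

variable {d n : ℕ}

lemma sq_spread {p q x y : ℕ} (hx1 : p ≤ x) (hx2 : q ≤ x) (hs : x + y = p + q) :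
    p ^ 2 + q ^ 2 ≤ x ^ 2 + y ^ 2 := by
  zify at *
  nlinarith [mul_nonneg (sub_nonneg.mpr hx1) (sub_nonneg.mpr hx2)]

lemma sq_spread_lt {p q x y : ℕ} (hx1 : p < x) (hx2 : q < x) (hs : x + y = p + q) :
    p ^ 2 + q ^ 2 < x ^ 2 + y ^ 2 := by
  zify at *
  nlinarith [mul_pos (sub_pos.mpr hx1) (sub_pos.mpr hx2)]

lemma sub_sq_le {N p q x y : ℕ} (hp : p ≤ N) (hq : q ≤ N) (hx : x ≤ N) (hy : y ≤ N)
    (h : p ^ 2 + q ^ 2 ≤ x ^ 2 + y ^ 2) :
    (N ^ 2 - x ^ 2) + (N ^ 2 - y ^ 2) ≤ (N ^ 2 - p ^ 2) + (N ^ 2 - q ^ 2) := by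
  have h1 := Nat.pow_le_pow_left hp 2
  have h2 := Nat.pow_le_pow_left hq 2
  have h3 := Nat.pow_le_pow_left hx 2
  have h4 := Nat.pow_le_pow_left hy 2
  generalize N ^ 2 = NN at *
  generalize p ^ 2 = P at *
  generalize q ^ 2 = Q at *
  generalize x ^ 2 = XX at *
  generalize y ^ 2 = Y at *
  omega

lemma sub_sq_lt {N p q x y : ℕ} (hp : p ≤ N) (hq : q ≤ N) (hx : x ≤ N) (hy : y ≤ N)
    (h : p ^ 2 + q ^ 2 < x ^ 2 + y ^ 2) :
    (N ^ 2 - x ^ 2) + (N ^ 2 - y ^ 2) < (N ^ 2 - p ^ 2) + (N ^ 2 - q ^ 2) := by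
  have h1 := Nat.pow_le_pow_left hp 2
  have h2 := Nat.pow_le_pow_left hq 2
  have h3 := Nat.pow_le_pow_left hx 2
  have h4 := Nat.pow_le_pow_left hy 2
  generalize N ^ 2 = NN at *
  generalize p ^ 2 = P at *
  generalize q ^ 2 = Q at *
  generalize x ^ 2 = XX at *
  generalize y ^ 2 = Y at *
  omega

/-- The Stanley–Reisner weight. -/
def omSR (θ : Idx d n) : ℕ := (n * d) ^ 2 - (wt θ) ^ 2

lemma omSR_le {a b a' b' : Idx d n} (h1 : wt a ≤ wt a') (h2 : wt b ≤ wt a')
    (hs : wt a' + wt b' = wt a + wt b) : omSR a' + omSR b' ≤ omSR a + omSR b :=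
  sub_sq_le (wt_le a) (wt_le b) (wt_le a') (wt_le b') (sq_spread h1 h2 hs)

lemma omSR_lt {a b a' b' : Idx d n} (h1 : wt a < wt a') (h2 : wt b < wt a')
    (hs : wt a' + wt b' = wt a + wt b) : omSR a' + omSR b' < omSR a + omSR b :=
  sub_sq_lt (wt_le a) (wt_le b) (wt_le a') (wt_le b') (sq_spread_lt h1 h2 hs)

variable (K : Type u) [Field K] [Infinite K] (hd : 0 < d) (hdn : d < n) (w : Idx d n)

include hd hdn in
theorem pairHyp_SR : PairHyp K (omSR (d := d) (n := n)) := by
  intro a b hba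
  by_cases hab : a ≤ b
  · apply Submodule.mem_sup_left
    apply Submodule.subset_span
    refine ⟨b, a, lt_of_le_of_ne hab (fun h => hba (by rw [h])), ?_, mul_comm _ _⟩
    omega
  · obtain ⟨g, hg, hmem⟩ := quad_full K hd (le_of_lt hdn) a b
    have hsplit : X a * X b = (X (W4bk4grassmannian.sup a b) * X (W4bk4grassmannian.inf a b) + g) +
        (X a * X b - X (W4bk4grassmannian.sup a b) * X (W4bk4grassmannian.inf a b) - g) := by ring
    rw [hsplit]
    refine Submodule.add_mem _ (Submodule.mem_sup_left ?_) (Submodule.mem_sup_right hmem)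
    apply Submodule.add_mem
    · apply Submodule.subset_span
      refine ⟨_, _, ?_, ?_, rfl⟩
      · refine lt_of_le_of_ne (le_sup_left' a b) ?_
        intro h
        apply hba
        rw [h]
        exact le_sup_right' a b
      · exact omSR_le (wt_mono (le_sup_left' a b)) (wt_mono (le_sup_right' a b)) (wt_sup_inf a b)
    · refine (Submodule.span_mono ?_) hg
      rintro _ ⟨α, β, _, hα, _, hwt, _, rfl⟩
      refine ⟨α, β, lt_of_le_of_lt (le_sup_left' a b) hα, ?_, rfl⟩
      exact omSR_le (wt_mono (le_trans (le_sup_left' a b) (le_of_lt hα)))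
        (wt_mono (le_trans (le_sup_right' a b) (le_of_lt hα))) hwt

include hd in
/-- Products of two coordinates lie in the filtration step of their weight. -/
lemma mkB_pair_mem (ω₀ : Idx d n → ℕ) (hP : PairHyp K ω₀) (α β : Idx d n) (k : ℕ)
    (h : ω₀ α + ω₀ β ≤ k) :
    Ideal.Quotient.mk (schubertVanishing K d n w) (X α * X β) ∈ (reesData K hd w ω₀ hP).Fil k := by
  by_cases h1 : α ≤ w
  · by_cases h2 : β ≤ w
    · exact (reesData K hd w ω₀ hP).Fil_mono h (mkB_mul_mem K hd w ω₀ hP ⟨α, h1⟩ ⟨β, h2⟩)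
    · have : X α * X β ∈ schubertVanishing K d n w := by
        rw [schubertVanishing_eq_plIdeal K hd w]
        exact Ideal.mul_mem_left _ _ (X_mem_plIdeal K w β h2)
      rw [Ideal.Quotient.eq_zero_iff_mem.mpr this]
      exact Submodule.zero_mem _
  · have : X α * X β ∈ schubertVanishing K d n w := by
      rw [schubertVanishing_eq_plIdeal K hd w]
      exact Ideal.mul_mem_right _ _ (X_mem_plIdeal K w α h1)
    rw [Ideal.Quotient.eq_zero_iff_mem.mpr this]
    exact Submodule.zero_mem _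

include hd in
lemma mkB_top_eq_zero (f : PlRing K d n) (hf : f ∈ plIdealTop (d := d) (n := n) K) :
    Ideal.Quotient.mk (schubertVanishing K d n w) f = 0 := by
  rw [Ideal.Quotient.eq_zero_iff_mem, schubertVanishing_eq_plIdeal K hd w]
  exact plIdealTop_le_plIdeal K w hf

include hdn in
theorem psi_kill_SR (f : MvPolynomial (Below w) K) (hf : f ∈ srIdeal K w) :
    psi K hd w omSR (pairHyp_SR K hd hdn) f = 0 := by
  have hle : srIdeal K w ≤ RingHom.ker (psi K hd w omSR (pairHyp_SR K hd hdn)).toRingHom := by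
    unfold srIdeal
    rw [Ideal.span_le]
    rintro _ ⟨α, β, hαβ, hβα, rfl⟩
    rw [SetLike.mem_coe, RingHom.mem_ker]
    show psi K hd w omSR (pairHyp_SR K hd hdn) (X α * X β) = 0
    rw [psi_X_mul]
    set D := reesData K hd w omSR (pairHyp_SR K hd hdn) with hD
    obtain ⟨g, hg, hmem⟩ := quad_full K hd (le_of_lt hdn) α.1 β.1
    have hα' : ¬ α.1 ≤ β.1 := hαβ
    have hβ' : ¬ β.1 ≤ α.1 := hβα
    have hMα : α.1 < W4bk4grassmannian.sup α.1 β.1 := by
      refine lt_of_le_of_ne (le_sup_left' _ _) ?_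
      intro h
      apply hβ'
      rw [h]
      exact le_sup_right' _ _
    have hMβ : β.1 < W4bk4grassmannian.sup α.1 β.1 := by
      refine lt_of_le_of_ne (le_sup_right' _ _) ?_
      intro h
      apply hα'
      rw [h]
      exact le_sup_left' _ _
    have hstrict := omSR_lt (wt_lt_of_lt hMα) (wt_lt_of_lt hMβ) (wt_sup_inf α.1 β.1)
    have hpos : 0 < omSR α.1 + omSR β.1 := by omega
    have hy : Ideal.Quotient.mk (schubertVanishing K d n w) (X α.1 * X β.1) ∈
        D.Fil (omSR α.1 + omSR β.1 - 1) := by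
      have hsplit : X α.1 * X β.1 = (X (W4bk4grassmannian.sup α.1 β.1) * X (W4bk4grassmannian.inf α.1 β.1) + g) +
          (X α.1 * X β.1 - X (W4bk4grassmannian.sup α.1 β.1) * X (W4bk4grassmannian.inf α.1 β.1) - g) := by
        ring
      rw [hsplit, map_add, mkB_top_eq_zero K hd w _ hmem, add_zero, map_add]
      apply Submodule.add_mem
      · exact mkB_pair_mem K hd w omSR (pairHyp_SR K hd hdn) _ _ _ (by omega)
      · have hle2 : Submodule.span K {f : PlRing K d n | ∃ α' β' : Idx d n,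
            β' ≤ α' ∧ W4bk4grassmannian.sup α.1 β.1 < α' ∧ β' < W4bk4grassmannian.inf α.1 β.1 ∧
            wt α' + wt β' = wt α.1 + wt β.1 ∧
            (expo α'.1 + expo β'.1) ≺[MonomialOrder.lex] (expo α.1.1 + expo β.1.1) ∧ f = X α' * X β'} ≤
            (D.Fil (omSR α.1 + omSR β.1 - 1)).comap
              (Ideal.Quotient.mkₐ K (schubertVanishing K d n w)).toLinearMap := by
          rw [Submodule.span_le]
          rintro _ ⟨α', β', _, hα'M, _, hwt, _, rfl⟩
          rw [SetLike.mem_coe, Submodule.mem_comap]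
          show Ideal.Quotient.mk (schubertVanishing K d n w) (X α' * X β') ∈ _
          apply mkB_pair_mem K hd w omSR (pairHyp_SR K hd hdn)
          have := omSR_lt (wt_lt_of_lt (lt_trans hMα hα'M)) (wt_lt_of_lt (lt_trans hMβ hα'M)) hwt
          omega
        exact hle2 hg
    exact D.mk_el_of_lt (omSR α.1 + omSR β.1) _ hpos hy
  have := hle hf
  rw [RingHom.mem_ker] at this
  exact this

theorem span_mT_SR :
    Submodule.span K (Set.range fun c : StdW w => Ideal.Quotient.mk (srIdeal K w) (mT K w c)) = ⊤ := by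
  rw [eq_top_iff]
  intro y _
  obtain ⟨f, rfl⟩ := Ideal.Quotient.mk_surjective y
  have hf : f ∈ Submodule.span K {f : MvPolynomial (Below w) K |
      ∃ (m : ℕ) (θ : Fin m → Below w), f = seqMon K θ} := by
    rw [span_seqMon]; trivial
  have : (Ideal.Quotient.mkₐ K (srIdeal K w)).toLinearMap f ∈
      Submodule.map (Ideal.Quotient.mkₐ K (srIdeal K w)).toLinearMap
      (Submodule.span K {f : MvPolynomial (Below w) K |
      ∃ (m : ℕ) (θ : Fin m → Below w), f = seqMon K θ}) := ⟨f, hf, rfl⟩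
  rw [Submodule.map_span] at this
  refine (Submodule.span_le.mpr ?_) this
  rintro _ ⟨_, ⟨m, θ, rfl⟩, rfl⟩
  show Ideal.Quotient.mk (srIdeal K w) (seqMon K θ) ∈ _
  by_cases hcomp : ∀ k l, (θ k).1 ≤ (θ l).1 ∨ (θ l).1 ≤ (θ k).1
  · obtain ⟨σ, hσ⟩ := exists_perm_antitone (fun k => (θ k).1) hcomp
    apply Submodule.subset_span
    refine ⟨⟨m, fun k => (θ (σ k)).1, hσ, fun k => (θ (σ k)).2⟩, ?_⟩
    show Ideal.Quotient.mk (srIdeal K w) (mT K w _) = _
    congr 1
    rw [← seqMon_perm K θ σ]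
    rfl
  · push Not at hcomp
    obtain ⟨k, l, h1, h2⟩ := hcomp
    have hkl : k ≠ l := by
      intro h
      apply h1
      rw [h]
    have hmem : seqMon K θ ∈ srIdeal K w := by
      rw [seqMon_eq_mul K θ k l hkl]
      apply Ideal.mul_mem_right
      exact Ideal.subset_span ⟨θ k, θ l, h1, h2, rfl⟩
    rw [Ideal.Quotient.eq_zero_iff_mem.mpr hmem]
    exact Submodule.zero_mem _

include hd hdn in
/-- Degeneration of the cone over a Schubert variety to the Stanley–Reisner ring of `H(w)`. -/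
theorem sr_degeneration :
    ∃ (R : Type u) (_ : CommRing R) (_ : Algebra K R) (_ : Algebra (Polynomial K) R)
      (_ : IsScalarTower K (Polynomial K) R),
      Module.Free (Polynomial K) R ∧
      Nonempty ((R ⧸ Ideal.span {algebraMap (Polynomial K) R Polynomial.X}) ≃ₐ[K]
        (MvPolynomial (Below w) K ⧸ srIdeal K w)) ∧
      ∀ c : K, c ≠ 0 →
        Nonempty ((R ⧸ Ideal.span {algebraMap (Polynomial K) R (Polynomial.X - Polynomial.C c)}) ≃ₐ[K]
          (PlRing K d n ⧸ schubertVanishing K d n w)) :=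
  ⟨(reesData K hd w omSR (pairHyp_SR K hd hdn)).R, inferInstance, inferInstance, inferInstance,
    inferInstance, (reesData K hd w omSR (pairHyp_SR K hd hdn)).free,
    degen_iso K hd w omSR (pairHyp_SR K hd hdn) (srIdeal K w) (psi_kill_SR K hd hdn w)
      (span_mT_SR K w),
    fun c hc => ⟨(reesData K hd w omSR (pairHyp_SR K hd hdn)).fibreEquiv c hc⟩⟩

end Groth.Agent.Lib.Helper6.Gr

end
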