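import Groth.Agent.Lib.Helper6.Grass.Degen2
import Groth.Agent.Lib.Helper6.Grass.QuadFull

/-!
# Grassmannian: monomials as products along sequences, sorting of chains (helper6)
-/

open scoped Classical
set_option linter.unusedSectionVars false
set_option autoImplicit false

universe u v

noncomputable section

namespace Groth.Agent.Lib.Helper6.Gr

open W4bk4grassmannian MvPolynomial Groth.Agent.Lib.Helper6.Rees

variable {d n : ℕ}

lemma wt_le (θ : Idx d n) : wt θ ≤ n * d := by
  unfold wt wtF
  calc ∑ t, (θ.1 t).val ≤ ∑ _t : Fin d, n := Finset.sum_le_sum fun t _ => le_of_lt (θ.1 t).isLt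
    _ = n * d := by rw [Finset.sum_const, Finset.card_univ, Fintype.card_fin, smul_eq_mul, mul_comm]

lemma wt_mono {a b : Idx d n} (h : a ≤ b) : wt a ≤ wt b := by
  rcases eq_or_lt_of_le h with h | h
  · rw [h]
  · exact le_of_lt (wt_lt_of_lt h)

/-- A tuple of pairwise comparable indices can be rearranged into a decreasing one. -/
lemma exists_perm_antitone {m : ℕ} (θ : Fin m → Idx d n) (hcomp : ∀ k l, θ k ≤ θ l ∨ θ l ≤ θ k) :
    ∃ σ : Equiv.Perm (Fin m), Antitone (θ ∘ σ) := by
  refine ⟨Tuple.sort (fun k => n * d - wt (θ k)), ?_⟩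
  intro k l hkl
  have hmono := Tuple.monotone_sort (fun k => n * d - wt (θ k)) hkl
  simp only [Function.comp_apply] at hmono
  generalize Tuple.sort (fun k => n * d - wt (θ k)) = σ at hmono ⊢
  have h1 := wt_le (θ (σ k))
  have h2 := wt_le (θ (σ l))
  have hwt : wt (θ (σ l)) ≤ wt (θ (σ k)) := by omega
  show θ (σ l) ≤ θ (σ k)
  rcases hcomp (σ k) (σ l) with h | h
  · rcases eq_or_lt_of_le h with h' | h'
    · rw [h']
    · have := wt_lt_of_lt h'
      omega
  · exact h

variable (K : Type u) [CommRing K]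

/-- The monomial along a sequence. -/
def seqMon {σ : Type*} {m : ℕ} (θ : Fin m → σ) : MvPolynomial σ K := ∏ k, X (θ k)

lemma seqMon_cons {σ : Type*} {m : ℕ} (a : σ) (θ : Fin m → σ) :
    seqMon K (Fin.cons a θ : Fin (m + 1) → σ) = X a * seqMon K θ := by
  unfold seqMon
  rw [Fin.prod_univ_succ]
  simp only [Fin.cons_zero, Fin.cons_succ]

theorem span_seqMon (σ : Type*) :
    Submodule.span K {f : MvPolynomial σ K | ∃ (m : ℕ) (θ : Fin m → σ), f = seqMon K θ} = ⊤ := by
  rw [eq_top_iff]
  suffices key : ∀ p : MvPolynomial σ K,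
      p ∈ Submodule.span K {f : MvPolynomial σ K | ∃ (m : ℕ) (θ : Fin m → σ), f = seqMon K θ} from
    fun p _ => key p
  intro p
  induction p using MvPolynomial.induction_on with
  | C a =>
    have : (C a : MvPolynomial σ K) = a • seqMon K (Fin.elim0 : Fin 0 → σ) := by
      unfold seqMon
      simp [MvPolynomial.smul_eq_C_mul]
    rw [this]
    exact Submodule.smul_mem _ _ (Submodule.subset_span ⟨0, Fin.elim0, rfl⟩)
  | add p q hp hq => exact Submodule.add_mem _ hp hq
  | mul_X p i hp =>
    have hle : Submodule.span K {f : MvPolynomial σ K | ∃ (m : ℕ) (θ : Fin m → σ), f = seqMon K θ} ≤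
        (Submodule.span K {f : MvPolynomial σ K | ∃ (m : ℕ) (θ : Fin m → σ), f = seqMon K θ}).comap
          (LinearMap.mulRight K (X i : MvPolynomial σ K)) := by
      rw [Submodule.span_le]
      rintro _ ⟨m, θ, rfl⟩
      rw [SetLike.mem_coe, Submodule.mem_comap, LinearMap.mulRight_apply]
      apply Submodule.subset_span
      refine ⟨m + 1, Fin.cons i θ, ?_⟩
      rw [seqMon_cons, mul_comm]
    have := hle hp
    rw [Submodule.mem_comap, LinearMap.mulRight_apply] at this
    exact this

lemma seqMon_perm {σ : Type*} {m : ℕ} (θ : Fin m → σ) (e : Equiv.Perm (Fin m)) :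
    seqMon K (θ ∘ e) = seqMon K θ := by
  unfold seqMon
  exact Equiv.prod_comp e (fun k => (X (θ k) : MvPolynomial σ K))

/-- A sequence with two distinguished positions factors through the product of the two variables. -/
lemma seqMon_eq_mul {σ : Type*} {m : ℕ} (θ : Fin m → σ) (k l : Fin m) (hkl : k ≠ l) :
    seqMon K θ = X (θ k) * X (θ l) * ∏ j ∈ (Finset.univ.erase k).erase l, X (θ j) := by
  unfold seqMon
  rw [← Finset.mul_prod_erase _ _ (Finset.mem_univ k),
    ← Finset.mul_prod_erase _ _ (Finset.mem_erase.mpr ⟨hkl.symm, Finset.mem_univ l⟩), mul_assoc]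

end Groth.Agent.Lib.Helper6.Gr

end
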