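import Groth.Agent.Lib.Helper6.Grass.Sort

/-!
# Grassmannian standard monomial theory: shuffle relations and straightening (helper6)
-/

open scoped Classical
set_option linter.unusedSectionVars false
set_option autoImplicit false

universe u

namespace Groth.Agent.Lib.Helper6.Gr

open W4bk4grassmannian MvPolynomial

variable {d n : ℕ}

lemma movingRows_of_le (i j : Idx d n) (r : Fin d) (k : Fin (d + 1)) (h : k.val ≤ r.val) :
    movingRows i j r k = i.1 ⟨k.val, lt_of_le_of_lt h r.isLt⟩ := by
  unfold movingRows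
  rw [dif_pos h]

lemma movingRows_of_gt (i j : Idx d n) (r : Fin d) (k : Fin (d + 1)) (h : r.val < k.val) :
    movingRows i j r k = j.1 ⟨k.val - 1, by have := k.isLt; omega⟩ := by
  unfold movingRows
  rw [dif_neg (by omega)]

/-- Under the pivot condition the moving rows are strictly increasing. -/
lemma movingRows_strictMono (i j : Idx d n) (r : Fin d) (hp : i.1 r < j.1 r) :
    StrictMono (movingRows i j r) := by
  intro k k' hkk
  have hkk' : k.val < k'.val := hkk
  by_cases h1 : k'.val ≤ r.val
  · rw [movingRows_of_le _ _ _ _ h1, movingRows_of_le _ _ _ _ (by omega)]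
    exact i.2 (Fin.mk_lt_mk.mpr hkk')
  · push Not at h1
    rw [movingRows_of_gt _ _ _ _ h1]
    by_cases h2 : k.val ≤ r.val
    · rw [movingRows_of_le _ _ _ _ h2]
      have e1 : i.1 ⟨k.val, lt_of_le_of_lt h2 r.isLt⟩ ≤ i.1 r :=
        i.2.monotone (Fin.le_def.mpr h2)
      have e2 : j.1 r ≤ j.1 ⟨k'.val - 1, by have := k'.isLt; omega⟩ :=
        j.2.monotone (Fin.le_def.mpr (by simp only; omega))
      exact lt_of_le_of_lt e1 (lt_of_lt_of_le hp e2)
    · push Not at h2
      rw [movingRows_of_gt _ _ _ _ h2]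
      exact j.2 (Fin.mk_lt_mk.mpr (by omega))

/-- The identity shuffle: the first `r + 1` positions. -/
def A0 (r : Fin d) : Finset (Fin (d + 1)) := Finset.univ.filter fun k => k.val ≤ r.val

lemma mem_A0 (r : Fin d) (k : Fin (d + 1)) : k ∈ A0 r ↔ k.val ≤ r.val := by
  simp [A0]

lemma card_A0 (r : Fin d) : (A0 r).card = r.val + 1 := by
  have : A0 r = Finset.Iic (⟨r.val, by have := r.isLt; omega⟩ : Fin (d + 1)) := by
    ext k
    rw [mem_A0, Finset.mem_Iic, Fin.le_def]
  rw [this, Fin.card_Iic]

lemma orderEmb_A0 (r : Fin d) (t : Fin (r.val + 1)) :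
    (A0 r).orderEmbOfFin (card_A0 r) t = ⟨t.val, by have := t.isLt; have := r.isLt; omega⟩ := by
  have := Finset.orderEmbOfFin_unique (card_A0 r)
    (f := fun t : Fin (r.val + 1) => (⟨t.val, by have := t.isLt; have := r.isLt; omega⟩ : Fin (d + 1)))
    (fun x => by rw [mem_A0]; have := x.isLt; simp only; omega)
    (fun x y hxy => Fin.mk_lt_mk.mpr hxy)
  rw [← this]

lemma card_compl_A0 (r : Fin d) : (A0 r)ᶜ.card = d - r.val := by
  rw [Finset.card_compl, card_A0, Fintype.card_fin]; omega

lemma orderEmb_compl_A0 (r : Fin d) (t : Fin (d - r.val)) :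
    (A0 r)ᶜ.orderEmbOfFin (card_compl_A0 r) t =
      ⟨t.val + r.val + 1, by have := t.isLt; have := r.isLt; omega⟩ := by
  have := Finset.orderEmbOfFin_unique (card_compl_A0 r)
    (f := fun t : Fin (d - r.val) =>
      (⟨t.val + r.val + 1, by have := t.isLt; have := r.isLt; omega⟩ : Fin (d + 1)))
    (fun x => by rw [Finset.mem_compl, mem_A0]; simp only; omega)
    (fun x y hxy => Fin.mk_lt_mk.mpr (by have : x.val < y.val := hxy; omega))
  rw [← this]

lemma shuffleI_A0 (i j : Idx d n) (r : Fin d) :
    shuffleI i j r (A0 r) (card_A0 r) = i.1 := by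
  funext t
  unfold shuffleI
  by_cases h : t.val ≤ r.val
  · rw [dif_pos h, orderEmb_A0, movingRows_of_le _ _ _ _ (by simpa using h)]
  · rw [dif_neg h]

lemma shuffleJ_A0 (i j : Idx d n) (r : Fin d) :
    shuffleJ i j r (A0 r) (card_A0 r) = j.1 := by
  funext t
  unfold shuffleJ
  by_cases h : t.val < r.val
  · simp only [dif_pos h]
  · simp only [dif_neg h]
    rw [orderEmb_compl_A0, movingRows_of_gt _ _ _ _ (by simp only; omega)]
    exact congrArg j.1 (Fin.ext (by simp only; omega))

lemma shuffleSign_A0 (r : Fin d) : shuffleSign r (A0 r) = 0 := by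
  unfold shuffleSign
  have : ((A0 r).sum fun a => a.val) = ∑ k ∈ Finset.range (r.val + 1), k := by
    apply Finset.sum_nbij (fun a => a.val)
    · intro a ha
      rw [mem_A0] at ha
      rw [Finset.mem_range]; omega
    · intro a _ b _ hab
      exact Fin.ext hab
    · intro k hk
      have hk' : k < r.val + 1 := by simpa using hk
      refine ⟨⟨k, by have := r.isLt; omega⟩, ?_, rfl⟩
      simp only [Finset.mem_coe, mem_A0]
      omega
    · intro a _
      rfl
  rw [this, Finset.sum_range_id]
  have : (r.val + 1) * (r.val + 1 - 1) = r.val * (r.val + 1) := by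
    rw [Nat.add_sub_cancel, mul_comm]
  rw [this]
  exact Nat.sub_self _

variable (K : Type u) [CommRing K]

lemma invCount_of_strictMono (a : Idx d n) : invCount d n a.1 = 0 := by
  unfold invCount
  rw [Finset.card_eq_zero, Finset.filter_eq_empty_iff]
  intro p _ hp
  exact absurd (a.2 hp.1) (not_lt.mpr (le_of_lt hp.2))

lemma coord_of_idx (a : Idx d n) : coord K d n a.1 = X a := by
  unfold coord
  have h := card_image_of_inj a.1 a.2.injective
  rw [dif_pos h, invCount_of_strictMono, pow_zero, one_mul, sortIdx_self]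

lemma shuffleTerm_A0 (i j : Idx d n) (r : Fin d) :
    shuffleTerm K i j r (A0 r) = X i * X j := by
  unfold shuffleTerm
  rw [dif_pos (card_A0 r), shuffleSign_A0, pow_zero, one_mul, shuffleI_A0, shuffleJ_A0,
    coord_of_idx, coord_of_idx]

/-- `shuffleI ≥ i` pointwise (under the pivot condition). -/
lemma le_shuffleI (i j : Idx d n) (r : Fin d) (hp : i.1 r < j.1 r) (A : Finset (Fin (d + 1)))
    (hA : A.card = r.val + 1) (t : Fin d) : i.1 t ≤ shuffleI i j r A hA t := by
  unfold shuffleI
  by_cases h : t.val ≤ r.val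
  · rw [dif_pos h]
    have h1 := val_le_of_strictMono _ (A.orderEmbOfFin hA).strictMono ⟨t.val, by omega⟩
    have h2 : (⟨t.val, by have := t.isLt; omega⟩ : Fin (d + 1)) ≤ A.orderEmbOfFin hA ⟨t.val, by omega⟩ := by
      rw [Fin.le_def]; exact h1
    have h3 := (movingRows_strictMono i j r hp).monotone h2
    rw [movingRows_of_le _ _ _ _ (by simpa using h)] at h3
    exact h3
  · rw [dif_neg h]

/-- `shuffleJ ≤ j` pointwise (under the pivot condition). -/
lemma shuffleJ_le (i j : Idx d n) (r : Fin d) (hp : i.1 r < j.1 r) (A : Finset (Fin (d + 1)))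
    (hA : A.card = r.val + 1) (t : Fin d) : shuffleJ i j r A hA t ≤ j.1 t := by
  unfold shuffleJ
  by_cases h : t.val < r.val
  · simp only [dif_pos h]; exact le_refl _
  · simp only [dif_neg h]
    have hC : Aᶜ.card = d - r.val := by rw [Finset.card_compl, hA, Fintype.card_fin]; omega
    have h1 := val_le_of_strictMono' _ (Aᶜ.orderEmbOfFin hC).strictMono
      ⟨t.val - r.val, by have := t.isLt; omega⟩
    simp only at h1
    have h2 : Aᶜ.orderEmbOfFin hC ⟨t.val - r.val, by have := t.isLt; omega⟩ ≤
        (⟨t.val + 1, by have := t.isLt; omega⟩ : Fin (d + 1)) := by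
      rw [Fin.le_def]; simp only; have := t.isLt; omega
    have h3 := (movingRows_strictMono i j r hp).monotone h2
    have e1 : movingRows i j r (⟨t.val + 1, by have := t.isLt; omega⟩ : Fin (d + 1)) = j.1 t := by
      rw [movingRows_of_gt _ _ _ _ (by simp only; omega)]
      exact congrArg j.1 (Fin.ext (by simp only; omega))
    exact h3.trans_eq e1

/-- If `shuffleI = i` then `A = A0`. -/
lemma eq_A0_of_shuffleI_eq (i j : Idx d n) (r : Fin d) (hp : i.1 r < j.1 r)
    (A : Finset (Fin (d + 1))) (hA : A.card = r.val + 1)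
    (h : ∀ t, shuffleI i j r A hA t = i.1 t) : A = A0 r := by
  symm
  apply Finset.eq_of_subset_of_card_le
  · intro k hk
    rw [mem_A0] at hk
    have hk' : k.val < d := lt_of_le_of_lt hk r.isLt
    have h1 := h ⟨k.val, hk'⟩
    unfold shuffleI at h1
    rw [dif_pos (by simpa using hk)] at h1
    have h2 : movingRows i j r k = i.1 ⟨k.val, hk'⟩ := movingRows_of_le _ _ _ _ hk
    rw [← h2] at h1
    have h3 := (movingRows_strictMono i j r hp).injective h1
    rw [← h3]
    exact Finset.orderEmbOfFin_mem _ _ _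
  · rw [hA, card_A0]

end Groth.Agent.Lib.Helper6.Gr
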