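import Mathlib
import Groth.Prelude.Def_W4bk4grassmannianPl

/-!
# Grassmannian standard monomial theory: sorting lemmas (helper6)
-/

open scoped Classical
set_option linter.unusedSectionVars false
set_option autoImplicit false

universe u

namespace Groth.Agent.Lib.Helper6.Gr

open W4bk4grassmannian MvPolynomial

variable {d n : ℕ}

lemma idx_le_iff (a b : Idx d n) : a ≤ b ↔ ∀ t, a.1 t ≤ b.1 t := Iff.rfl

lemma idx_ext {a b : Idx d n} (h : ∀ t, a.1 t = b.1 t) : a = b := Subtype.ext (funext h)

lemma card_image_of_inj (f : Fin d → Fin n) (hf : Function.Injective f) :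
    (Finset.univ.image f).card = d := by
  rw [Finset.card_image_of_injective _ hf, Finset.card_univ, Fintype.card_fin]

lemma inj_of_card_image (f : Fin d → Fin n) (h : (Finset.univ.image f).card = d) :
    Function.Injective f := by
  have h' : (Finset.univ.image f).card = (Finset.univ : Finset (Fin d)).card := by
    simpa using h
  have := Finset.card_image_iff.mp h'
  exact fun a b hab => this (by simp) (by simp) hab

lemma sortIdx_apply (f : Fin d → Fin n) (h : (Finset.univ.image f).card = d) (t : Fin d) :
    (sortIdx d n f h).1 t = (Finset.univ.image f).orderEmbOfFin h t := rfl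

/-- The sorted tuple of a strictly monotone tuple is itself. -/
lemma sortIdx_self (a : Idx d n) (h : (Finset.univ.image a.1).card = d) :
    sortIdx d n a.1 h = a := by
  apply idx_ext
  intro t
  rw [sortIdx_apply]
  have := Finset.orderEmbOfFin_unique h (f := a.1) (fun x => by simp) a.2
  rw [← this]

/-- Every value of the sorted tuple is a value of the tuple. -/
lemma sortIdx_mem (f : Fin d → Fin n) (h : (Finset.univ.image f).card = d) (t : Fin d) :
    ∃ u, f u = (sortIdx d n f h).1 t := by
  have := Finset.orderEmbOfFin_mem (Finset.univ.image f) h t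
  rw [Finset.mem_image] at this
  obtain ⟨u, -, hu⟩ := this
  exact ⟨u, hu⟩

lemma mem_sortIdx (f : Fin d → Fin n) (h : (Finset.univ.image f).card = d) (u : Fin d) :
    ∃ t, (sortIdx d n f h).1 t = f u := by
  have hr := Finset.range_orderEmbOfFin (Finset.univ.image f) h
  have : f u ∈ ((Finset.univ.image f : Finset (Fin n)) : Set (Fin n)) := by simp
  rw [← hr] at this
  obtain ⟨t, ht⟩ := this
  exact ⟨t, ht⟩

/-- If `a ≤ f` pointwise with `a` strictly monotone then `a ≤ sort f`. -/
lemma le_sortIdx (a : Idx d n) (f : Fin d → Fin n) (h : (Finset.univ.image f).card = d)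
    (haf : ∀ t, a.1 t ≤ f t) : a ≤ sortIdx d n f h := by
  intro t
  by_contra hlt
  push Not at hlt
  set e := (Finset.univ.image f).orderEmbOfFin h with he
  have hlt' : e t < a.1 t := hlt
  -- S = {u | f u < a t} ⊆ Iio t
  set S := Finset.univ.filter (fun u : Fin d => f u < a.1 t) with hS
  have hS1 : S ⊆ Finset.Iio t := by
    intro u hu
    simp only [hS, Finset.mem_filter, Finset.mem_univ, true_and] at hu
    rw [Finset.mem_Iio]
    by_contra hcon
    push Not at hcon
    have : a.1 t ≤ a.1 u := a.2.monotone hcon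
    exact absurd (lt_of_le_of_lt (le_trans this (haf u)) hu) (lt_irrefl _)
  have hS2 : S.card ≤ t.val := by
    calc S.card ≤ (Finset.Iio t).card := Finset.card_le_card hS1
      _ = t.val := Fin.card_Iio t
  have hT : (Finset.Iic t).image e ⊆ S.image f := by
    intro x hx
    rw [Finset.mem_image] at hx
    obtain ⟨v, hv, rfl⟩ := hx
    rw [Finset.mem_Iic] at hv
    have hmem := Finset.orderEmbOfFin_mem (Finset.univ.image f) h v
    rw [Finset.mem_image] at hmem
    obtain ⟨u, -, hu⟩ := hmem
    rw [Finset.mem_image]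
    refine ⟨u, ?_, hu⟩
    simp only [hS, Finset.mem_filter, Finset.mem_univ, true_and]
    rw [hu]
    exact lt_of_le_of_lt (e.monotone hv) hlt'
  have hT2 : ((Finset.Iic t).image e).card = t.val + 1 := by
    rw [Finset.card_image_of_injective _ e.injective, Fin.card_Iic]
  have := Finset.card_le_card hT
  have h3 : (S.image f).card ≤ S.card := Finset.card_image_le
  omega

/-- If `f ≤ b` pointwise with `b` strictly monotone then `sort f ≤ b`. -/
lemma sortIdx_le (b : Idx d n) (f : Fin d → Fin n) (h : (Finset.univ.image f).card = d)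
    (hfb : ∀ t, f t ≤ b.1 t) : sortIdx d n f h ≤ b := by
  intro t
  by_contra hlt
  push Not at hlt
  set e := (Finset.univ.image f).orderEmbOfFin h with he
  have hlt' : b.1 t < e t := hlt
  set S := Finset.univ.filter (fun u : Fin d => b.1 t < f u) with hS
  have hS1 : S ⊆ Finset.Ioi t := by
    intro u hu
    simp only [hS, Finset.mem_filter, Finset.mem_univ, true_and] at hu
    rw [Finset.mem_Ioi]
    by_contra hcon
    push Not at hcon
    have : b.1 u ≤ b.1 t := b.2.monotone hcon
    exact absurd (lt_of_lt_of_le hu (le_trans (hfb u) this)) (lt_irrefl _)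
  have hS2 : S.card ≤ d - 1 - t.val := by
    calc S.card ≤ (Finset.Ioi t).card := Finset.card_le_card hS1
      _ = d - 1 - t.val := Fin.card_Ioi t
  have hT : (Finset.Ici t).image e ⊆ S.image f := by
    intro x hx
    rw [Finset.mem_image] at hx
    obtain ⟨v, hv, rfl⟩ := hx
    rw [Finset.mem_Ici] at hv
    have hmem := Finset.orderEmbOfFin_mem (Finset.univ.image f) h v
    rw [Finset.mem_image] at hmem
    obtain ⟨u, -, hu⟩ := hmem
    rw [Finset.mem_image]
    refine ⟨u, ?_, hu⟩
    simp only [hS, Finset.mem_filter, Finset.mem_univ, true_and]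
    rw [hu]
    exact lt_of_lt_of_le hlt' (e.monotone hv)
  have hT2 : ((Finset.Ici t).image e).card = d - t.val := by
    rw [Finset.card_image_of_injective _ e.injective, Fin.card_Ici]
  have := Finset.card_le_card hT
  have h3 : (S.image f).card ≤ S.card := Finset.card_image_le
  have := t.isLt
  omega

/-- The sum of the entries is invariant under sorting. -/
lemma sum_sortIdx (f : Fin d → Fin n) (h : (Finset.univ.image f).card = d) :
    ∑ t, ((sortIdx d n f h).1 t).val = ∑ t, (f t).val := by
  have hinj := inj_of_card_image f h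
  have h1 : ∑ t, ((sortIdx d n f h).1 t).val = ∑ x ∈ Finset.univ.image f, x.val := by
    rw [← Finset.image_orderEmbOfFin_univ (Finset.univ.image f) h]
    rw [Finset.sum_image]
    · rfl
    · intro x _ y _ hxy
      exact ((Finset.univ.image f).orderEmbOfFin h).injective hxy
  rw [h1, Finset.sum_image]
  intro x _ y _ hxy
  exact hinj hxy

/-- If `a ≤ f` pointwise and `sort f = a` then `f = a`. -/
lemma eq_of_sortIdx_eq (a : Idx d n) (f : Fin d → Fin n) (h : (Finset.univ.image f).card = d)
    (haf : ∀ t, a.1 t ≤ f t) (hs : sortIdx d n f h = a) : ∀ t, f t = a.1 t := by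
  have hsum := sum_sortIdx f h
  rw [hs] at hsum
  by_contra hne
  push Not at hne
  obtain ⟨t0, ht0⟩ := hne
  have hlt : a.1 t0 < f t0 := lt_of_le_of_ne (haf t0) (Ne.symm ht0)
  have : ∑ t, (a.1 t).val < ∑ t, (f t).val := by
    apply Finset.sum_lt_sum
    · intro t _
      exact haf t
    · exact ⟨t0, Finset.mem_univ _, hlt⟩
  omega

/-- Strictly monotone `e : Fin a → Fin b` satisfies `t ≤ e t`. -/
lemma val_le_of_strictMono {a b : ℕ} (e : Fin a → Fin b) (he : StrictMono e) (t : Fin a) :
    t.val ≤ (e t).val := by
  obtain ⟨t, ht⟩ := t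
  induction t with
  | zero => exact Nat.zero_le _
  | succ k ih =>
    have hk : k < a := by omega
    have h1 := ih hk
    have h2 : e ⟨k, hk⟩ < e ⟨k + 1, ht⟩ := he (by simp [Fin.lt_def])
    have : (e ⟨k, hk⟩).val < (e ⟨k + 1, ht⟩).val := h2
    simp only at h1 ⊢
    omega

/-- Strictly monotone `e : Fin a → Fin b` satisfies `e t + (a - 1 - t) ≤ b - 1`. -/
lemma val_le_of_strictMono' {a b : ℕ} (e : Fin a → Fin b) (he : StrictMono e) (t : Fin a) :
    (e t).val + (a - t.val) ≤ b := by
  obtain ⟨t, ht⟩ := t
  -- downward induction: set s = a - 1 - t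
  generalize hs : a - 1 - t = s
  induction s generalizing t with
  | zero =>
    have : (e ⟨t, ht⟩).val < b := (e ⟨t, ht⟩).isLt
    simp only
    omega
  | succ k ih =>
    have hk : t + 1 < a := by omega
    have h1 := ih (t + 1) hk (by omega)
    have h2 : e ⟨t, ht⟩ < e ⟨t + 1, hk⟩ := he (by simp [Fin.lt_def])
    have : (e ⟨t, ht⟩).val < (e ⟨t + 1, hk⟩).val := h2
    simp only at h1 ⊢
    omega

end Groth.Agent.Lib.Helper6.Gr
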