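import Groth.Agent.Lib.Helper6.Grass.NormalSchubert
import Groth.Agent.Lib.Helper6.Grass.Nagata
import Groth.Agent.Lib.Helper6.Grass.DivComb
import Mathlib.Algebra.MvPolynomial.Division
import Mathlib.Algebra.MvPolynomial.Nilpotent
import Mathlib.RingTheory.Polynomial.Basic
import Mathlib.RingTheory.Noetherian.UniqueFactorizationDomain

/-!
# Grassmannian: factoriality of Schubert cones (helper6)
-/

open scoped Classical
set_option linter.unusedSectionVars false
set_option autoImplicit false

universe u v

noncomputable section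

namespace Groth.Agent.Lib.Helper6.Gr

open W4bk4grassmannian MvPolynomial

variable {d n : ℕ}

variable (K : Type u) [Field K] [Infinite K] (hd : 0 < d) (hdn : d < n) (τ : Idx d n)

include hd in
lemma X_not_mem (φ : Idx d n) : (X φ : PlRing K d n) ∉ schubertVanishing K d n φ := by
  intro h
  rw [schubertVanishing_eq_ker K hd, RingHom.mem_ker] at h
  have hm := (phi_X_monic K hd φ φ (le_refl φ)).1
  have : phi K φ (X φ) = 0 := h
  rw [this] at hm
  exact (MonomialOrder.Monic.ne_zero hm) rfl

include hd in
lemma X_mem_of_not_le (φ φ0 : Idx d n) (h : ¬ φ ≤ φ0) :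
    (X φ : PlRing K d n) ∈ schubertVanishing K d n φ0 := by
  rw [schubertVanishing_eq_plIdeal K hd]
  exact X_mem_plIdeal K φ0 φ h

include hd in
lemma xb_ne_zero : Ideal.Quotient.mk (schubertVanishing K d n τ) (X τ) ≠ 0 := by
  intro h
  rw [Ideal.Quotient.eq_zero_iff_mem] at h
  exact X_not_mem K hd τ h

include hd in
theorem prime_xb_iff : Prime (Ideal.Quotient.mk (schubertVanishing K d n τ) (X τ)) ↔
    (schubertVanishing K d n τ ⊔ Ideal.span {(X τ : PlRing K d n)}).IsPrime := by
  rw [← Ideal.span_singleton_prime (xb_ne_zero K hd τ)]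
  have e : Ideal.span {Ideal.Quotient.mk (schubertVanishing K d n τ) (X τ)} =
      (schubertVanishing K d n τ ⊔ Ideal.span {(X τ : PlRing K d n)}).map
        (Ideal.Quotient.mk (schubertVanishing K d n τ)) := by
    rw [Ideal.map_sup, Ideal.map_quotient_self, bot_sup_eq, Ideal.map_span, Set.image_singleton]
  constructor
  · intro h
    rw [e] at h
    have h2 := Ideal.comap_isPrime (Ideal.Quotient.mk (schubertVanishing K d n τ)) _ (H := h)
    rw [Ideal.comap_map_of_surjective _ Ideal.Quotient.mk_surjective, ← RingHom.ker_eq_comap_bot,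
      Ideal.mk_ker] at h2
    have e2 : schubertVanishing K d n τ ⊔ Ideal.span {(X τ : PlRing K d n)} ⊔
        schubertVanishing K d n τ = schubertVanishing K d n τ ⊔ Ideal.span {(X τ : PlRing K d n)} :=
      sup_eq_left.mpr le_sup_left
    rw [e2] at h2
    exact h2
  · intro h
    rw [e]
    exact Ideal.map_isPrime_of_surjective Ideal.Quotient.mk_surjective
      (by rw [Ideal.mk_ker]; exact le_sup_left)

include hd hdn in
theorem prime_xb_iff_subsingleton :
    Prime (Ideal.Quotient.mk (schubertVanishing K d n τ) (X τ)) ↔ (divisors τ).Subsingleton := by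
  constructor
  · intro hp
    rw [prime_xb_iff K hd τ] at hp
    intro φ1 hφ1 φ2 hφ2
    have hτ : ∃ φ : Idx d n, φ < τ := ⟨φ1, hφ1.1⟩
    rw [schubert_sup_span_eq K hd τ hτ] at hp
    set D : Finset (Idx d n) := Finset.univ.filter (fun φ => φ ∈ divisors τ) with hD
    have hinf : D.inf (fun φ => schubertVanishing K d n φ) =
        ⨅ φ ∈ divisors τ, schubertVanishing K d n φ := by
      rw [Finset.inf_eq_iInf]
      apply le_antisymm
      · simp only [le_iInf_iff]
        intro φ hφ
        exact iInf₂_le φ (by simp [hD, hφ])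
      · simp only [le_iInf_iff]
        intro φ hφ
        have : φ ∈ divisors τ := by
          simp only [hD, Finset.mem_filter, Finset.mem_univ, true_and] at hφ
          exact hφ
        exact iInf₂_le φ this
    obtain ⟨φ0, hφ0, hle⟩ := (Ideal.IsPrime.inf_le' hp).mp (le_of_eq hinf)
    have hφ0' : φ0 ∈ divisors τ := by
      simp only [hD, Finset.mem_filter, Finset.mem_univ, true_and] at hφ0
      exact hφ0
    have key : ∀ φ ∈ divisors τ, φ = φ0 := by
      intro φ hφ
      by_contra hne
      have hnle : ¬ φ ≤ φ0 := fun h => hne (divisor_eq_of_le hφ hφ0' h)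
      have h1 : (X φ : PlRing K d n) ∈ schubertVanishing K d n φ0 := X_mem_of_not_le K hd φ φ0 hnle
      have h2 : (X φ : PlRing K d n) ∈ ⨅ φ ∈ divisors τ, schubertVanishing K d n φ := hle h1
      rw [Ideal.mem_iInf] at h2
      have h3 := h2 φ
      rw [Ideal.mem_iInf] at h3
      exact X_not_mem K hd φ (h3 hφ)
    rw [key φ1 hφ1, key φ2 hφ2]
  · intro hsub
    by_cases hτ : ∃ φ : Idx d n, φ < τ
    · rw [prime_xb_iff K hd τ, schubert_sup_span_eq K hd τ hτ]
      obtain ⟨θ, hθ⟩ := hτ
      obtain ⟨φ0, hφ0, _⟩ := exists_divisor_ge θ τ hθ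
      have : ⨅ φ ∈ divisors τ, schubertVanishing K d n φ = schubertVanishing K d n φ0 := by
        apply le_antisymm
        · exact iInf₂_le φ0 hφ0
        · simp only [le_iInf_iff]
          intro φ hφ
          rw [hsub hφ hφ0]
      rw [this]
      exact schubert_isPrime K hd φ0
    · have : τ = iotaB hdn := by
        by_contra hne
        apply hτ
        exact ⟨iotaB hdn, lt_of_le_of_ne (iotaB_le hdn τ) (fun h => hne h.symm)⟩
      have hP := prime_bottom K hd hdn τ
      have e : (X τ : PlRing K d n) = X (iotaB hdn) := congrArg X this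
      rw [e]
      exact hP

include hd in
theorem ufd_of_prime_xb (h : Prime (Ideal.Quotient.mk (schubertVanishing K d n τ) (X τ))) :
    UniqueFactorizationMonoid (PlRing K d n ⧸ schubertVanishing K d n τ) := by
  haveI := schubert_isPrime K hd τ
  haveI : IsDomain (PlRing K d n ⧸ schubertVanishing K d n τ) := Ideal.Quotient.isDomain _
  haveI : WfDvdMonoid (PlRing K d n ⧸ schubertVanishing K d n τ) := IsNoetherianRing.wfDvdMonoid
  apply ufd_of_embedding (fQ K hd τ) (fQ_injective K hd τ) _ h
  · rw [fQ_X_tau]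
    exact MvPolynomial.X_prime
  · exact fQ_gen K hd τ

include hd in
theorem prime_xb_of_ufd (h : UniqueFactorizationMonoid (PlRing K d n ⧸ schubertVanishing K d n τ)) :
    Prime (Ideal.Quotient.mk (schubertVanishing K d n τ) (X τ)) := by
  haveI := schubert_isPrime K hd τ
  haveI : IsDomain (PlRing K d n ⧸ schubertVanishing K d n τ) := Ideal.Quotient.isDomain _
  have hXp : Prime (X (yv hd τ) : MvPolynomial (FV hd τ) K) := MvPolynomial.X_prime
  have unit_lift : ∀ a : PlRing K d n ⧸ schubertVanishing K d n τ, IsUnit (fQ K hd τ a) → IsUnit a := by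
    intro a ha
    rw [MvPolynomial.isUnit_iff_eq_C_of_isReduced] at ha
    obtain ⟨r, hr, har⟩ := ha
    have h1 : fQ K hd τ (Ideal.Quotient.mk _ (C r)) = C r := by
      rw [fQ_mk]
      exact (fC K hd τ).commutes r
    have h2 : a = Ideal.Quotient.mk _ (C r) := fQ_injective K hd τ (by rw [har, h1])
    rw [h2]
    exact (hr.map C).map (Ideal.Quotient.mk _)
  have hirr : Irreducible (Ideal.Quotient.mk (schubertVanishing K d n τ) (X τ)) := by
    constructor
    · intro hu
      have := hu.map (fQ K hd τ)
      rw [fQ_X_tau] at this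
      exact hXp.not_isUnit this
    · intro a b hab
      have h1 : (X (yv hd τ) : MvPolynomial (FV hd τ) K) = fQ K hd τ a * fQ K hd τ b := by
        rw [← map_mul, ← hab, fQ_X_tau]
      rcases hXp.irreducible.isUnit_or_isUnit h1 with hu | hu
      · exact Or.inl (unit_lift a hu)
      · exact Or.inr (unit_lift b hu)
  exact UniqueFactorizationMonoid.irreducible_iff_prime.mp hirr

include hd hdn in
theorem ufd_schubert_tfae :
    (UniqueFactorizationMonoid (PlRing K d n ⧸ schubertVanishing K d n τ) ↔
        Prime (Ideal.Quotient.mk (schubertVanishing K d n τ) (MvPolynomial.X τ))) ∧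
      (Prime (Ideal.Quotient.mk (schubertVanishing K d n τ) (MvPolynomial.X τ)) ↔
        (divisors τ).Subsingleton) ∧
      ((divisors τ).Subsingleton ↔
        ∃ s : ℕ, (∀ t : Fin d, t.val < s → (τ.1 t).val = t.val) ∧
          ∀ t t' : Fin d, s ≤ t.val → t.val + 1 = t'.val → (τ.1 t).val + 1 = (τ.1 t').val) :=
  ⟨⟨prime_xb_of_ufd K hd τ, ufd_of_prime_xb K hd τ⟩, prime_xb_iff_subsingleton K hd hdn τ,
    divisors_subsingleton_iff_shape τ⟩

end Groth.Agent.Lib.Helper6.Gr
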