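import Groth.Agent.Lib.Helper6.Grass.Straighten

/-!
# Grassmannian: straightening with weights (helper6)

If the quadratic straightening step does not increase a weight `ω₀` on the Plücker coordinates, then
every monomial is, modulo the shuffle relations, a combination of standard monomials of weight at most
its own.
-/

open scoped Classical
set_option linter.unusedSectionVars false
set_option autoImplicit false

universe u v

noncomputable section

namespace Groth.Agent.Lib.Helper6.Gr

open W4bk4grassmannian MvPolynomial

variable {d n : ℕ}

/-- Total weight of a tuple of indices. -/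
def Om (ω₀ : Idx d n → ℕ) {m : ℕ} (c : Fin m → Idx d n) : ℕ := ∑ k, ω₀ (c k)

lemma Om_cons (ω₀ : Idx d n → ℕ) {m : ℕ} (a : Idx d n) (c : Fin m → Idx d n) :
    Om ω₀ (Fin.cons a c : Fin (m + 1) → Idx d n) = ω₀ a + Om ω₀ c := by
  unfold Om
  rw [Fin.sum_univ_succ]
  simp only [Fin.cons_zero, Fin.cons_succ]

variable (K : Type u) [CommRing K]

/-- Span of the standard monomials of degree `m` and weight `≤ W`, modulo the shuffle relations. -/
def stdSpanW (ω₀ : Idx d n → ℕ) (m W : ℕ) :
    Submodule K (PlRing K d n ⧸ plIdealTop (d := d) (n := n) K) :=
  Submodule.span K {y | ∃ c : Fin m → Idx d n, Antitone c ∧ Om ω₀ c ≤ W ∧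
    y = Ideal.Quotient.mk (plIdealTop (d := d) (n := n) K) (chainMon K c)}

lemma stdSpanW_mono (ω₀ : Idx d n → ℕ) (m : ℕ) {W W' : ℕ} (h : W ≤ W') :
    stdSpanW K ω₀ m W ≤ stdSpanW K ω₀ m W' := by
  apply Submodule.span_mono
  rintro _ ⟨c, hc, hW, rfl⟩
  exact ⟨c, hc, le_trans hW h, rfl⟩

/-- The weighted pair relation. -/
def PairHyp (ω₀ : Idx d n → ℕ) : Prop :=
  ∀ a b : Idx d n, ¬ b ≤ a → X a * X b ∈
    Submodule.span K {f : PlRing K d n | ∃ a' b' : Idx d n, a < a' ∧
      ω₀ a' + ω₀ b' ≤ ω₀ a + ω₀ b ∧ f = X a' * X b'} ⊔
    (plIdealTop (d := d) (n := n) K).restrictScalars K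

theorem mk_chainMon_memW (ω₀ : Idx d n → ℕ) (hP : PairHyp K ω₀) (m : ℕ) : ∀ c : Fin m → Idx d n,
    Ideal.Quotient.mk (plIdealTop (d := d) (n := n) K) (chainMon K c) ∈
      stdSpanW K ω₀ m (Om ω₀ c) := by
  induction m with
  | zero =>
    intro c
    exact Submodule.subset_span ⟨c, fun x => x.elim0, le_refl _, rfl⟩
  | succ m ih =>
    have Q : ∀ a : Idx d n, ∀ rest : Fin m → Idx d n,
        Ideal.Quotient.mk (plIdealTop (d := d) (n := n) K) (X a * chainMon K rest) ∈
          stdSpanW K ω₀ (m + 1) (ω₀ a + Om ω₀ rest) := by
      intro a
      induction a using WellFoundedGT.induction with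
      | ind a IHa =>
        intro rest
        set Lq : (PlRing K d n ⧸ plIdealTop (d := d) (n := n) K) →ₗ[K]
            (PlRing K d n ⧸ plIdealTop (d := d) (n := n) K) :=
          LinearMap.mulLeft K (Ideal.Quotient.mk (plIdealTop (d := d) (n := n) K) (X a)) with hLq
        have hle : ∀ W, stdSpanW K ω₀ m W ≤ (stdSpanW K ω₀ (m + 1) (ω₀ a + W)).comap Lq := by
          intro W
          unfold stdSpanW
          rw [Submodule.span_le]
          rintro _ ⟨c', hc', hW, rfl⟩
          rw [SetLike.mem_coe, Submodule.mem_comap]
          simp only [hLq, LinearMap.mulLeft_apply, ← map_mul]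
          cases m with
          | zero =>
            rw [← chainMon_cons]
            refine Submodule.subset_span ⟨Fin.cons a c', fun x y _ => by
              have : x = y := by
                apply Fin.ext; have := x.isLt; have := y.isLt; omega
              rw [this], ?_, rfl⟩
            rw [Om_cons]
            omega
          | succ m' =>
            by_cases hb : c' 0 ≤ a
            · rw [← chainMon_cons]
              refine Submodule.subset_span ⟨Fin.cons a c', antitone_cons a c' hc' hb, ?_, rfl⟩
              rw [Om_cons]
              omega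
            · have hpr := hP a (c' 0) hb
              have hc'eq : chainMon K c' = X (c' 0) * chainMon K (Fin.tail c') := by
                rw [← chainMon_cons, Fin.cons_self_tail]
              have hOm : Om ω₀ c' = ω₀ (c' 0) + Om ω₀ (Fin.tail c') := by
                rw [← Om_cons, Fin.cons_self_tail]
              set g := chainMon K (Fin.tail c') with hg
              set Lg : PlRing K d n →ₗ[K] (PlRing K d n ⧸ plIdealTop (d := d) (n := n) K) :=
                (Ideal.Quotient.mkₐ K (plIdealTop (d := d) (n := n) K)).toLinearMap ∘ₗ
                  LinearMap.mulRight K g with hLg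
              have hle2 : Submodule.span K {f : PlRing K d n | ∃ a' b' : Idx d n, a < a' ∧
                    ω₀ a' + ω₀ b' ≤ ω₀ a + ω₀ (c' 0) ∧ f = X a' * X b'} ⊔
                  (plIdealTop (d := d) (n := n) K).restrictScalars K ≤
                  (Submodule.span K {y | ∃ c : Fin (m' + 1 + 1) → Idx d n, Antitone c ∧
                    Om ω₀ c ≤ ω₀ a + W ∧
                    y = Ideal.Quotient.mk (plIdealTop (d := d) (n := n) K) (chainMon K c)}).comap Lg := by
                apply sup_le
                · rw [Submodule.span_le]
                  rintro _ ⟨a', b', haa', hww, rfl⟩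
                  rw [SetLike.mem_coe, Submodule.mem_comap]
                  simp only [hLg, LinearMap.coe_comp, Function.comp_apply, LinearMap.mulRight_apply,
                    AlgHom.toLinearMap_apply, Ideal.Quotient.mkₐ_eq_mk]
                  have := IHa a' haa' (Fin.cons b' (Fin.tail c'))
                  rw [chainMon_cons, ← mul_assoc, Om_cons] at this
                  refine stdSpanW_mono K ω₀ _ ?_ this
                  omega
                · intro x hx
                  rw [Submodule.mem_comap]
                  simp only [hLg, LinearMap.coe_comp, Function.comp_apply, LinearMap.mulRight_apply,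
                    AlgHom.toLinearMap_apply, Ideal.Quotient.mkₐ_eq_mk]
                  have : x * g ∈ plIdealTop (d := d) (n := n) K := Ideal.mul_mem_right _ _ hx
                  rw [Ideal.Quotient.eq_zero_iff_mem.mpr this]
                  exact Submodule.zero_mem _
              have := hle2 hpr
              rw [Submodule.mem_comap] at this
              simp only [hLg, LinearMap.coe_comp, Function.comp_apply, LinearMap.mulRight_apply,
                AlgHom.toLinearMap_apply, Ideal.Quotient.mkₐ_eq_mk] at this
              rw [hc'eq, ← mul_assoc]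
              exact this
        have := hle (Om ω₀ rest) (ih rest)
        rw [Submodule.mem_comap] at this
        simpa only [hLq, LinearMap.mulLeft_apply, ← map_mul] using this
    intro c
    have := Q (c 0) (Fin.tail c)
    rw [← chainMon_cons, ← Om_cons, Fin.cons_self_tail] at this
    exact this

end Groth.Agent.Lib.Helper6.Gr

end
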